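/- Lists of all pairs and triples of the 24 points, and of the tetrads through the point 23. -/
import Cfsg.Agent.Base

namespace H72

noncomputable section

/-- masks of the 276 pairs. -/
def pairL : List ℕ := [
  nat_lit 3, nat_lit 5, nat_lit 6, nat_lit 9, nat_lit 10, nat_lit 12, nat_lit 17, nat_lit 18,
  nat_lit 20, nat_lit 24, nat_lit 33, nat_lit 34, nat_lit 36, nat_lit 40, nat_lit 48, nat_lit 65,
  nat_lit 66, nat_lit 68, nat_lit 72, nat_lit 80, nat_lit 96, nat_lit 129, nat_lit 130, nat_lit 132,
  nat_lit 136, nat_lit 144, nat_lit 160, nat_lit 192, nat_lit 257, nat_lit 258, nat_lit 260, nat_lit 264,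
  nat_lit 272, nat_lit 288, nat_lit 320, nat_lit 384, nat_lit 513, nat_lit 514, nat_lit 516, nat_lit 520,
  nat_lit 528, nat_lit 544, nat_lit 576, nat_lit 640, nat_lit 768, nat_lit 1025, nat_lit 1026, nat_lit 1028,
  nat_lit 1032, nat_lit 1040, nat_lit 1056, nat_lit 1088, nat_lit 1152, nat_lit 1280, nat_lit 1536, nat_lit 2049,
  nat_lit 2050, nat_lit 2052, nat_lit 2056, nat_lit 2064, nat_lit 2080, nat_lit 2112, nat_lit 2176, nat_lit 2304,
  nat_lit 2560, nat_lit 3072, nat_lit 4097, nat_lit 4098, nat_lit 4100, nat_lit 4104, nat_lit 4112, nat_lit 4128,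
  nat_lit 4160, nat_lit 4224, nat_lit 4352, nat_lit 4608, nat_lit 5120, nat_lit 6144, nat_lit 8193, nat_lit 8194,
  nat_lit 8196, nat_lit 8200, nat_lit 8208, nat_lit 8224, nat_lit 8256, nat_lit 8320, nat_lit 8448, nat_lit 8704,
  nat_lit 9216, nat_lit 10240, nat_lit 12288, nat_lit 16385, nat_lit 16386, nat_lit 16388, nat_lit 16392, nat_lit 16400,
  nat_lit 16416, nat_lit 16448, nat_lit 16512, nat_lit 16640, nat_lit 16896, nat_lit 17408, nat_lit 18432, nat_lit 20480,
  nat_lit 24576, nat_lit 32769, nat_lit 32770, nat_lit 32772, nat_lit 32776, nat_lit 32784, nat_lit 32800, nat_lit 32832,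
  nat_lit 32896, nat_lit 33024, nat_lit 33280, nat_lit 33792, nat_lit 34816, nat_lit 36864, nat_lit 40960, nat_lit 49152,
  nat_lit 65537, nat_lit 65538, nat_lit 65540, nat_lit 65544, nat_lit 65552, nat_lit 65568, nat_lit 65600, nat_lit 65664,
  nat_lit 65792, nat_lit 66048, nat_lit 66560, nat_lit 67584, nat_lit 69632, nat_lit 73728, nat_lit 81920, nat_lit 98304,
  nat_lit 131073, nat_lit 131074, nat_lit 131076, nat_lit 131080, nat_lit 131088, nat_lit 131104, nat_lit 131136, nat_lit 131200,
  nat_lit 131328, nat_lit 131584, nat_lit 132096, nat_lit 133120, nat_lit 135168, nat_lit 139264, nat_lit 147456, nat_lit 163840,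
  nat_lit 196608, nat_lit 262145, nat_lit 262146, nat_lit 262148, nat_lit 262152, nat_lit 262160, nat_lit 262176, nat_lit 262208,
  nat_lit 262272, nat_lit 262400, nat_lit 262656, nat_lit 263168, nat_lit 264192, nat_lit 266240, nat_lit 270336, nat_lit 278528,
  nat_lit 294912, nat_lit 327680, nat_lit 393216, nat_lit 524289, nat_lit 524290, nat_lit 524292, nat_lit 524296, nat_lit 524304,
  nat_lit 524320, nat_lit 524352, nat_lit 524416, nat_lit 524544, nat_lit 524800, nat_lit 525312, nat_lit 526336, nat_lit 528384,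
  nat_lit 532480, nat_lit 540672, nat_lit 557056, nat_lit 589824, nat_lit 655360, nat_lit 786432, nat_lit 1048577, nat_lit 1048578,
  nat_lit 1048580, nat_lit 1048584, nat_lit 1048592, nat_lit 1048608, nat_lit 1048640, nat_lit 1048704, nat_lit 1048832, nat_lit 1049088,
  nat_lit 1049600, nat_lit 1050624, nat_lit 1052672, nat_lit 1056768, nat_lit 1064960, nat_lit 1081344, nat_lit 1114112, nat_lit 1179648,
  nat_lit 1310720, nat_lit 1572864, nat_lit 2097153, nat_lit 2097154, nat_lit 2097156, nat_lit 2097160, nat_lit 2097168, nat_lit 2097184,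
  nat_lit 2097216, nat_lit 2097280, nat_lit 2097408, nat_lit 2097664, nat_lit 2098176, nat_lit 2099200, nat_lit 2101248, nat_lit 2105344,
  nat_lit 2113536, nat_lit 2129920, nat_lit 2162688, nat_lit 2228224, nat_lit 2359296, nat_lit 2621440, nat_lit 3145728, nat_lit 4194305,
  nat_lit 4194306, nat_lit 4194308, nat_lit 4194312, nat_lit 4194320, nat_lit 4194336, nat_lit 4194368, nat_lit 4194432, nat_lit 4194560,
  nat_lit 4194816, nat_lit 4195328, nat_lit 4196352, nat_lit 4198400, nat_lit 4202496, nat_lit 4210688, nat_lit 4227072, nat_lit 4259840,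
  nat_lit 4325376, nat_lit 4456448, nat_lit 4718592, nat_lit 5242880, nat_lit 6291456, nat_lit 8388609, nat_lit 8388610, nat_lit 8388612,
  nat_lit 8388616, nat_lit 8388624, nat_lit 8388640, nat_lit 8388672, nat_lit 8388736, nat_lit 8388864, nat_lit 8389120, nat_lit 8389632,
  nat_lit 8390656, nat_lit 8392704, nat_lit 8396800, nat_lit 8404992, nat_lit 8421376, nat_lit 8454144, nat_lit 8519680, nat_lit 8650752,
  nat_lit 8912896, nat_lit 9437184, nat_lit 10485760, nat_lit 12582912]

/-- masks of the 2024 triples. -/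
def tripL : List ℕ := [
  nat_lit 7, nat_lit 11, nat_lit 13, nat_lit 14, nat_lit 19, nat_lit 21, nat_lit 22, nat_lit 25,
  nat_lit 26, nat_lit 28, nat_lit 35, nat_lit 37, nat_lit 38, nat_lit 41, nat_lit 42, nat_lit 44,
  nat_lit 49, nat_lit 50, nat_lit 52, nat_lit 56, nat_lit 67, nat_lit 69, nat_lit 70, nat_lit 73,
  nat_lit 74, nat_lit 76, nat_lit 81, nat_lit 82, nat_lit 84, nat_lit 88, nat_lit 97, nat_lit 98,
  nat_lit 100, nat_lit 104, nat_lit 112, nat_lit 131, nat_lit 133, nat_lit 134, nat_lit 137, nat_lit 138,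
  nat_lit 140, nat_lit 145, nat_lit 146, nat_lit 148, nat_lit 152, nat_lit 161, nat_lit 162, nat_lit 164,
  nat_lit 168, nat_lit 176, nat_lit 193, nat_lit 194, nat_lit 196, nat_lit 200, nat_lit 208, nat_lit 224,
  nat_lit 259, nat_lit 261, nat_lit 262, nat_lit 265, nat_lit 266, nat_lit 268, nat_lit 273, nat_lit 274,
  nat_lit 276, nat_lit 280, nat_lit 289, nat_lit 290, nat_lit 292, nat_lit 296, nat_lit 304, nat_lit 321,
  nat_lit 322, nat_lit 324, nat_lit 328, nat_lit 336, nat_lit 352, nat_lit 385, nat_lit 386, nat_lit 388,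
  nat_lit 392, nat_lit 400, nat_lit 416, nat_lit 448, nat_lit 515, nat_lit 517, nat_lit 518, nat_lit 521,
  nat_lit 522, nat_lit 524, nat_lit 529, nat_lit 530, nat_lit 532, nat_lit 536, nat_lit 545, nat_lit 546,
  nat_lit 548, nat_lit 552, nat_lit 560, nat_lit 577, nat_lit 578, nat_lit 580, nat_lit 584, nat_lit 592,
  nat_lit 608, nat_lit 641, nat_lit 642, nat_lit 644, nat_lit 648, nat_lit 656, nat_lit 672, nat_lit 704,
  nat_lit 769, nat_lit 770, nat_lit 772, nat_lit 776, nat_lit 784, nat_lit 800, nat_lit 832, nat_lit 896,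
  nat_lit 1027, nat_lit 1029, nat_lit 1030, nat_lit 1033, nat_lit 1034, nat_lit 1036, nat_lit 1041, nat_lit 1042,
  nat_lit 1044, nat_lit 1048, nat_lit 1057, nat_lit 1058, nat_lit 1060, nat_lit 1064, nat_lit 1072, nat_lit 1089,
  nat_lit 1090, nat_lit 1092, nat_lit 1096, nat_lit 1104, nat_lit 1120, nat_lit 1153, nat_lit 1154, nat_lit 1156,
  nat_lit 1160, nat_lit 1168, nat_lit 1184, nat_lit 1216, nat_lit 1281, nat_lit 1282, nat_lit 1284, nat_lit 1288,
  nat_lit 1296, nat_lit 1312, nat_lit 1344, nat_lit 1408, nat_lit 1537, nat_lit 1538, nat_lit 1540, nat_lit 1544,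
  nat_lit 1552, nat_lit 1568, nat_lit 1600, nat_lit 1664, nat_lit 1792, nat_lit 2051, nat_lit 2053, nat_lit 2054,
  nat_lit 2057, nat_lit 2058, nat_lit 2060, nat_lit 2065, nat_lit 2066, nat_lit 2068, nat_lit 2072, nat_lit 2081,
  nat_lit 2082, nat_lit 2084, nat_lit 2088, nat_lit 2096, nat_lit 2113, nat_lit 2114, nat_lit 2116, nat_lit 2120,
  nat_lit 2128, nat_lit 2144, nat_lit 2177, nat_lit 2178, nat_lit 2180, nat_lit 2184, nat_lit 2192, nat_lit 2208,
  nat_lit 2240, nat_lit 2305, nat_lit 2306, nat_lit 2308, nat_lit 2312, nat_lit 2320, nat_lit 2336, nat_lit 2368,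
  nat_lit 2432, nat_lit 2561, nat_lit 2562, nat_lit 2564, nat_lit 2568, nat_lit 2576, nat_lit 2592, nat_lit 2624,
  nat_lit 2688, nat_lit 2816, nat_lit 3073, nat_lit 3074, nat_lit 3076, nat_lit 3080, nat_lit 3088, nat_lit 3104,
  nat_lit 3136, nat_lit 3200, nat_lit 3328, nat_lit 3584, nat_lit 4099, nat_lit 4101, nat_lit 4102, nat_lit 4105,
  nat_lit 4106, nat_lit 4108, nat_lit 4113, nat_lit 4114, nat_lit 4116, nat_lit 4120, nat_lit 4129, nat_lit 4130,
  nat_lit 4132, nat_lit 4136, nat_lit 4144, nat_lit 4161, nat_lit 4162, nat_lit 4164, nat_lit 4168, nat_lit 4176,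
  nat_lit 4192, nat_lit 4225, nat_lit 4226, nat_lit 4228, nat_lit 4232, nat_lit 4240, nat_lit 4256, nat_lit 4288,
  nat_lit 4353, nat_lit 4354, nat_lit 4356, nat_lit 4360, nat_lit 4368, nat_lit 4384, nat_lit 4416, nat_lit 4480,
  nat_lit 4609, nat_lit 4610, nat_lit 4612, nat_lit 4616, nat_lit 4624, nat_lit 4640, nat_lit 4672, nat_lit 4736,
  nat_lit 4864, nat_lit 5121, nat_lit 5122, nat_lit 5124, nat_lit 5128, nat_lit 5136, nat_lit 5152, nat_lit 5184,
  nat_lit 5248, nat_lit 5376, nat_lit 5632, nat_lit 6145, nat_lit 6146, nat_lit 6148, nat_lit 6152, nat_lit 6160,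
  nat_lit 6176, nat_lit 6208, nat_lit 6272, nat_lit 6400, nat_lit 6656, nat_lit 7168, nat_lit 8195, nat_lit 8197,
  nat_lit 8198, nat_lit 8201, nat_lit 8202, nat_lit 8204, nat_lit 8209, nat_lit 8210, nat_lit 8212, nat_lit 8216,
  nat_lit 8225, nat_lit 8226, nat_lit 8228, nat_lit 8232, nat_lit 8240, nat_lit 8257, nat_lit 8258, nat_lit 8260,
  nat_lit 8264, nat_lit 8272, nat_lit 8288, nat_lit 8321, nat_lit 8322, nat_lit 8324, nat_lit 8328, nat_lit 8336,
  nat_lit 8352, nat_lit 8384, nat_lit 8449, nat_lit 8450, nat_lit 8452, nat_lit 8456, nat_lit 8464, nat_lit 8480,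
  nat_lit 8512, nat_lit 8576, nat_lit 8705, nat_lit 8706, nat_lit 8708, nat_lit 8712, nat_lit 8720, nat_lit 8736,
  nat_lit 8768, nat_lit 8832, nat_lit 8960, nat_lit 9217, nat_lit 9218, nat_lit 9220, nat_lit 9224, nat_lit 9232,
  nat_lit 9248, nat_lit 9280, nat_lit 9344, nat_lit 9472, nat_lit 9728, nat_lit 10241, nat_lit 10242, nat_lit 10244,
  nat_lit 10248, nat_lit 10256, nat_lit 10272, nat_lit 10304, nat_lit 10368, nat_lit 10496, nat_lit 10752, nat_lit 11264,
  nat_lit 12289, nat_lit 12290, nat_lit 12292, nat_lit 12296, nat_lit 12304, nat_lit 12320, nat_lit 12352, nat_lit 12416,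
  nat_lit 12544, nat_lit 12800, nat_lit 13312, nat_lit 14336, nat_lit 16387, nat_lit 16389, nat_lit 16390, nat_lit 16393,
  nat_lit 16394, nat_lit 16396, nat_lit 16401, nat_lit 16402, nat_lit 16404, nat_lit 16408, nat_lit 16417, nat_lit 16418,
  nat_lit 16420, nat_lit 16424, nat_lit 16432, nat_lit 16449, nat_lit 16450, nat_lit 16452, nat_lit 16456, nat_lit 16464,
  nat_lit 16480, nat_lit 16513, nat_lit 16514, nat_lit 16516, nat_lit 16520, nat_lit 16528, nat_lit 16544, nat_lit 16576,
  nat_lit 16641, nat_lit 16642, nat_lit 16644, nat_lit 16648, nat_lit 16656, nat_lit 16672, nat_lit 16704, nat_lit 16768,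
  nat_lit 16897, nat_lit 16898, nat_lit 16900, nat_lit 16904, nat_lit 16912, nat_lit 16928, nat_lit 16960, nat_lit 17024,
  nat_lit 17152, nat_lit 17409, nat_lit 17410, nat_lit 17412, nat_lit 17416, nat_lit 17424, nat_lit 17440, nat_lit 17472,
  nat_lit 17536, nat_lit 17664, nat_lit 17920, nat_lit 18433, nat_lit 18434, nat_lit 18436, nat_lit 18440, nat_lit 18448,
  nat_lit 18464, nat_lit 18496, nat_lit 18560, nat_lit 18688, nat_lit 18944, nat_lit 19456, nat_lit 20481, nat_lit 20482,
  nat_lit 20484, nat_lit 20488, nat_lit 20496, nat_lit 20512, nat_lit 20544, nat_lit 20608, nat_lit 20736, nat_lit 20992,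
  nat_lit 21504, nat_lit 22528, nat_lit 24577, nat_lit 24578, nat_lit 24580, nat_lit 24584, nat_lit 24592, nat_lit 24608,
  nat_lit 24640, nat_lit 24704, nat_lit 24832, nat_lit 25088, nat_lit 25600, nat_lit 26624, nat_lit 28672, nat_lit 32771,
  nat_lit 32773, nat_lit 32774, nat_lit 32777, nat_lit 32778, nat_lit 32780, nat_lit 32785, nat_lit 32786, nat_lit 32788,
  nat_lit 32792, nat_lit 32801, nat_lit 32802, nat_lit 32804, nat_lit 32808, nat_lit 32816, nat_lit 32833, nat_lit 32834,
  nat_lit 32836, nat_lit 32840, nat_lit 32848, nat_lit 32864, nat_lit 32897, nat_lit 32898, nat_lit 32900, nat_lit 32904,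
  nat_lit 32912, nat_lit 32928, nat_lit 32960, nat_lit 33025, nat_lit 33026, nat_lit 33028, nat_lit 33032, nat_lit 33040,
  nat_lit 33056, nat_lit 33088, nat_lit 33152, nat_lit 33281, nat_lit 33282, nat_lit 33284, nat_lit 33288, nat_lit 33296,
  nat_lit 33312, nat_lit 33344, nat_lit 33408, nat_lit 33536, nat_lit 33793, nat_lit 33794, nat_lit 33796, nat_lit 33800,
  nat_lit 33808, nat_lit 33824, nat_lit 33856, nat_lit 33920, nat_lit 34048, nat_lit 34304, nat_lit 34817, nat_lit 34818,
  nat_lit 34820, nat_lit 34824, nat_lit 34832, nat_lit 34848, nat_lit 34880, nat_lit 34944, nat_lit 35072, nat_lit 35328,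
  nat_lit 35840, nat_lit 36865, nat_lit 36866, nat_lit 36868, nat_lit 36872, nat_lit 36880, nat_lit 36896, nat_lit 36928,
  nat_lit 36992, nat_lit 37120, nat_lit 37376, nat_lit 37888, nat_lit 38912, nat_lit 40961, nat_lit 40962, nat_lit 40964,
  nat_lit 40968, nat_lit 40976, nat_lit 40992, nat_lit 41024, nat_lit 41088, nat_lit 41216, nat_lit 41472, nat_lit 41984,
  nat_lit 43008, nat_lit 45056, nat_lit 49153, nat_lit 49154, nat_lit 49156, nat_lit 49160, nat_lit 49168, nat_lit 49184,
  nat_lit 49216, nat_lit 49280, nat_lit 49408, nat_lit 49664, nat_lit 50176, nat_lit 51200, nat_lit 53248, nat_lit 57344,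
  nat_lit 65539, nat_lit 65541, nat_lit 65542, nat_lit 65545, nat_lit 65546, nat_lit 65548, nat_lit 65553, nat_lit 65554,
  nat_lit 65556, nat_lit 65560, nat_lit 65569, nat_lit 65570, nat_lit 65572, nat_lit 65576, nat_lit 65584, nat_lit 65601,
  nat_lit 65602, nat_lit 65604, nat_lit 65608, nat_lit 65616, nat_lit 65632, nat_lit 65665, nat_lit 65666, nat_lit 65668,
  nat_lit 65672, nat_lit 65680, nat_lit 65696, nat_lit 65728, nat_lit 65793, nat_lit 65794, nat_lit 65796, nat_lit 65800,
  nat_lit 65808, nat_lit 65824, nat_lit 65856, nat_lit 65920, nat_lit 66049, nat_lit 66050, nat_lit 66052, nat_lit 66056,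
  nat_lit 66064, nat_lit 66080, nat_lit 66112, nat_lit 66176, nat_lit 66304, nat_lit 66561, nat_lit 66562, nat_lit 66564,
  nat_lit 66568, nat_lit 66576, nat_lit 66592, nat_lit 66624, nat_lit 66688, nat_lit 66816, nat_lit 67072, nat_lit 67585,
  nat_lit 67586, nat_lit 67588, nat_lit 67592, nat_lit 67600, nat_lit 67616, nat_lit 67648, nat_lit 67712, nat_lit 67840,
  nat_lit 68096, nat_lit 68608, nat_lit 69633, nat_lit 69634, nat_lit 69636, nat_lit 69640, nat_lit 69648, nat_lit 69664,
  nat_lit 69696, nat_lit 69760, nat_lit 69888, nat_lit 70144, nat_lit 70656, nat_lit 71680, nat_lit 73729, nat_lit 73730,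
  nat_lit 73732, nat_lit 73736, nat_lit 73744, nat_lit 73760, nat_lit 73792, nat_lit 73856, nat_lit 73984, nat_lit 74240,
  nat_lit 74752, nat_lit 75776, nat_lit 77824, nat_lit 81921, nat_lit 81922, nat_lit 81924, nat_lit 81928, nat_lit 81936,
  nat_lit 81952, nat_lit 81984, nat_lit 82048, nat_lit 82176, nat_lit 82432, nat_lit 82944, nat_lit 83968, nat_lit 86016,
  nat_lit 90112, nat_lit 98305, nat_lit 98306, nat_lit 98308, nat_lit 98312, nat_lit 98320, nat_lit 98336, nat_lit 98368,
  nat_lit 98432, nat_lit 98560, nat_lit 98816, nat_lit 99328, nat_lit 100352, nat_lit 102400, nat_lit 106496, nat_lit 114688,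
  nat_lit 131075, nat_lit 131077, nat_lit 131078, nat_lit 131081, nat_lit 131082, nat_lit 131084, nat_lit 131089, nat_lit 131090,
  nat_lit 131092, nat_lit 131096, nat_lit 131105, nat_lit 131106, nat_lit 131108, nat_lit 131112, nat_lit 131120, nat_lit 131137,
  nat_lit 131138, nat_lit 131140, nat_lit 131144, nat_lit 131152, nat_lit 131168, nat_lit 131201, nat_lit 131202, nat_lit 131204,
  nat_lit 131208, nat_lit 131216, nat_lit 131232, nat_lit 131264, nat_lit 131329, nat_lit 131330, nat_lit 131332, nat_lit 131336,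
  nat_lit 131344, nat_lit 131360, nat_lit 131392, nat_lit 131456, nat_lit 131585, nat_lit 131586, nat_lit 131588, nat_lit 131592,
  nat_lit 131600, nat_lit 131616, nat_lit 131648, nat_lit 131712, nat_lit 131840, nat_lit 132097, nat_lit 132098, nat_lit 132100,
  nat_lit 132104, nat_lit 132112, nat_lit 132128, nat_lit 132160, nat_lit 132224, nat_lit 132352, nat_lit 132608, nat_lit 133121,
  nat_lit 133122, nat_lit 133124, nat_lit 133128, nat_lit 133136, nat_lit 133152, nat_lit 133184, nat_lit 133248, nat_lit 133376,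
  nat_lit 133632, nat_lit 134144, nat_lit 135169, nat_lit 135170, nat_lit 135172, nat_lit 135176, nat_lit 135184, nat_lit 135200,
  nat_lit 135232, nat_lit 135296, nat_lit 135424, nat_lit 135680, nat_lit 136192, nat_lit 137216, nat_lit 139265, nat_lit 139266,
  nat_lit 139268, nat_lit 139272, nat_lit 139280, nat_lit 139296, nat_lit 139328, nat_lit 139392, nat_lit 139520, nat_lit 139776,
  nat_lit 140288, nat_lit 141312, nat_lit 143360, nat_lit 147457, nat_lit 147458, nat_lit 147460, nat_lit 147464, nat_lit 147472,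
  nat_lit 147488, nat_lit 147520, nat_lit 147584, nat_lit 147712, nat_lit 147968, nat_lit 148480, nat_lit 149504, nat_lit 151552,
  nat_lit 155648, nat_lit 163841, nat_lit 163842, nat_lit 163844, nat_lit 163848, nat_lit 163856, nat_lit 163872, nat_lit 163904,
  nat_lit 163968, nat_lit 164096, nat_lit 164352, nat_lit 164864, nat_lit 165888, nat_lit 167936, nat_lit 172032, nat_lit 180224,
  nat_lit 196609, nat_lit 196610, nat_lit 196612, nat_lit 196616, nat_lit 196624, nat_lit 196640, nat_lit 196672, nat_lit 196736,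
  nat_lit 196864, nat_lit 197120, nat_lit 197632, nat_lit 198656, nat_lit 200704, nat_lit 204800, nat_lit 212992, nat_lit 229376,
  nat_lit 262147, nat_lit 262149, nat_lit 262150, nat_lit 262153, nat_lit 262154, nat_lit 262156, nat_lit 262161, nat_lit 262162,
  nat_lit 262164, nat_lit 262168, nat_lit 262177, nat_lit 262178, nat_lit 262180, nat_lit 262184, nat_lit 262192, nat_lit 262209,
  nat_lit 262210, nat_lit 262212, nat_lit 262216, nat_lit 262224, nat_lit 262240, nat_lit 262273, nat_lit 262274, nat_lit 262276,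
  nat_lit 262280, nat_lit 262288, nat_lit 262304, nat_lit 262336, nat_lit 262401, nat_lit 262402, nat_lit 262404, nat_lit 262408,
  nat_lit 262416, nat_lit 262432, nat_lit 262464, nat_lit 262528, nat_lit 262657, nat_lit 262658, nat_lit 262660, nat_lit 262664,
  nat_lit 262672, nat_lit 262688, nat_lit 262720, nat_lit 262784, nat_lit 262912, nat_lit 263169, nat_lit 263170, nat_lit 263172,
  nat_lit 263176, nat_lit 263184, nat_lit 263200, nat_lit 263232, nat_lit 263296, nat_lit 263424, nat_lit 263680, nat_lit 264193,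
  nat_lit 264194, nat_lit 264196, nat_lit 264200, nat_lit 264208, nat_lit 264224, nat_lit 264256, nat_lit 264320, nat_lit 264448,
  nat_lit 264704, nat_lit 265216, nat_lit 266241, nat_lit 266242, nat_lit 266244, nat_lit 266248, nat_lit 266256, nat_lit 266272,
  nat_lit 266304, nat_lit 266368, nat_lit 266496, nat_lit 266752, nat_lit 267264, nat_lit 268288, nat_lit 270337, nat_lit 270338,
  nat_lit 270340, nat_lit 270344, nat_lit 270352, nat_lit 270368, nat_lit 270400, nat_lit 270464, nat_lit 270592, nat_lit 270848,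
  nat_lit 271360, nat_lit 272384, nat_lit 274432, nat_lit 278529, nat_lit 278530, nat_lit 278532, nat_lit 278536, nat_lit 278544,
  nat_lit 278560, nat_lit 278592, nat_lit 278656, nat_lit 278784, nat_lit 279040, nat_lit 279552, nat_lit 280576, nat_lit 282624,
  nat_lit 286720, nat_lit 294913, nat_lit 294914, nat_lit 294916, nat_lit 294920, nat_lit 294928, nat_lit 294944, nat_lit 294976,
  nat_lit 295040, nat_lit 295168, nat_lit 295424, nat_lit 295936, nat_lit 296960, nat_lit 299008, nat_lit 303104, nat_lit 311296,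
  nat_lit 327681, nat_lit 327682, nat_lit 327684, nat_lit 327688, nat_lit 327696, nat_lit 327712, nat_lit 327744, nat_lit 327808,
  nat_lit 327936, nat_lit 328192, nat_lit 328704, nat_lit 329728, nat_lit 331776, nat_lit 335872, nat_lit 344064, nat_lit 360448,
  nat_lit 393217, nat_lit 393218, nat_lit 393220, nat_lit 393224, nat_lit 393232, nat_lit 393248, nat_lit 393280, nat_lit 393344,
  nat_lit 393472, nat_lit 393728, nat_lit 394240, nat_lit 395264, nat_lit 397312, nat_lit 401408, nat_lit 409600, nat_lit 425984,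
  nat_lit 458752, nat_lit 524291, nat_lit 524293, nat_lit 524294, nat_lit 524297, nat_lit 524298, nat_lit 524300, nat_lit 524305,
  nat_lit 524306, nat_lit 524308, nat_lit 524312, nat_lit 524321, nat_lit 524322, nat_lit 524324, nat_lit 524328, nat_lit 524336,
  nat_lit 524353, nat_lit 524354, nat_lit 524356, nat_lit 524360, nat_lit 524368, nat_lit 524384, nat_lit 524417, nat_lit 524418,
  nat_lit 524420, nat_lit 524424, nat_lit 524432, nat_lit 524448, nat_lit 524480, nat_lit 524545, nat_lit 524546, nat_lit 524548,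
  nat_lit 524552, nat_lit 524560, nat_lit 524576, nat_lit 524608, nat_lit 524672, nat_lit 524801, nat_lit 524802, nat_lit 524804,
  nat_lit 524808, nat_lit 524816, nat_lit 524832, nat_lit 524864, nat_lit 524928, nat_lit 525056, nat_lit 525313, nat_lit 525314,
  nat_lit 525316, nat_lit 525320, nat_lit 525328, nat_lit 525344, nat_lit 525376, nat_lit 525440, nat_lit 525568, nat_lit 525824,
  nat_lit 526337, nat_lit 526338, nat_lit 526340, nat_lit 526344, nat_lit 526352, nat_lit 526368, nat_lit 526400, nat_lit 526464,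
  nat_lit 526592, nat_lit 526848, nat_lit 527360, nat_lit 528385, nat_lit 528386, nat_lit 528388, nat_lit 528392, nat_lit 528400,
  nat_lit 528416, nat_lit 528448, nat_lit 528512, nat_lit 528640, nat_lit 528896, nat_lit 529408, nat_lit 530432, nat_lit 532481,
  nat_lit 532482, nat_lit 532484, nat_lit 532488, nat_lit 532496, nat_lit 532512, nat_lit 532544, nat_lit 532608, nat_lit 532736,
  nat_lit 532992, nat_lit 533504, nat_lit 534528, nat_lit 536576, nat_lit 540673, nat_lit 540674, nat_lit 540676, nat_lit 540680,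
  nat_lit 540688, nat_lit 540704, nat_lit 540736, nat_lit 540800, nat_lit 540928, nat_lit 541184, nat_lit 541696, nat_lit 542720,
  nat_lit 544768, nat_lit 548864, nat_lit 557057, nat_lit 557058, nat_lit 557060, nat_lit 557064, nat_lit 557072, nat_lit 557088,
  nat_lit 557120, nat_lit 557184, nat_lit 557312, nat_lit 557568, nat_lit 558080, nat_lit 559104, nat_lit 561152, nat_lit 565248,
  nat_lit 573440, nat_lit 589825, nat_lit 589826, nat_lit 589828, nat_lit 589832, nat_lit 589840, nat_lit 589856, nat_lit 589888,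
  nat_lit 589952, nat_lit 590080, nat_lit 590336, nat_lit 590848, nat_lit 591872, nat_lit 593920, nat_lit 598016, nat_lit 606208,
  nat_lit 622592, nat_lit 655361, nat_lit 655362, nat_lit 655364, nat_lit 655368, nat_lit 655376, nat_lit 655392, nat_lit 655424,
  nat_lit 655488, nat_lit 655616, nat_lit 655872, nat_lit 656384, nat_lit 657408, nat_lit 659456, nat_lit 663552, nat_lit 671744,
  nat_lit 688128, nat_lit 720896, nat_lit 786433, nat_lit 786434, nat_lit 786436, nat_lit 786440, nat_lit 786448, nat_lit 786464,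
  nat_lit 786496, nat_lit 786560, nat_lit 786688, nat_lit 786944, nat_lit 787456, nat_lit 788480, nat_lit 790528, nat_lit 794624,
  nat_lit 802816, nat_lit 819200, nat_lit 851968, nat_lit 917504, nat_lit 1048579, nat_lit 1048581, nat_lit 1048582, nat_lit 1048585,
  nat_lit 1048586, nat_lit 1048588, nat_lit 1048593, nat_lit 1048594, nat_lit 1048596, nat_lit 1048600, nat_lit 1048609, nat_lit 1048610,
  nat_lit 1048612, nat_lit 1048616, nat_lit 1048624, nat_lit 1048641, nat_lit 1048642, nat_lit 1048644, nat_lit 1048648, nat_lit 1048656,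
  nat_lit 1048672, nat_lit 1048705, nat_lit 1048706, nat_lit 1048708, nat_lit 1048712, nat_lit 1048720, nat_lit 1048736, nat_lit 1048768,
  nat_lit 1048833, nat_lit 1048834, nat_lit 1048836, nat_lit 1048840, nat_lit 1048848, nat_lit 1048864, nat_lit 1048896, nat_lit 1048960,
  nat_lit 1049089, nat_lit 1049090, nat_lit 1049092, nat_lit 1049096, nat_lit 1049104, nat_lit 1049120, nat_lit 1049152, nat_lit 1049216,
  nat_lit 1049344, nat_lit 1049601, nat_lit 1049602, nat_lit 1049604, nat_lit 1049608, nat_lit 1049616, nat_lit 1049632, nat_lit 1049664,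
  nat_lit 1049728, nat_lit 1049856, nat_lit 1050112, nat_lit 1050625, nat_lit 1050626, nat_lit 1050628, nat_lit 1050632, nat_lit 1050640,
  nat_lit 1050656, nat_lit 1050688, nat_lit 1050752, nat_lit 1050880, nat_lit 1051136, nat_lit 1051648, nat_lit 1052673, nat_lit 1052674,
  nat_lit 1052676, nat_lit 1052680, nat_lit 1052688, nat_lit 1052704, nat_lit 1052736, nat_lit 1052800, nat_lit 1052928, nat_lit 1053184,
  nat_lit 1053696, nat_lit 1054720, nat_lit 1056769, nat_lit 1056770, nat_lit 1056772, nat_lit 1056776, nat_lit 1056784, nat_lit 1056800,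
  nat_lit 1056832, nat_lit 1056896, nat_lit 1057024, nat_lit 1057280, nat_lit 1057792, nat_lit 1058816, nat_lit 1060864, nat_lit 1064961,
  nat_lit 1064962, nat_lit 1064964, nat_lit 1064968, nat_lit 1064976, nat_lit 1064992, nat_lit 1065024, nat_lit 1065088, nat_lit 1065216,
  nat_lit 1065472, nat_lit 1065984, nat_lit 1067008, nat_lit 1069056, nat_lit 1073152, nat_lit 1081345, nat_lit 1081346, nat_lit 1081348,
  nat_lit 1081352, nat_lit 1081360, nat_lit 1081376, nat_lit 1081408, nat_lit 1081472, nat_lit 1081600, nat_lit 1081856, nat_lit 1082368,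
  nat_lit 1083392, nat_lit 1085440, nat_lit 1089536, nat_lit 1097728, nat_lit 1114113, nat_lit 1114114, nat_lit 1114116, nat_lit 1114120,
  nat_lit 1114128, nat_lit 1114144, nat_lit 1114176, nat_lit 1114240, nat_lit 1114368, nat_lit 1114624, nat_lit 1115136, nat_lit 1116160,
  nat_lit 1118208, nat_lit 1122304, nat_lit 1130496, nat_lit 1146880, nat_lit 1179649, nat_lit 1179650, nat_lit 1179652, nat_lit 1179656,
  nat_lit 1179664, nat_lit 1179680, nat_lit 1179712, nat_lit 1179776, nat_lit 1179904, nat_lit 1180160, nat_lit 1180672, nat_lit 1181696,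
  nat_lit 1183744, nat_lit 1187840, nat_lit 1196032, nat_lit 1212416, nat_lit 1245184, nat_lit 1310721, nat_lit 1310722, nat_lit 1310724,
  nat_lit 1310728, nat_lit 1310736, nat_lit 1310752, nat_lit 1310784, nat_lit 1310848, nat_lit 1310976, nat_lit 1311232, nat_lit 1311744,
  nat_lit 1312768, nat_lit 1314816, nat_lit 1318912, nat_lit 1327104, nat_lit 1343488, nat_lit 1376256, nat_lit 1441792, nat_lit 1572865,
  nat_lit 1572866, nat_lit 1572868, nat_lit 1572872, nat_lit 1572880, nat_lit 1572896, nat_lit 1572928, nat_lit 1572992, nat_lit 1573120,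
  nat_lit 1573376, nat_lit 1573888, nat_lit 1574912, nat_lit 1576960, nat_lit 1581056, nat_lit 1589248, nat_lit 1605632, nat_lit 1638400,
  nat_lit 1703936, nat_lit 1835008, nat_lit 2097155, nat_lit 2097157, nat_lit 2097158, nat_lit 2097161, nat_lit 2097162, nat_lit 2097164,
  nat_lit 2097169, nat_lit 2097170, nat_lit 2097172, nat_lit 2097176, nat_lit 2097185, nat_lit 2097186, nat_lit 2097188, nat_lit 2097192,
  nat_lit 2097200, nat_lit 2097217, nat_lit 2097218, nat_lit 2097220, nat_lit 2097224, nat_lit 2097232, nat_lit 2097248, nat_lit 2097281,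
  nat_lit 2097282, nat_lit 2097284, nat_lit 2097288, nat_lit 2097296, nat_lit 2097312, nat_lit 2097344, nat_lit 2097409, nat_lit 2097410,
  nat_lit 2097412, nat_lit 2097416, nat_lit 2097424, nat_lit 2097440, nat_lit 2097472, nat_lit 2097536, nat_lit 2097665, nat_lit 2097666,
  nat_lit 2097668, nat_lit 2097672, nat_lit 2097680, nat_lit 2097696, nat_lit 2097728, nat_lit 2097792, nat_lit 2097920, nat_lit 2098177,
  nat_lit 2098178, nat_lit 2098180, nat_lit 2098184, nat_lit 2098192, nat_lit 2098208, nat_lit 2098240, nat_lit 2098304, nat_lit 2098432,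
  nat_lit 2098688, nat_lit 2099201, nat_lit 2099202, nat_lit 2099204, nat_lit 2099208, nat_lit 2099216, nat_lit 2099232, nat_lit 2099264,
  nat_lit 2099328, nat_lit 2099456, nat_lit 2099712, nat_lit 2100224, nat_lit 2101249, nat_lit 2101250, nat_lit 2101252, nat_lit 2101256,
  nat_lit 2101264, nat_lit 2101280, nat_lit 2101312, nat_lit 2101376, nat_lit 2101504, nat_lit 2101760, nat_lit 2102272, nat_lit 2103296,
  nat_lit 2105345, nat_lit 2105346, nat_lit 2105348, nat_lit 2105352, nat_lit 2105360, nat_lit 2105376, nat_lit 2105408, nat_lit 2105472,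
  nat_lit 2105600, nat_lit 2105856, nat_lit 2106368, nat_lit 2107392, nat_lit 2109440, nat_lit 2113537, nat_lit 2113538, nat_lit 2113540,
  nat_lit 2113544, nat_lit 2113552, nat_lit 2113568, nat_lit 2113600, nat_lit 2113664, nat_lit 2113792, nat_lit 2114048, nat_lit 2114560,
  nat_lit 2115584, nat_lit 2117632, nat_lit 2121728, nat_lit 2129921, nat_lit 2129922, nat_lit 2129924, nat_lit 2129928, nat_lit 2129936,
  nat_lit 2129952, nat_lit 2129984, nat_lit 2130048, nat_lit 2130176, nat_lit 2130432, nat_lit 2130944, nat_lit 2131968, nat_lit 2134016,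
  nat_lit 2138112, nat_lit 2146304, nat_lit 2162689, nat_lit 2162690, nat_lit 2162692, nat_lit 2162696, nat_lit 2162704, nat_lit 2162720,
  nat_lit 2162752, nat_lit 2162816, nat_lit 2162944, nat_lit 2163200, nat_lit 2163712, nat_lit 2164736, nat_lit 2166784, nat_lit 2170880,
  nat_lit 2179072, nat_lit 2195456, nat_lit 2228225, nat_lit 2228226, nat_lit 2228228, nat_lit 2228232, nat_lit 2228240, nat_lit 2228256,
  nat_lit 2228288, nat_lit 2228352, nat_lit 2228480, nat_lit 2228736, nat_lit 2229248, nat_lit 2230272, nat_lit 2232320, nat_lit 2236416,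
  nat_lit 2244608, nat_lit 2260992, nat_lit 2293760, nat_lit 2359297, nat_lit 2359298, nat_lit 2359300, nat_lit 2359304, nat_lit 2359312,
  nat_lit 2359328, nat_lit 2359360, nat_lit 2359424, nat_lit 2359552, nat_lit 2359808, nat_lit 2360320, nat_lit 2361344, nat_lit 2363392,
  nat_lit 2367488, nat_lit 2375680, nat_lit 2392064, nat_lit 2424832, nat_lit 2490368, nat_lit 2621441, nat_lit 2621442, nat_lit 2621444,
  nat_lit 2621448, nat_lit 2621456, nat_lit 2621472, nat_lit 2621504, nat_lit 2621568, nat_lit 2621696, nat_lit 2621952, nat_lit 2622464,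
  nat_lit 2623488, nat_lit 2625536, nat_lit 2629632, nat_lit 2637824, nat_lit 2654208, nat_lit 2686976, nat_lit 2752512, nat_lit 2883584,
  nat_lit 3145729, nat_lit 3145730, nat_lit 3145732, nat_lit 3145736, nat_lit 3145744, nat_lit 3145760, nat_lit 3145792, nat_lit 3145856,
  nat_lit 3145984, nat_lit 3146240, nat_lit 3146752, nat_lit 3147776, nat_lit 3149824, nat_lit 3153920, nat_lit 3162112, nat_lit 3178496,
  nat_lit 3211264, nat_lit 3276800, nat_lit 3407872, nat_lit 3670016, nat_lit 4194307, nat_lit 4194309, nat_lit 4194310, nat_lit 4194313,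
  nat_lit 4194314, nat_lit 4194316, nat_lit 4194321, nat_lit 4194322, nat_lit 4194324, nat_lit 4194328, nat_lit 4194337, nat_lit 4194338,
  nat_lit 4194340, nat_lit 4194344, nat_lit 4194352, nat_lit 4194369, nat_lit 4194370, nat_lit 4194372, nat_lit 4194376, nat_lit 4194384,
  nat_lit 4194400, nat_lit 4194433, nat_lit 4194434, nat_lit 4194436, nat_lit 4194440, nat_lit 4194448, nat_lit 4194464, nat_lit 4194496,
  nat_lit 4194561, nat_lit 4194562, nat_lit 4194564, nat_lit 4194568, nat_lit 4194576, nat_lit 4194592, nat_lit 4194624, nat_lit 4194688,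
  nat_lit 4194817, nat_lit 4194818, nat_lit 4194820, nat_lit 4194824, nat_lit 4194832, nat_lit 4194848, nat_lit 4194880, nat_lit 4194944,
  nat_lit 4195072, nat_lit 4195329, nat_lit 4195330, nat_lit 4195332, nat_lit 4195336, nat_lit 4195344, nat_lit 4195360, nat_lit 4195392,
  nat_lit 4195456, nat_lit 4195584, nat_lit 4195840, nat_lit 4196353, nat_lit 4196354, nat_lit 4196356, nat_lit 4196360, nat_lit 4196368,
  nat_lit 4196384, nat_lit 4196416, nat_lit 4196480, nat_lit 4196608, nat_lit 4196864, nat_lit 4197376, nat_lit 4198401, nat_lit 4198402,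
  nat_lit 4198404, nat_lit 4198408, nat_lit 4198416, nat_lit 4198432, nat_lit 4198464, nat_lit 4198528, nat_lit 4198656, nat_lit 4198912,
  nat_lit 4199424, nat_lit 4200448, nat_lit 4202497, nat_lit 4202498, nat_lit 4202500, nat_lit 4202504, nat_lit 4202512, nat_lit 4202528,
  nat_lit 4202560, nat_lit 4202624, nat_lit 4202752, nat_lit 4203008, nat_lit 4203520, nat_lit 4204544, nat_lit 4206592, nat_lit 4210689,
  nat_lit 4210690, nat_lit 4210692, nat_lit 4210696, nat_lit 4210704, nat_lit 4210720, nat_lit 4210752, nat_lit 4210816, nat_lit 4210944,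
  nat_lit 4211200, nat_lit 4211712, nat_lit 4212736, nat_lit 4214784, nat_lit 4218880, nat_lit 4227073, nat_lit 4227074, nat_lit 4227076,
  nat_lit 4227080, nat_lit 4227088, nat_lit 4227104, nat_lit 4227136, nat_lit 4227200, nat_lit 4227328, nat_lit 4227584, nat_lit 4228096,
  nat_lit 4229120, nat_lit 4231168, nat_lit 4235264, nat_lit 4243456, nat_lit 4259841, nat_lit 4259842, nat_lit 4259844, nat_lit 4259848,
  nat_lit 4259856, nat_lit 4259872, nat_lit 4259904, nat_lit 4259968, nat_lit 4260096, nat_lit 4260352, nat_lit 4260864, nat_lit 4261888,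
  nat_lit 4263936, nat_lit 4268032, nat_lit 4276224, nat_lit 4292608, nat_lit 4325377, nat_lit 4325378, nat_lit 4325380, nat_lit 4325384,
  nat_lit 4325392, nat_lit 4325408, nat_lit 4325440, nat_lit 4325504, nat_lit 4325632, nat_lit 4325888, nat_lit 4326400, nat_lit 4327424,
  nat_lit 4329472, nat_lit 4333568, nat_lit 4341760, nat_lit 4358144, nat_lit 4390912, nat_lit 4456449, nat_lit 4456450, nat_lit 4456452,
  nat_lit 4456456, nat_lit 4456464, nat_lit 4456480, nat_lit 4456512, nat_lit 4456576, nat_lit 4456704, nat_lit 4456960, nat_lit 4457472,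
  nat_lit 4458496, nat_lit 4460544, nat_lit 4464640, nat_lit 4472832, nat_lit 4489216, nat_lit 4521984, nat_lit 4587520, nat_lit 4718593,
  nat_lit 4718594, nat_lit 4718596, nat_lit 4718600, nat_lit 4718608, nat_lit 4718624, nat_lit 4718656, nat_lit 4718720, nat_lit 4718848,
  nat_lit 4719104, nat_lit 4719616, nat_lit 4720640, nat_lit 4722688, nat_lit 4726784, nat_lit 4734976, nat_lit 4751360, nat_lit 4784128,
  nat_lit 4849664, nat_lit 4980736, nat_lit 5242881, nat_lit 5242882, nat_lit 5242884, nat_lit 5242888, nat_lit 5242896, nat_lit 5242912,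
  nat_lit 5242944, nat_lit 5243008, nat_lit 5243136, nat_lit 5243392, nat_lit 5243904, nat_lit 5244928, nat_lit 5246976, nat_lit 5251072,
  nat_lit 5259264, nat_lit 5275648, nat_lit 5308416, nat_lit 5373952, nat_lit 5505024, nat_lit 5767168, nat_lit 6291457, nat_lit 6291458,
  nat_lit 6291460, nat_lit 6291464, nat_lit 6291472, nat_lit 6291488, nat_lit 6291520, nat_lit 6291584, nat_lit 6291712, nat_lit 6291968,
  nat_lit 6292480, nat_lit 6293504, nat_lit 6295552, nat_lit 6299648, nat_lit 6307840, nat_lit 6324224, nat_lit 6356992, nat_lit 6422528,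
  nat_lit 6553600, nat_lit 6815744, nat_lit 7340032, nat_lit 8388611, nat_lit 8388613, nat_lit 8388614, nat_lit 8388617, nat_lit 8388618,
  nat_lit 8388620, nat_lit 8388625, nat_lit 8388626, nat_lit 8388628, nat_lit 8388632, nat_lit 8388641, nat_lit 8388642, nat_lit 8388644,
  nat_lit 8388648, nat_lit 8388656, nat_lit 8388673, nat_lit 8388674, nat_lit 8388676, nat_lit 8388680, nat_lit 8388688, nat_lit 8388704,
  nat_lit 8388737, nat_lit 8388738, nat_lit 8388740, nat_lit 8388744, nat_lit 8388752, nat_lit 8388768, nat_lit 8388800, nat_lit 8388865,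
  nat_lit 8388866, nat_lit 8388868, nat_lit 8388872, nat_lit 8388880, nat_lit 8388896, nat_lit 8388928, nat_lit 8388992, nat_lit 8389121,
  nat_lit 8389122, nat_lit 8389124, nat_lit 8389128, nat_lit 8389136, nat_lit 8389152, nat_lit 8389184, nat_lit 8389248, nat_lit 8389376,
  nat_lit 8389633, nat_lit 8389634, nat_lit 8389636, nat_lit 8389640, nat_lit 8389648, nat_lit 8389664, nat_lit 8389696, nat_lit 8389760,
  nat_lit 8389888, nat_lit 8390144, nat_lit 8390657, nat_lit 8390658, nat_lit 8390660, nat_lit 8390664, nat_lit 8390672, nat_lit 8390688,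
  nat_lit 8390720, nat_lit 8390784, nat_lit 8390912, nat_lit 8391168, nat_lit 8391680, nat_lit 8392705, nat_lit 8392706, nat_lit 8392708,
  nat_lit 8392712, nat_lit 8392720, nat_lit 8392736, nat_lit 8392768, nat_lit 8392832, nat_lit 8392960, nat_lit 8393216, nat_lit 8393728,
  nat_lit 8394752, nat_lit 8396801, nat_lit 8396802, nat_lit 8396804, nat_lit 8396808, nat_lit 8396816, nat_lit 8396832, nat_lit 8396864,
  nat_lit 8396928, nat_lit 8397056, nat_lit 8397312, nat_lit 8397824, nat_lit 8398848, nat_lit 8400896, nat_lit 8404993, nat_lit 8404994,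
  nat_lit 8404996, nat_lit 8405000, nat_lit 8405008, nat_lit 8405024, nat_lit 8405056, nat_lit 8405120, nat_lit 8405248, nat_lit 8405504,
  nat_lit 8406016, nat_lit 8407040, nat_lit 8409088, nat_lit 8413184, nat_lit 8421377, nat_lit 8421378, nat_lit 8421380, nat_lit 8421384,
  nat_lit 8421392, nat_lit 8421408, nat_lit 8421440, nat_lit 8421504, nat_lit 8421632, nat_lit 8421888, nat_lit 8422400, nat_lit 8423424,
  nat_lit 8425472, nat_lit 8429568, nat_lit 8437760, nat_lit 8454145, nat_lit 8454146, nat_lit 8454148, nat_lit 8454152, nat_lit 8454160,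
  nat_lit 8454176, nat_lit 8454208, nat_lit 8454272, nat_lit 8454400, nat_lit 8454656, nat_lit 8455168, nat_lit 8456192, nat_lit 8458240,
  nat_lit 8462336, nat_lit 8470528, nat_lit 8486912, nat_lit 8519681, nat_lit 8519682, nat_lit 8519684, nat_lit 8519688, nat_lit 8519696,
  nat_lit 8519712, nat_lit 8519744, nat_lit 8519808, nat_lit 8519936, nat_lit 8520192, nat_lit 8520704, nat_lit 8521728, nat_lit 8523776,
  nat_lit 8527872, nat_lit 8536064, nat_lit 8552448, nat_lit 8585216, nat_lit 8650753, nat_lit 8650754, nat_lit 8650756, nat_lit 8650760,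
  nat_lit 8650768, nat_lit 8650784, nat_lit 8650816, nat_lit 8650880, nat_lit 8651008, nat_lit 8651264, nat_lit 8651776, nat_lit 8652800,
  nat_lit 8654848, nat_lit 8658944, nat_lit 8667136, nat_lit 8683520, nat_lit 8716288, nat_lit 8781824, nat_lit 8912897, nat_lit 8912898,
  nat_lit 8912900, nat_lit 8912904, nat_lit 8912912, nat_lit 8912928, nat_lit 8912960, nat_lit 8913024, nat_lit 8913152, nat_lit 8913408,
  nat_lit 8913920, nat_lit 8914944, nat_lit 8916992, nat_lit 8921088, nat_lit 8929280, nat_lit 8945664, nat_lit 8978432, nat_lit 9043968,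
  nat_lit 9175040, nat_lit 9437185, nat_lit 9437186, nat_lit 9437188, nat_lit 9437192, nat_lit 9437200, nat_lit 9437216, nat_lit 9437248,
  nat_lit 9437312, nat_lit 9437440, nat_lit 9437696, nat_lit 9438208, nat_lit 9439232, nat_lit 9441280, nat_lit 9445376, nat_lit 9453568,
  nat_lit 9469952, nat_lit 9502720, nat_lit 9568256, nat_lit 9699328, nat_lit 9961472, nat_lit 10485761, nat_lit 10485762, nat_lit 10485764,
  nat_lit 10485768, nat_lit 10485776, nat_lit 10485792, nat_lit 10485824, nat_lit 10485888, nat_lit 10486016, nat_lit 10486272, nat_lit 10486784,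
  nat_lit 10487808, nat_lit 10489856, nat_lit 10493952, nat_lit 10502144, nat_lit 10518528, nat_lit 10551296, nat_lit 10616832, nat_lit 10747904,
  nat_lit 11010048, nat_lit 11534336, nat_lit 12582913, nat_lit 12582914, nat_lit 12582916, nat_lit 12582920, nat_lit 12582928, nat_lit 12582944,
  nat_lit 12582976, nat_lit 12583040, nat_lit 12583168, nat_lit 12583424, nat_lit 12583936, nat_lit 12584960, nat_lit 12587008, nat_lit 12591104,
  nat_lit 12599296, nat_lit 12615680, nat_lit 12648448, nat_lit 12713984, nat_lit 12845056, nat_lit 13107200, nat_lit 13631488, nat_lit 14680064]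

/-- masks of the 1771 tetrads containing the point 23 (one for each sextet). -/
def sexL : List ℕ := [
  nat_lit 8388615, nat_lit 8388619, nat_lit 8388621, nat_lit 8388622, nat_lit 8388627, nat_lit 8388629, nat_lit 8388630, nat_lit 8388633,
  nat_lit 8388634, nat_lit 8388636, nat_lit 8388643, nat_lit 8388645, nat_lit 8388646, nat_lit 8388649, nat_lit 8388650, nat_lit 8388652,
  nat_lit 8388657, nat_lit 8388658, nat_lit 8388660, nat_lit 8388664, nat_lit 8388675, nat_lit 8388677, nat_lit 8388678, nat_lit 8388681,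
  nat_lit 8388682, nat_lit 8388684, nat_lit 8388689, nat_lit 8388690, nat_lit 8388692, nat_lit 8388696, nat_lit 8388705, nat_lit 8388706,
  nat_lit 8388708, nat_lit 8388712, nat_lit 8388720, nat_lit 8388739, nat_lit 8388741, nat_lit 8388742, nat_lit 8388745, nat_lit 8388746,
  nat_lit 8388748, nat_lit 8388753, nat_lit 8388754, nat_lit 8388756, nat_lit 8388760, nat_lit 8388769, nat_lit 8388770, nat_lit 8388772,
  nat_lit 8388776, nat_lit 8388784, nat_lit 8388801, nat_lit 8388802, nat_lit 8388804, nat_lit 8388808, nat_lit 8388816, nat_lit 8388832,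
  nat_lit 8388867, nat_lit 8388869, nat_lit 8388870, nat_lit 8388873, nat_lit 8388874, nat_lit 8388876, nat_lit 8388881, nat_lit 8388882,
  nat_lit 8388884, nat_lit 8388888, nat_lit 8388897, nat_lit 8388898, nat_lit 8388900, nat_lit 8388904, nat_lit 8388912, nat_lit 8388929,
  nat_lit 8388930, nat_lit 8388932, nat_lit 8388936, nat_lit 8388944, nat_lit 8388960, nat_lit 8388993, nat_lit 8388994, nat_lit 8388996,
  nat_lit 8389000, nat_lit 8389008, nat_lit 8389024, nat_lit 8389056, nat_lit 8389123, nat_lit 8389125, nat_lit 8389126, nat_lit 8389129,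
  nat_lit 8389130, nat_lit 8389132, nat_lit 8389137, nat_lit 8389138, nat_lit 8389140, nat_lit 8389144, nat_lit 8389153, nat_lit 8389154,
  nat_lit 8389156, nat_lit 8389160, nat_lit 8389168, nat_lit 8389185, nat_lit 8389186, nat_lit 8389188, nat_lit 8389192, nat_lit 8389200,
  nat_lit 8389216, nat_lit 8389249, nat_lit 8389250, nat_lit 8389252, nat_lit 8389256, nat_lit 8389264, nat_lit 8389280, nat_lit 8389312,
  nat_lit 8389377, nat_lit 8389378, nat_lit 8389380, nat_lit 8389384, nat_lit 8389392, nat_lit 8389408, nat_lit 8389440, nat_lit 8389504,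
  nat_lit 8389635, nat_lit 8389637, nat_lit 8389638, nat_lit 8389641, nat_lit 8389642, nat_lit 8389644, nat_lit 8389649, nat_lit 8389650,
  nat_lit 8389652, nat_lit 8389656, nat_lit 8389665, nat_lit 8389666, nat_lit 8389668, nat_lit 8389672, nat_lit 8389680, nat_lit 8389697,
  nat_lit 8389698, nat_lit 8389700, nat_lit 8389704, nat_lit 8389712, nat_lit 8389728, nat_lit 8389761, nat_lit 8389762, nat_lit 8389764,
  nat_lit 8389768, nat_lit 8389776, nat_lit 8389792, nat_lit 8389824, nat_lit 8389889, nat_lit 8389890, nat_lit 8389892, nat_lit 8389896,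
  nat_lit 8389904, nat_lit 8389920, nat_lit 8389952, nat_lit 8390016, nat_lit 8390145, nat_lit 8390146, nat_lit 8390148, nat_lit 8390152,
  nat_lit 8390160, nat_lit 8390176, nat_lit 8390208, nat_lit 8390272, nat_lit 8390400, nat_lit 8390659, nat_lit 8390661, nat_lit 8390662,
  nat_lit 8390665, nat_lit 8390666, nat_lit 8390668, nat_lit 8390673, nat_lit 8390674, nat_lit 8390676, nat_lit 8390680, nat_lit 8390689,
  nat_lit 8390690, nat_lit 8390692, nat_lit 8390696, nat_lit 8390704, nat_lit 8390721, nat_lit 8390722, nat_lit 8390724, nat_lit 8390728,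
  nat_lit 8390736, nat_lit 8390752, nat_lit 8390785, nat_lit 8390786, nat_lit 8390788, nat_lit 8390792, nat_lit 8390800, nat_lit 8390816,
  nat_lit 8390848, nat_lit 8390913, nat_lit 8390914, nat_lit 8390916, nat_lit 8390920, nat_lit 8390928, nat_lit 8390944, nat_lit 8390976,
  nat_lit 8391040, nat_lit 8391169, nat_lit 8391170, nat_lit 8391172, nat_lit 8391176, nat_lit 8391184, nat_lit 8391200, nat_lit 8391232,
  nat_lit 8391296, nat_lit 8391424, nat_lit 8391681, nat_lit 8391682, nat_lit 8391684, nat_lit 8391688, nat_lit 8391696, nat_lit 8391712,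
  nat_lit 8391744, nat_lit 8391808, nat_lit 8391936, nat_lit 8392192, nat_lit 8392707, nat_lit 8392709, nat_lit 8392710, nat_lit 8392713,
  nat_lit 8392714, nat_lit 8392716, nat_lit 8392721, nat_lit 8392722, nat_lit 8392724, nat_lit 8392728, nat_lit 8392737, nat_lit 8392738,
  nat_lit 8392740, nat_lit 8392744, nat_lit 8392752, nat_lit 8392769, nat_lit 8392770, nat_lit 8392772, nat_lit 8392776, nat_lit 8392784,
  nat_lit 8392800, nat_lit 8392833, nat_lit 8392834, nat_lit 8392836, nat_lit 8392840, nat_lit 8392848, nat_lit 8392864, nat_lit 8392896,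
  nat_lit 8392961, nat_lit 8392962, nat_lit 8392964, nat_lit 8392968, nat_lit 8392976, nat_lit 8392992, nat_lit 8393024, nat_lit 8393088,
  nat_lit 8393217, nat_lit 8393218, nat_lit 8393220, nat_lit 8393224, nat_lit 8393232, nat_lit 8393248, nat_lit 8393280, nat_lit 8393344,
  nat_lit 8393472, nat_lit 8393729, nat_lit 8393730, nat_lit 8393732, nat_lit 8393736, nat_lit 8393744, nat_lit 8393760, nat_lit 8393792,
  nat_lit 8393856, nat_lit 8393984, nat_lit 8394240, nat_lit 8394753, nat_lit 8394754, nat_lit 8394756, nat_lit 8394760, nat_lit 8394768,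
  nat_lit 8394784, nat_lit 8394816, nat_lit 8394880, nat_lit 8395008, nat_lit 8395264, nat_lit 8395776, nat_lit 8396803, nat_lit 8396805,
  nat_lit 8396806, nat_lit 8396809, nat_lit 8396810, nat_lit 8396812, nat_lit 8396817, nat_lit 8396818, nat_lit 8396820, nat_lit 8396824,
  nat_lit 8396833, nat_lit 8396834, nat_lit 8396836, nat_lit 8396840, nat_lit 8396848, nat_lit 8396865, nat_lit 8396866, nat_lit 8396868,
  nat_lit 8396872, nat_lit 8396880, nat_lit 8396896, nat_lit 8396929, nat_lit 8396930, nat_lit 8396932, nat_lit 8396936, nat_lit 8396944,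
  nat_lit 8396960, nat_lit 8396992, nat_lit 8397057, nat_lit 8397058, nat_lit 8397060, nat_lit 8397064, nat_lit 8397072, nat_lit 8397088,
  nat_lit 8397120, nat_lit 8397184, nat_lit 8397313, nat_lit 8397314, nat_lit 8397316, nat_lit 8397320, nat_lit 8397328, nat_lit 8397344,
  nat_lit 8397376, nat_lit 8397440, nat_lit 8397568, nat_lit 8397825, nat_lit 8397826, nat_lit 8397828, nat_lit 8397832, nat_lit 8397840,
  nat_lit 8397856, nat_lit 8397888, nat_lit 8397952, nat_lit 8398080, nat_lit 8398336, nat_lit 8398849, nat_lit 8398850, nat_lit 8398852,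
  nat_lit 8398856, nat_lit 8398864, nat_lit 8398880, nat_lit 8398912, nat_lit 8398976, nat_lit 8399104, nat_lit 8399360, nat_lit 8399872,
  nat_lit 8400897, nat_lit 8400898, nat_lit 8400900, nat_lit 8400904, nat_lit 8400912, nat_lit 8400928, nat_lit 8400960, nat_lit 8401024,
  nat_lit 8401152, nat_lit 8401408, nat_lit 8401920, nat_lit 8402944, nat_lit 8404995, nat_lit 8404997, nat_lit 8404998, nat_lit 8405001,
  nat_lit 8405002, nat_lit 8405004, nat_lit 8405009, nat_lit 8405010, nat_lit 8405012, nat_lit 8405016, nat_lit 8405025, nat_lit 8405026,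
  nat_lit 8405028, nat_lit 8405032, nat_lit 8405040, nat_lit 8405057, nat_lit 8405058, nat_lit 8405060, nat_lit 8405064, nat_lit 8405072,
  nat_lit 8405088, nat_lit 8405121, nat_lit 8405122, nat_lit 8405124, nat_lit 8405128, nat_lit 8405136, nat_lit 8405152, nat_lit 8405184,
  nat_lit 8405249, nat_lit 8405250, nat_lit 8405252, nat_lit 8405256, nat_lit 8405264, nat_lit 8405280, nat_lit 8405312, nat_lit 8405376,
  nat_lit 8405505, nat_lit 8405506, nat_lit 8405508, nat_lit 8405512, nat_lit 8405520, nat_lit 8405536, nat_lit 8405568, nat_lit 8405632,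
  nat_lit 8405760, nat_lit 8406017, nat_lit 8406018, nat_lit 8406020, nat_lit 8406024, nat_lit 8406032, nat_lit 8406048, nat_lit 8406080,
  nat_lit 8406144, nat_lit 8406272, nat_lit 8406528, nat_lit 8407041, nat_lit 8407042, nat_lit 8407044, nat_lit 8407048, nat_lit 8407056,
  nat_lit 8407072, nat_lit 8407104, nat_lit 8407168, nat_lit 8407296, nat_lit 8407552, nat_lit 8408064, nat_lit 8409089, nat_lit 8409090,
  nat_lit 8409092, nat_lit 8409096, nat_lit 8409104, nat_lit 8409120, nat_lit 8409152, nat_lit 8409216, nat_lit 8409344, nat_lit 8409600,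
  nat_lit 8410112, nat_lit 8411136, nat_lit 8413185, nat_lit 8413186, nat_lit 8413188, nat_lit 8413192, nat_lit 8413200, nat_lit 8413216,
  nat_lit 8413248, nat_lit 8413312, nat_lit 8413440, nat_lit 8413696, nat_lit 8414208, nat_lit 8415232, nat_lit 8417280, nat_lit 8421379,
  nat_lit 8421381, nat_lit 8421382, nat_lit 8421385, nat_lit 8421386, nat_lit 8421388, nat_lit 8421393, nat_lit 8421394, nat_lit 8421396,
  nat_lit 8421400, nat_lit 8421409, nat_lit 8421410, nat_lit 8421412, nat_lit 8421416, nat_lit 8421424, nat_lit 8421441, nat_lit 8421442,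
  nat_lit 8421444, nat_lit 8421448, nat_lit 8421456, nat_lit 8421472, nat_lit 8421505, nat_lit 8421506, nat_lit 8421508, nat_lit 8421512,
  nat_lit 8421520, nat_lit 8421536, nat_lit 8421568, nat_lit 8421633, nat_lit 8421634, nat_lit 8421636, nat_lit 8421640, nat_lit 8421648,
  nat_lit 8421664, nat_lit 8421696, nat_lit 8421760, nat_lit 8421889, nat_lit 8421890, nat_lit 8421892, nat_lit 8421896, nat_lit 8421904,
  nat_lit 8421920, nat_lit 8421952, nat_lit 8422016, nat_lit 8422144, nat_lit 8422401, nat_lit 8422402, nat_lit 8422404, nat_lit 8422408,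
  nat_lit 8422416, nat_lit 8422432, nat_lit 8422464, nat_lit 8422528, nat_lit 8422656, nat_lit 8422912, nat_lit 8423425, nat_lit 8423426,
  nat_lit 8423428, nat_lit 8423432, nat_lit 8423440, nat_lit 8423456, nat_lit 8423488, nat_lit 8423552, nat_lit 8423680, nat_lit 8423936,
  nat_lit 8424448, nat_lit 8425473, nat_lit 8425474, nat_lit 8425476, nat_lit 8425480, nat_lit 8425488, nat_lit 8425504, nat_lit 8425536,
  nat_lit 8425600, nat_lit 8425728, nat_lit 8425984, nat_lit 8426496, nat_lit 8427520, nat_lit 8429569, nat_lit 8429570, nat_lit 8429572,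
  nat_lit 8429576, nat_lit 8429584, nat_lit 8429600, nat_lit 8429632, nat_lit 8429696, nat_lit 8429824, nat_lit 8430080, nat_lit 8430592,
  nat_lit 8431616, nat_lit 8433664, nat_lit 8437761, nat_lit 8437762, nat_lit 8437764, nat_lit 8437768, nat_lit 8437776, nat_lit 8437792,
  nat_lit 8437824, nat_lit 8437888, nat_lit 8438016, nat_lit 8438272, nat_lit 8438784, nat_lit 8439808, nat_lit 8441856, nat_lit 8445952,
  nat_lit 8454147, nat_lit 8454149, nat_lit 8454150, nat_lit 8454153, nat_lit 8454154, nat_lit 8454156, nat_lit 8454161, nat_lit 8454162,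
  nat_lit 8454164, nat_lit 8454168, nat_lit 8454177, nat_lit 8454178, nat_lit 8454180, nat_lit 8454184, nat_lit 8454192, nat_lit 8454209,
  nat_lit 8454210, nat_lit 8454212, nat_lit 8454216, nat_lit 8454224, nat_lit 8454240, nat_lit 8454273, nat_lit 8454274, nat_lit 8454276,
  nat_lit 8454280, nat_lit 8454288, nat_lit 8454304, nat_lit 8454336, nat_lit 8454401, nat_lit 8454402, nat_lit 8454404, nat_lit 8454408,
  nat_lit 8454416, nat_lit 8454432, nat_lit 8454464, nat_lit 8454528, nat_lit 8454657, nat_lit 8454658, nat_lit 8454660, nat_lit 8454664,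
  nat_lit 8454672, nat_lit 8454688, nat_lit 8454720, nat_lit 8454784, nat_lit 8454912, nat_lit 8455169, nat_lit 8455170, nat_lit 8455172,
  nat_lit 8455176, nat_lit 8455184, nat_lit 8455200, nat_lit 8455232, nat_lit 8455296, nat_lit 8455424, nat_lit 8455680, nat_lit 8456193,
  nat_lit 8456194, nat_lit 8456196, nat_lit 8456200, nat_lit 8456208, nat_lit 8456224, nat_lit 8456256, nat_lit 8456320, nat_lit 8456448,
  nat_lit 8456704, nat_lit 8457216, nat_lit 8458241, nat_lit 8458242, nat_lit 8458244, nat_lit 8458248, nat_lit 8458256, nat_lit 8458272,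
  nat_lit 8458304, nat_lit 8458368, nat_lit 8458496, nat_lit 8458752, nat_lit 8459264, nat_lit 8460288, nat_lit 8462337, nat_lit 8462338,
  nat_lit 8462340, nat_lit 8462344, nat_lit 8462352, nat_lit 8462368, nat_lit 8462400, nat_lit 8462464, nat_lit 8462592, nat_lit 8462848,
  nat_lit 8463360, nat_lit 8464384, nat_lit 8466432, nat_lit 8470529, nat_lit 8470530, nat_lit 8470532, nat_lit 8470536, nat_lit 8470544,
  nat_lit 8470560, nat_lit 8470592, nat_lit 8470656, nat_lit 8470784, nat_lit 8471040, nat_lit 8471552, nat_lit 8472576, nat_lit 8474624,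
  nat_lit 8478720, nat_lit 8486913, nat_lit 8486914, nat_lit 8486916, nat_lit 8486920, nat_lit 8486928, nat_lit 8486944, nat_lit 8486976,
  nat_lit 8487040, nat_lit 8487168, nat_lit 8487424, nat_lit 8487936, nat_lit 8488960, nat_lit 8491008, nat_lit 8495104, nat_lit 8503296,
  nat_lit 8519683, nat_lit 8519685, nat_lit 8519686, nat_lit 8519689, nat_lit 8519690, nat_lit 8519692, nat_lit 8519697, nat_lit 8519698,
  nat_lit 8519700, nat_lit 8519704, nat_lit 8519713, nat_lit 8519714, nat_lit 8519716, nat_lit 8519720, nat_lit 8519728, nat_lit 8519745,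
  nat_lit 8519746, nat_lit 8519748, nat_lit 8519752, nat_lit 8519760, nat_lit 8519776, nat_lit 8519809, nat_lit 8519810, nat_lit 8519812,
  nat_lit 8519816, nat_lit 8519824, nat_lit 8519840, nat_lit 8519872, nat_lit 8519937, nat_lit 8519938, nat_lit 8519940, nat_lit 8519944,
  nat_lit 8519952, nat_lit 8519968, nat_lit 8520000, nat_lit 8520064, nat_lit 8520193, nat_lit 8520194, nat_lit 8520196, nat_lit 8520200,
  nat_lit 8520208, nat_lit 8520224, nat_lit 8520256, nat_lit 8520320, nat_lit 8520448, nat_lit 8520705, nat_lit 8520706, nat_lit 8520708,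
  nat_lit 8520712, nat_lit 8520720, nat_lit 8520736, nat_lit 8520768, nat_lit 8520832, nat_lit 8520960, nat_lit 8521216, nat_lit 8521729,
  nat_lit 8521730, nat_lit 8521732, nat_lit 8521736, nat_lit 8521744, nat_lit 8521760, nat_lit 8521792, nat_lit 8521856, nat_lit 8521984,
  nat_lit 8522240, nat_lit 8522752, nat_lit 8523777, nat_lit 8523778, nat_lit 8523780, nat_lit 8523784, nat_lit 8523792, nat_lit 8523808,
  nat_lit 8523840, nat_lit 8523904, nat_lit 8524032, nat_lit 8524288, nat_lit 8524800, nat_lit 8525824, nat_lit 8527873, nat_lit 8527874,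
  nat_lit 8527876, nat_lit 8527880, nat_lit 8527888, nat_lit 8527904, nat_lit 8527936, nat_lit 8528000, nat_lit 8528128, nat_lit 8528384,
  nat_lit 8528896, nat_lit 8529920, nat_lit 8531968, nat_lit 8536065, nat_lit 8536066, nat_lit 8536068, nat_lit 8536072, nat_lit 8536080,
  nat_lit 8536096, nat_lit 8536128, nat_lit 8536192, nat_lit 8536320, nat_lit 8536576, nat_lit 8537088, nat_lit 8538112, nat_lit 8540160,
  nat_lit 8544256, nat_lit 8552449, nat_lit 8552450, nat_lit 8552452, nat_lit 8552456, nat_lit 8552464, nat_lit 8552480, nat_lit 8552512,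
  nat_lit 8552576, nat_lit 8552704, nat_lit 8552960, nat_lit 8553472, nat_lit 8554496, nat_lit 8556544, nat_lit 8560640, nat_lit 8568832,
  nat_lit 8585217, nat_lit 8585218, nat_lit 8585220, nat_lit 8585224, nat_lit 8585232, nat_lit 8585248, nat_lit 8585280, nat_lit 8585344,
  nat_lit 8585472, nat_lit 8585728, nat_lit 8586240, nat_lit 8587264, nat_lit 8589312, nat_lit 8593408, nat_lit 8601600, nat_lit 8617984,
  nat_lit 8650755, nat_lit 8650757, nat_lit 8650758, nat_lit 8650761, nat_lit 8650762, nat_lit 8650764, nat_lit 8650769, nat_lit 8650770,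
  nat_lit 8650772, nat_lit 8650776, nat_lit 8650785, nat_lit 8650786, nat_lit 8650788, nat_lit 8650792, nat_lit 8650800, nat_lit 8650817,
  nat_lit 8650818, nat_lit 8650820, nat_lit 8650824, nat_lit 8650832, nat_lit 8650848, nat_lit 8650881, nat_lit 8650882, nat_lit 8650884,
  nat_lit 8650888, nat_lit 8650896, nat_lit 8650912, nat_lit 8650944, nat_lit 8651009, nat_lit 8651010, nat_lit 8651012, nat_lit 8651016,
  nat_lit 8651024, nat_lit 8651040, nat_lit 8651072, nat_lit 8651136, nat_lit 8651265, nat_lit 8651266, nat_lit 8651268, nat_lit 8651272,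
  nat_lit 8651280, nat_lit 8651296, nat_lit 8651328, nat_lit 8651392, nat_lit 8651520, nat_lit 8651777, nat_lit 8651778, nat_lit 8651780,
  nat_lit 8651784, nat_lit 8651792, nat_lit 8651808, nat_lit 8651840, nat_lit 8651904, nat_lit 8652032, nat_lit 8652288, nat_lit 8652801,
  nat_lit 8652802, nat_lit 8652804, nat_lit 8652808, nat_lit 8652816, nat_lit 8652832, nat_lit 8652864, nat_lit 8652928, nat_lit 8653056,
  nat_lit 8653312, nat_lit 8653824, nat_lit 8654849, nat_lit 8654850, nat_lit 8654852, nat_lit 8654856, nat_lit 8654864, nat_lit 8654880,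
  nat_lit 8654912, nat_lit 8654976, nat_lit 8655104, nat_lit 8655360, nat_lit 8655872, nat_lit 8656896, nat_lit 8658945, nat_lit 8658946,
  nat_lit 8658948, nat_lit 8658952, nat_lit 8658960, nat_lit 8658976, nat_lit 8659008, nat_lit 8659072, nat_lit 8659200, nat_lit 8659456,
  nat_lit 8659968, nat_lit 8660992, nat_lit 8663040, nat_lit 8667137, nat_lit 8667138, nat_lit 8667140, nat_lit 8667144, nat_lit 8667152,
  nat_lit 8667168, nat_lit 8667200, nat_lit 8667264, nat_lit 8667392, nat_lit 8667648, nat_lit 8668160, nat_lit 8669184, nat_lit 8671232,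
  nat_lit 8675328, nat_lit 8683521, nat_lit 8683522, nat_lit 8683524, nat_lit 8683528, nat_lit 8683536, nat_lit 8683552, nat_lit 8683584,
  nat_lit 8683648, nat_lit 8683776, nat_lit 8684032, nat_lit 8684544, nat_lit 8685568, nat_lit 8687616, nat_lit 8691712, nat_lit 8699904,
  nat_lit 8716289, nat_lit 8716290, nat_lit 8716292, nat_lit 8716296, nat_lit 8716304, nat_lit 8716320, nat_lit 8716352, nat_lit 8716416,
  nat_lit 8716544, nat_lit 8716800, nat_lit 8717312, nat_lit 8718336, nat_lit 8720384, nat_lit 8724480, nat_lit 8732672, nat_lit 8749056,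
  nat_lit 8781825, nat_lit 8781826, nat_lit 8781828, nat_lit 8781832, nat_lit 8781840, nat_lit 8781856, nat_lit 8781888, nat_lit 8781952,
  nat_lit 8782080, nat_lit 8782336, nat_lit 8782848, nat_lit 8783872, nat_lit 8785920, nat_lit 8790016, nat_lit 8798208, nat_lit 8814592,
  nat_lit 8847360, nat_lit 8912899, nat_lit 8912901, nat_lit 8912902, nat_lit 8912905, nat_lit 8912906, nat_lit 8912908, nat_lit 8912913,
  nat_lit 8912914, nat_lit 8912916, nat_lit 8912920, nat_lit 8912929, nat_lit 8912930, nat_lit 8912932, nat_lit 8912936, nat_lit 8912944,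
  nat_lit 8912961, nat_lit 8912962, nat_lit 8912964, nat_lit 8912968, nat_lit 8912976, nat_lit 8912992, nat_lit 8913025, nat_lit 8913026,
  nat_lit 8913028, nat_lit 8913032, nat_lit 8913040, nat_lit 8913056, nat_lit 8913088, nat_lit 8913153, nat_lit 8913154, nat_lit 8913156,
  nat_lit 8913160, nat_lit 8913168, nat_lit 8913184, nat_lit 8913216, nat_lit 8913280, nat_lit 8913409, nat_lit 8913410, nat_lit 8913412,
  nat_lit 8913416, nat_lit 8913424, nat_lit 8913440, nat_lit 8913472, nat_lit 8913536, nat_lit 8913664, nat_lit 8913921, nat_lit 8913922,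
  nat_lit 8913924, nat_lit 8913928, nat_lit 8913936, nat_lit 8913952, nat_lit 8913984, nat_lit 8914048, nat_lit 8914176, nat_lit 8914432,
  nat_lit 8914945, nat_lit 8914946, nat_lit 8914948, nat_lit 8914952, nat_lit 8914960, nat_lit 8914976, nat_lit 8915008, nat_lit 8915072,
  nat_lit 8915200, nat_lit 8915456, nat_lit 8915968, nat_lit 8916993, nat_lit 8916994, nat_lit 8916996, nat_lit 8917000, nat_lit 8917008,
  nat_lit 8917024, nat_lit 8917056, nat_lit 8917120, nat_lit 8917248, nat_lit 8917504, nat_lit 8918016, nat_lit 8919040, nat_lit 8921089,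
  nat_lit 8921090, nat_lit 8921092, nat_lit 8921096, nat_lit 8921104, nat_lit 8921120, nat_lit 8921152, nat_lit 8921216, nat_lit 8921344,
  nat_lit 8921600, nat_lit 8922112, nat_lit 8923136, nat_lit 8925184, nat_lit 8929281, nat_lit 8929282, nat_lit 8929284, nat_lit 8929288,
  nat_lit 8929296, nat_lit 8929312, nat_lit 8929344, nat_lit 8929408, nat_lit 8929536, nat_lit 8929792, nat_lit 8930304, nat_lit 8931328,
  nat_lit 8933376, nat_lit 8937472, nat_lit 8945665, nat_lit 8945666, nat_lit 8945668, nat_lit 8945672, nat_lit 8945680, nat_lit 8945696,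
  nat_lit 8945728, nat_lit 8945792, nat_lit 8945920, nat_lit 8946176, nat_lit 8946688, nat_lit 8947712, nat_lit 8949760, nat_lit 8953856,
  nat_lit 8962048, nat_lit 8978433, nat_lit 8978434, nat_lit 8978436, nat_lit 8978440, nat_lit 8978448, nat_lit 8978464, nat_lit 8978496,
  nat_lit 8978560, nat_lit 8978688, nat_lit 8978944, nat_lit 8979456, nat_lit 8980480, nat_lit 8982528, nat_lit 8986624, nat_lit 8994816,
  nat_lit 9011200, nat_lit 9043969, nat_lit 9043970, nat_lit 9043972, nat_lit 9043976, nat_lit 9043984, nat_lit 9044000, nat_lit 9044032,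
  nat_lit 9044096, nat_lit 9044224, nat_lit 9044480, nat_lit 9044992, nat_lit 9046016, nat_lit 9048064, nat_lit 9052160, nat_lit 9060352,
  nat_lit 9076736, nat_lit 9109504, nat_lit 9175041, nat_lit 9175042, nat_lit 9175044, nat_lit 9175048, nat_lit 9175056, nat_lit 9175072,
  nat_lit 9175104, nat_lit 9175168, nat_lit 9175296, nat_lit 9175552, nat_lit 9176064, nat_lit 9177088, nat_lit 9179136, nat_lit 9183232,
  nat_lit 9191424, nat_lit 9207808, nat_lit 9240576, nat_lit 9306112, nat_lit 9437187, nat_lit 9437189, nat_lit 9437190, nat_lit 9437193,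
  nat_lit 9437194, nat_lit 9437196, nat_lit 9437201, nat_lit 9437202, nat_lit 9437204, nat_lit 9437208, nat_lit 9437217, nat_lit 9437218,
  nat_lit 9437220, nat_lit 9437224, nat_lit 9437232, nat_lit 9437249, nat_lit 9437250, nat_lit 9437252, nat_lit 9437256, nat_lit 9437264,
  nat_lit 9437280, nat_lit 9437313, nat_lit 9437314, nat_lit 9437316, nat_lit 9437320, nat_lit 9437328, nat_lit 9437344, nat_lit 9437376,
  nat_lit 9437441, nat_lit 9437442, nat_lit 9437444, nat_lit 9437448, nat_lit 9437456, nat_lit 9437472, nat_lit 9437504, nat_lit 9437568,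
  nat_lit 9437697, nat_lit 9437698, nat_lit 9437700, nat_lit 9437704, nat_lit 9437712, nat_lit 9437728, nat_lit 9437760, nat_lit 9437824,
  nat_lit 9437952, nat_lit 9438209, nat_lit 9438210, nat_lit 9438212, nat_lit 9438216, nat_lit 9438224, nat_lit 9438240, nat_lit 9438272,
  nat_lit 9438336, nat_lit 9438464, nat_lit 9438720, nat_lit 9439233, nat_lit 9439234, nat_lit 9439236, nat_lit 9439240, nat_lit 9439248,
  nat_lit 9439264, nat_lit 9439296, nat_lit 9439360, nat_lit 9439488, nat_lit 9439744, nat_lit 9440256, nat_lit 9441281, nat_lit 9441282,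
  nat_lit 9441284, nat_lit 9441288, nat_lit 9441296, nat_lit 9441312, nat_lit 9441344, nat_lit 9441408, nat_lit 9441536, nat_lit 9441792,
  nat_lit 9442304, nat_lit 9443328, nat_lit 9445377, nat_lit 9445378, nat_lit 9445380, nat_lit 9445384, nat_lit 9445392, nat_lit 9445408,
  nat_lit 9445440, nat_lit 9445504, nat_lit 9445632, nat_lit 9445888, nat_lit 9446400, nat_lit 9447424, nat_lit 9449472, nat_lit 9453569,
  nat_lit 9453570, nat_lit 9453572, nat_lit 9453576, nat_lit 9453584, nat_lit 9453600, nat_lit 9453632, nat_lit 9453696, nat_lit 9453824,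
  nat_lit 9454080, nat_lit 9454592, nat_lit 9455616, nat_lit 9457664, nat_lit 9461760, nat_lit 9469953, nat_lit 9469954, nat_lit 9469956,
  nat_lit 9469960, nat_lit 9469968, nat_lit 9469984, nat_lit 9470016, nat_lit 9470080, nat_lit 9470208, nat_lit 9470464, nat_lit 9470976,
  nat_lit 9472000, nat_lit 9474048, nat_lit 9478144, nat_lit 9486336, nat_lit 9502721, nat_lit 9502722, nat_lit 9502724, nat_lit 9502728,
  nat_lit 9502736, nat_lit 9502752, nat_lit 9502784, nat_lit 9502848, nat_lit 9502976, nat_lit 9503232, nat_lit 9503744, nat_lit 9504768,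
  nat_lit 9506816, nat_lit 9510912, nat_lit 9519104, nat_lit 9535488, nat_lit 9568257, nat_lit 9568258, nat_lit 9568260, nat_lit 9568264,
  nat_lit 9568272, nat_lit 9568288, nat_lit 9568320, nat_lit 9568384, nat_lit 9568512, nat_lit 9568768, nat_lit 9569280, nat_lit 9570304,
  nat_lit 9572352, nat_lit 9576448, nat_lit 9584640, nat_lit 9601024, nat_lit 9633792, nat_lit 9699329, nat_lit 9699330, nat_lit 9699332,
  nat_lit 9699336, nat_lit 9699344, nat_lit 9699360, nat_lit 9699392, nat_lit 9699456, nat_lit 9699584, nat_lit 9699840, nat_lit 9700352,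
  nat_lit 9701376, nat_lit 9703424, nat_lit 9707520, nat_lit 9715712, nat_lit 9732096, nat_lit 9764864, nat_lit 9830400, nat_lit 9961473,
  nat_lit 9961474, nat_lit 9961476, nat_lit 9961480, nat_lit 9961488, nat_lit 9961504, nat_lit 9961536, nat_lit 9961600, nat_lit 9961728,
  nat_lit 9961984, nat_lit 9962496, nat_lit 9963520, nat_lit 9965568, nat_lit 9969664, nat_lit 9977856, nat_lit 9994240, nat_lit 10027008,
  nat_lit 10092544, nat_lit 10223616, nat_lit 10485763, nat_lit 10485765, nat_lit 10485766, nat_lit 10485769, nat_lit 10485770, nat_lit 10485772,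
  nat_lit 10485777, nat_lit 10485778, nat_lit 10485780, nat_lit 10485784, nat_lit 10485793, nat_lit 10485794, nat_lit 10485796, nat_lit 10485800,
  nat_lit 10485808, nat_lit 10485825, nat_lit 10485826, nat_lit 10485828, nat_lit 10485832, nat_lit 10485840, nat_lit 10485856, nat_lit 10485889,
  nat_lit 10485890, nat_lit 10485892, nat_lit 10485896, nat_lit 10485904, nat_lit 10485920, nat_lit 10485952, nat_lit 10486017, nat_lit 10486018,
  nat_lit 10486020, nat_lit 10486024, nat_lit 10486032, nat_lit 10486048, nat_lit 10486080, nat_lit 10486144, nat_lit 10486273, nat_lit 10486274,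
  nat_lit 10486276, nat_lit 10486280, nat_lit 10486288, nat_lit 10486304, nat_lit 10486336, nat_lit 10486400, nat_lit 10486528, nat_lit 10486785,
  nat_lit 10486786, nat_lit 10486788, nat_lit 10486792, nat_lit 10486800, nat_lit 10486816, nat_lit 10486848, nat_lit 10486912, nat_lit 10487040,
  nat_lit 10487296, nat_lit 10487809, nat_lit 10487810, nat_lit 10487812, nat_lit 10487816, nat_lit 10487824, nat_lit 10487840, nat_lit 10487872,
  nat_lit 10487936, nat_lit 10488064, nat_lit 10488320, nat_lit 10488832, nat_lit 10489857, nat_lit 10489858, nat_lit 10489860, nat_lit 10489864,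
  nat_lit 10489872, nat_lit 10489888, nat_lit 10489920, nat_lit 10489984, nat_lit 10490112, nat_lit 10490368, nat_lit 10490880, nat_lit 10491904,
  nat_lit 10493953, nat_lit 10493954, nat_lit 10493956, nat_lit 10493960, nat_lit 10493968, nat_lit 10493984, nat_lit 10494016, nat_lit 10494080,
  nat_lit 10494208, nat_lit 10494464, nat_lit 10494976, nat_lit 10496000, nat_lit 10498048, nat_lit 10502145, nat_lit 10502146, nat_lit 10502148,
  nat_lit 10502152, nat_lit 10502160, nat_lit 10502176, nat_lit 10502208, nat_lit 10502272, nat_lit 10502400, nat_lit 10502656, nat_lit 10503168,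
  nat_lit 10504192, nat_lit 10506240, nat_lit 10510336, nat_lit 10518529, nat_lit 10518530, nat_lit 10518532, nat_lit 10518536, nat_lit 10518544,
  nat_lit 10518560, nat_lit 10518592, nat_lit 10518656, nat_lit 10518784, nat_lit 10519040, nat_lit 10519552, nat_lit 10520576, nat_lit 10522624,
  nat_lit 10526720, nat_lit 10534912, nat_lit 10551297, nat_lit 10551298, nat_lit 10551300, nat_lit 10551304, nat_lit 10551312, nat_lit 10551328,
  nat_lit 10551360, nat_lit 10551424, nat_lit 10551552, nat_lit 10551808, nat_lit 10552320, nat_lit 10553344, nat_lit 10555392, nat_lit 10559488,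
  nat_lit 10567680, nat_lit 10584064, nat_lit 10616833, nat_lit 10616834, nat_lit 10616836, nat_lit 10616840, nat_lit 10616848, nat_lit 10616864,
  nat_lit 10616896, nat_lit 10616960, nat_lit 10617088, nat_lit 10617344, nat_lit 10617856, nat_lit 10618880, nat_lit 10620928, nat_lit 10625024,
  nat_lit 10633216, nat_lit 10649600, nat_lit 10682368, nat_lit 10747905, nat_lit 10747906, nat_lit 10747908, nat_lit 10747912, nat_lit 10747920,
  nat_lit 10747936, nat_lit 10747968, nat_lit 10748032, nat_lit 10748160, nat_lit 10748416, nat_lit 10748928, nat_lit 10749952, nat_lit 10752000,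
  nat_lit 10756096, nat_lit 10764288, nat_lit 10780672, nat_lit 10813440, nat_lit 10878976, nat_lit 11010049, nat_lit 11010050, nat_lit 11010052,
  nat_lit 11010056, nat_lit 11010064, nat_lit 11010080, nat_lit 11010112, nat_lit 11010176, nat_lit 11010304, nat_lit 11010560, nat_lit 11011072,
  nat_lit 11012096, nat_lit 11014144, nat_lit 11018240, nat_lit 11026432, nat_lit 11042816, nat_lit 11075584, nat_lit 11141120, nat_lit 11272192,
  nat_lit 11534337, nat_lit 11534338, nat_lit 11534340, nat_lit 11534344, nat_lit 11534352, nat_lit 11534368, nat_lit 11534400, nat_lit 11534464,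
  nat_lit 11534592, nat_lit 11534848, nat_lit 11535360, nat_lit 11536384, nat_lit 11538432, nat_lit 11542528, nat_lit 11550720, nat_lit 11567104,
  nat_lit 11599872, nat_lit 11665408, nat_lit 11796480, nat_lit 12058624, nat_lit 12582915, nat_lit 12582917, nat_lit 12582918, nat_lit 12582921,
  nat_lit 12582922, nat_lit 12582924, nat_lit 12582929, nat_lit 12582930, nat_lit 12582932, nat_lit 12582936, nat_lit 12582945, nat_lit 12582946,
  nat_lit 12582948, nat_lit 12582952, nat_lit 12582960, nat_lit 12582977, nat_lit 12582978, nat_lit 12582980, nat_lit 12582984, nat_lit 12582992,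
  nat_lit 12583008, nat_lit 12583041, nat_lit 12583042, nat_lit 12583044, nat_lit 12583048, nat_lit 12583056, nat_lit 12583072, nat_lit 12583104,
  nat_lit 12583169, nat_lit 12583170, nat_lit 12583172, nat_lit 12583176, nat_lit 12583184, nat_lit 12583200, nat_lit 12583232, nat_lit 12583296,
  nat_lit 12583425, nat_lit 12583426, nat_lit 12583428, nat_lit 12583432, nat_lit 12583440, nat_lit 12583456, nat_lit 12583488, nat_lit 12583552,
  nat_lit 12583680, nat_lit 12583937, nat_lit 12583938, nat_lit 12583940, nat_lit 12583944, nat_lit 12583952, nat_lit 12583968, nat_lit 12584000,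
  nat_lit 12584064, nat_lit 12584192, nat_lit 12584448, nat_lit 12584961, nat_lit 12584962, nat_lit 12584964, nat_lit 12584968, nat_lit 12584976,
  nat_lit 12584992, nat_lit 12585024, nat_lit 12585088, nat_lit 12585216, nat_lit 12585472, nat_lit 12585984, nat_lit 12587009, nat_lit 12587010,
  nat_lit 12587012, nat_lit 12587016, nat_lit 12587024, nat_lit 12587040, nat_lit 12587072, nat_lit 12587136, nat_lit 12587264, nat_lit 12587520,
  nat_lit 12588032, nat_lit 12589056, nat_lit 12591105, nat_lit 12591106, nat_lit 12591108, nat_lit 12591112, nat_lit 12591120, nat_lit 12591136,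
  nat_lit 12591168, nat_lit 12591232, nat_lit 12591360, nat_lit 12591616, nat_lit 12592128, nat_lit 12593152, nat_lit 12595200, nat_lit 12599297,
  nat_lit 12599298, nat_lit 12599300, nat_lit 12599304, nat_lit 12599312, nat_lit 12599328, nat_lit 12599360, nat_lit 12599424, nat_lit 12599552,
  nat_lit 12599808, nat_lit 12600320, nat_lit 12601344, nat_lit 12603392, nat_lit 12607488, nat_lit 12615681, nat_lit 12615682, nat_lit 12615684,
  nat_lit 12615688, nat_lit 12615696, nat_lit 12615712, nat_lit 12615744, nat_lit 12615808, nat_lit 12615936, nat_lit 12616192, nat_lit 12616704,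
  nat_lit 12617728, nat_lit 12619776, nat_lit 12623872, nat_lit 12632064, nat_lit 12648449, nat_lit 12648450, nat_lit 12648452, nat_lit 12648456,
  nat_lit 12648464, nat_lit 12648480, nat_lit 12648512, nat_lit 12648576, nat_lit 12648704, nat_lit 12648960, nat_lit 12649472, nat_lit 12650496,
  nat_lit 12652544, nat_lit 12656640, nat_lit 12664832, nat_lit 12681216, nat_lit 12713985, nat_lit 12713986, nat_lit 12713988, nat_lit 12713992,
  nat_lit 12714000, nat_lit 12714016, nat_lit 12714048, nat_lit 12714112, nat_lit 12714240, nat_lit 12714496, nat_lit 12715008, nat_lit 12716032,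
  nat_lit 12718080, nat_lit 12722176, nat_lit 12730368, nat_lit 12746752, nat_lit 12779520, nat_lit 12845057, nat_lit 12845058, nat_lit 12845060,
  nat_lit 12845064, nat_lit 12845072, nat_lit 12845088, nat_lit 12845120, nat_lit 12845184, nat_lit 12845312, nat_lit 12845568, nat_lit 12846080,
  nat_lit 12847104, nat_lit 12849152, nat_lit 12853248, nat_lit 12861440, nat_lit 12877824, nat_lit 12910592, nat_lit 12976128, nat_lit 13107201,
  nat_lit 13107202, nat_lit 13107204, nat_lit 13107208, nat_lit 13107216, nat_lit 13107232, nat_lit 13107264, nat_lit 13107328, nat_lit 13107456,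
  nat_lit 13107712, nat_lit 13108224, nat_lit 13109248, nat_lit 13111296, nat_lit 13115392, nat_lit 13123584, nat_lit 13139968, nat_lit 13172736,
  nat_lit 13238272, nat_lit 13369344, nat_lit 13631489, nat_lit 13631490, nat_lit 13631492, nat_lit 13631496, nat_lit 13631504, nat_lit 13631520,
  nat_lit 13631552, nat_lit 13631616, nat_lit 13631744, nat_lit 13632000, nat_lit 13632512, nat_lit 13633536, nat_lit 13635584, nat_lit 13639680,
  nat_lit 13647872, nat_lit 13664256, nat_lit 13697024, nat_lit 13762560, nat_lit 13893632, nat_lit 14155776, nat_lit 14680065, nat_lit 14680066,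
  nat_lit 14680068, nat_lit 14680072, nat_lit 14680080, nat_lit 14680096, nat_lit 14680128, nat_lit 14680192, nat_lit 14680320, nat_lit 14680576,
  nat_lit 14681088, nat_lit 14682112, nat_lit 14684160, nat_lit 14688256, nat_lit 14696448, nat_lit 14712832, nat_lit 14745600, nat_lit 14811136,
  nat_lit 14942208, nat_lit 15204352, nat_lit 15728640]

end

end H72
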