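/- Generators and orders of the stabilisers in `M24` of an octad, a sextet, a trio, a pair, a
triple and a pair of complementary dodecads. -/
import Cfsg.Agent.H72.Trio

set_option autoImplicit false

namespace H72

open Cfsg MulAction
open scoped Pointwise

noncomputable section

theorem card_inf_stab {X : Type*} [MulAction P24 X] {K : Subgroup P24} {a : X} {N n : ℕ}
    (hN : Nat.card K = n * N) (hn : (orbit K a).ncard = n) :
    Nat.card ↥(K ⊓ stabilizer P24 a) = N := by
  have := card_eq_orbit_mul K a
  rw [hN, hn] at this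
  have hpos : 0 < n := hn ▸ (Set.ncard_pos (Set.finite_range _)).2 ⟨_, mem_orbit_self _⟩
  exact (Nat.eq_of_mul_eq_mul_left hpos this).symm

theorem allIn_stab_set {K : Subgroup P24} {gs : List ℕ} (hK : AllIn K gs) {m : ℕ}
    (h : gs.all (fun s => Nat.beq (actM s m) m) = true) :
    AllIn (K ⊓ stabilizer P24 (ofMask m)) gs := fun s hs =>
  ⟨(hK s hs).1, (hK s hs).2,
    smul_ofMask_eq (hK s hs).1 (Nat.eq_of_beq_eq_true (List.all_eq_true.1 h s hs))⟩

theorem allIn_stab_pt {K : Subgroup P24} {gs : List ℕ} (hK : AllIn K gs) {b : ℕ} (hb : b < 24)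
    (h : gs.all (fun s => Nat.beq (ap s b) b) = true) :
    AllIn (K ⊓ stabilizer P24 (pt b)) gs := fun s hs =>
  ⟨(hK s hs).1, (hK s hs).2, by
    show toPerm s (pt b) = pt b
    rw [toPerm_pt (hK s hs).1 hb, Nat.eq_of_beq_eq_true (List.all_eq_true.1 h s hs)]⟩

theorem IsCoding.allIn_stab {Γ : Subgroup P24} {X : Type} [MulAction P24 X] {dec : ℕ → X}
    {act : ℕ → ℕ → ℕ} {idx : ℕ → ℕ} {ok : ℕ → Prop} (C : IsCoding Γ dec act idx ok)
    {K : Subgroup P24} (hKΓ : K ≤ Γ) {gs : List ℕ} (hK : AllIn K gs) {c : ℕ} (hc : ok c)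
    (h : gs.all (fun s => Nat.beq (idx (act s c)) (idx c)) = true) :
    AllIn (K ⊓ stabilizer P24 (dec c)) gs := fun s hs => by
  obtain ⟨h1, h2⟩ := C.hact s c (hK s hs).1 (hKΓ (hK s hs).2) hc
  refine ⟨(hK s hs).1, (hK s hs).2, ?_⟩
  show toPerm s • dec c = dec c
  rw [← h2, ← C.hidx _ _ h1 hc]
  exact Nat.eq_of_beq_eq_true (List.all_eq_true.1 h s hs)

theorem orbit_eq_card (s : Finset GolayPt) (h : s.card ≤ 5) :
    orbit M24 s = {t | t.card = s.card} := by
  ext t
  rw [mem_orbit_sub]
  exact ⟨by rintro ⟨g, _, rfl⟩; exact Finset.card_smul_finset _ _,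
    fun ht => set_trans (Eq.symm ht) h⟩

theorem ncard_card_eq (k : ℕ) : {t : Finset GolayPt | t.card = k}.ncard = Nat.choose 24 k := by
  rw [← card_golayPt, ← Finset.card_univ, ← Finset.card_powersetCard, ← Set.ncard_coe_finset]
  congr 1
  ext t; simp

/-- the standard pair `{0, 23}`. -/
def duo0 : ℕ := 8388609

/-- the standard triple `{0, 1, 23}`. -/
def trd0 : ℕ := 8388611

theorem card_duo0 : (ofMask duo0).card = 2 := by rw [card_ofMask]; decide +kernel

theorem card_trd0 : (ofMask trd0).card = 3 := by rw [card_ofMask]; decide +kernel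

/-- generators of the octad stabiliser. -/
def gOct : List ℕ := [nat_lit 225228725368035695587759284583172835, nat_lit 233912683217299446870036709902468193]

/-- stabiliser chain of the octad stabiliser. -/
def cOct : List (ℕ × List ℕ) := [
  (23, [nat_lit 225228725368035695587759284583172835, nat_lit 233912683217299446870036709902468193]),
  (0, [nat_lit 971620287861475662041943329235604483]),
  (1, [nat_lit 968621022908990504845619518565190176, nat_lit 975271434158150148633820749759972512]),
  (2, [nat_lit 980707337279828703591463514455327776]),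
  (3, [nat_lit 969157156704982697676055594729113632, nat_lit 966159335878249786552220386960279584]),
  (5, [nat_lit 976531636853126291160407323722221600]),
  (4, [nat_lit 961365507626256404119956257276790816, nat_lit 972512676110088067912772961567868960, nat_lit 966182099583441531322624363496310816, nat_lit 965128854020860192151391391390468128])]

theorem gOct_mem : AllIn (M24 ⊓ stabilizer P24 (ofMask oct0)) gOct := allIn_stab_set (allIn_M24 (by decide +kernel)) (by decide +kernel)

theorem cOct_mem : AllIn (M24 ⊓ stabilizer P24 (ofMask oct0)) (cgens cOct) := allIn_stab_set (allIn_M24 (by decide +kernel)) (by decide +kernel)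

theorem card_Oct : Nat.card ↥(M24 ⊓ stabilizer P24 (ofMask oct0)) = 322560 := card_inf_stab (n := 759) card_M24 (by rw [orbit_oct0, ncard_octads])

theorem Oct_eq : M24 ⊓ stabilizer P24 (ofMask oct0) = genBy gOct :=
  eq_genBy_slp gOct [(0, 0), (1, 0), (0, 0), (0, 4), (5, 5), (6, 0), (0, 0), (0, 0), (9, 0), (6, 0), (0, 1), (0, 8), (3, 12), (1, 0), (15, 14), (16, 0), (16, 0), (0, 13), (1, 0), (2, 0), (6, 0), (4, 4), (18, 0), (2, 0), (11, 12), (0, 13), (0, 14), (23, 10), (1, 0), (0, 0), (0, 1), (19, 19), (0, 19), (2, 0), (0, 1), (11, 11), (12, 0), (2, 0), (5, 9), (16, 9), (17, 0), (0, 5), (5, 0), (6, 8), (0, 8), (7, 7), (1, 0), (9, 4), (5, 10), (6, 0), (4, 0), (0, 3), (5, 0), (2, 6), (6, 0), (14, 14), (0, 18), (11, 0), (0, 10), (12, 0)] cOct gOct_mem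
    (by decide +kernel) (by rw [card_Oct]; decide +kernel)

/-- generators of the sextet stabiliser. -/
def gSex : List ℕ := [nat_lit 401121059594447376472192826854522506, nat_lit 970089238387068975472321973589639233]

/-- stabiliser chain of the sextet stabiliser. -/
def cSex : List (ℕ × List ℕ) := [
  (0, [nat_lit 401121059594447376472192826854522506, nat_lit 970089238387068975472321973589639233]),
  (1, [nat_lit 49819122070844995752953943292369984]),
  (3, [nat_lit 92751591951484555479050405174303776, nat_lit 967973583432999127906770890009446432]),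
  (2, [nat_lit 104630875893163424631744741215689760]),
  (4, [nat_lit 966182099583441531322624363496310816, nat_lit 969836898326968551397880902883313696, nat_lit 980504394422866046962412236452235296]),
  (5, [nat_lit 972606645568131968584696805283956768])]

theorem gSex_mem : AllIn (M24 ⊓ stabilizer P24 (decX tet0)) gSex := codX.allIn_stab le_rfl (allIn_M24 (by decide +kernel)) (by decide +kernel) (by decide +kernel)

theorem cSex_mem : AllIn (M24 ⊓ stabilizer P24 (decX tet0)) (cgens cSex) := codX.allIn_stab le_rfl (allIn_M24 (by decide +kernel)) (by decide +kernel) (by decide +kernel)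

theorem card_Sex : Nat.card ↥(M24 ⊓ stabilizer P24 (decX tet0)) = 138240 := card_inf_stab (n := 1771) card_M24 (by rw [orbit_sex0, ncard_sextets])

theorem Sex_eq : M24 ⊓ stabilizer P24 (decX tet0) = genBy gSex :=
  eq_genBy_slp gSex [(1, 1), (2, 0), (0, 0), (4, 0), (0, 0), (0, 0), (6, 6), (0, 0), (8, 0), (0, 0), (10, 0), (5, 0), (12, 5), (14, 4), (2, 0), (5, 4), (0, 5), (0, 6), (0, 13), (19, 18), (1, 0), (16, 10), (23, 15), (24, 0), (2, 0), (4, 0), (16, 21), (0, 22), (28, 29), (1, 0), (0, 15), (0, 0), (0, 1), (31, 7), (8, 0), (33, 0), (34, 0), (4, 0), (36, 4), (0, 0), (2, 1), (35, 36), (11, 0), (0, 1), (0, 6), (0, 0), (5, 0), (2, 0), (8, 0)] cSex gSex_mem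
    (by decide +kernel) (by rw [card_Sex]; decide +kernel)

/-- generators of the trio stabiliser. -/
def gTri : List ℕ := [nat_lit 94280669248166764852225508665100000, nat_lit 350056275469651488254881288583163530]

/-- stabiliser chain of the trio stabiliser. -/
def cTri : List (ℕ × List ℕ) := [
  (0, [nat_lit 350056275469651488254881288583163530, nat_lit 94280669248166764852225508665100000]),
  (1, [nat_lit 220007551861020564637386973747666464]),
  (2, [nat_lit 235261273244508379005811624027655200, nat_lit 735382147587880653959580145402689568]),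
  (3, [nat_lit 980961453008226842613104290058143776, nat_lit 976934804572108675034832543981668384]),
  (4, [nat_lit 967812279691448225500382947153381408, nat_lit 971592882964418941354553515258775584, nat_lit 961365507626256404119956257276790816, nat_lit 975346028712660580592452217730074656])]

theorem gTri_mem : AllIn (M24 ⊓ stabilizer P24 (decT tri0)) gTri := codT.allIn_stab le_rfl (allIn_M24 (by decide +kernel)) okT_tri0 (by decide +kernel)

theorem cTri_mem : AllIn (M24 ⊓ stabilizer P24 (decT tri0)) (cgens cTri) := codT.allIn_stab le_rfl (allIn_M24 (by decide +kernel)) okT_tri0 (by decide +kernel)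

theorem card_Tri : Nat.card ↥(M24 ⊓ stabilizer P24 (decT tri0)) = 64512 := card_inf_stab (n := 3795) card_M24 ncard_orbit_tri0

theorem Tri_eq : M24 ⊓ stabilizer P24 (decT tri0) = genBy gTri :=
  eq_genBy_slp gTri [(1, 1), (2, 0), (0, 0), (0, 0), (5, 0), (5, 5), (0, 0), (7, 0), (4, 0), (10, 7), (1, 0), (7, 6), (0, 7), (13, 12), (1, 0), (0, 7), (5, 16), (6, 0), (7, 0), (3, 0), (20, 3), (6, 0), (2, 2), (1, 0), (16, 9), (0, 10), (0, 11), (27, 16), (8, 6), (7, 0), (10, 0), (31, 25), (0, 9), (13, 0), (9, 26), (0, 24), (0, 13), (0, 1), (6, 18), (16, 0), (0, 9), (17, 17), (22, 6), (9, 19), (1, 0)] cTri gTri_mem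
    (by decide +kernel) (by rw [card_Tri]; decide +kernel)

/-- generators of the pair stabiliser. -/
def gDuo : List ℕ := [nat_lit 6015148935503774662639633659312727, nat_lit 14980550243119272617450074208078487]

/-- stabiliser chain of the pair stabiliser. -/
def cDuo : List (ℕ × List ℕ) := [
  (1, [nat_lit 6015148935503774662639633659312727, nat_lit 14980550243119272617450074208078487]),
  (2, [nat_lit 984354006765561519463130653440655392, nat_lit 959566408042095295033553263408986144]),
  (0, [nat_lit 6012833785187618140415363588917303]),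
  (3, [nat_lit 976448692869377735270425038196672544, nat_lit 980456082672250434663558209273727008]),
  (4, [nat_lit 969836898326968551397880902883313696, nat_lit 980224387687010295957922729495201824, nat_lit 971592882964418941354553515258775584]),
  (5, [nat_lit 972606645568131968584696805283956768])]

theorem gDuo_mem : AllIn (M24 ⊓ stabilizer P24 (ofMask duo0)) gDuo := allIn_stab_set (allIn_M24 (by decide +kernel)) (by decide +kernel)

theorem cDuo_mem : AllIn (M24 ⊓ stabilizer P24 (ofMask duo0)) (cgens cDuo) := allIn_stab_set (allIn_M24 (by decide +kernel)) (by decide +kernel)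

theorem card_Duo : Nat.card ↥(M24 ⊓ stabilizer P24 (ofMask duo0)) = 887040 := card_inf_stab (n := 276) card_M24 (by
  rw [orbit_eq_card _ (by rw [card_duo0]; norm_num), card_duo0, ncard_card_eq]; rfl)

theorem Duo_eq : M24 ⊓ stabilizer P24 (ofMask duo0) = genBy gDuo :=
  eq_genBy_slp gDuo [(0, 0), (1, 0), (2, 0), (3, 0), (0, 0), (5, 0), (7, 7), (8, 0), (0, 0), (10, 0), (5, 0), (12, 11), (12, 0), (14, 0), (14, 0), (4, 0), (11, 10), (0, 11), (12, 8), (0, 13), (0, 10), (22, 9), (23, 0), (23, 0), (3, 0), (9, 7), (23, 0), (2, 0), (25, 0), (0, 0), (9, 24), (32, 30), (1, 0), (30, 0), (0, 16), (16, 25), (0, 26), (0, 31), (0, 24), (4, 0), (0, 22), (2, 8), (26, 17), (18, 0), (2, 0), (4, 0), (4, 7), (0, 4), (0, 19), (8, 1), (1, 0), (21, 5), (6, 0), (2, 0), (5, 5), (0, 6), (0, 6), (12, 28), (0, 7), (13, 0), (3, 0), (3, 5), (4, 0), (5, 0), (10, 3)] cDuo gDuo_mem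
    (by decide +kernel) (by rw [card_Duo]; decide +kernel)

/-- generators of the triple stabiliser. -/
def gTrd : List ℕ := [nat_lit 47468891493322350398136548040574999, nat_lit 59893567048993054653154741879224032]

/-- stabiliser chain of the triple stabiliser. -/
def cTrd : List (ℕ × List ℕ) := [
  (0, [nat_lit 47468891493322350398136548040574999]),
  (2, [nat_lit 984724508489452699215480746259449888, nat_lit 59893567048993054653154741879224032]),
  (3, [nat_lit 57710494658344805320162536057342688, nat_lit 70922876309338878549181079300016864]),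
  (1, [nat_lit 63050746534457848322328043097000672]),
  (4, [nat_lit 961365507626256404119956257276790816, nat_lit 971828115858035635643548061566863392, nat_lit 964862721552653238424309835408443424]),
  (5, [nat_lit 976531636853126291160407323722221600])]

theorem gTrd_mem : AllIn (M24 ⊓ stabilizer P24 (ofMask trd0)) gTrd := allIn_stab_set (allIn_M24 (by decide +kernel)) (by decide +kernel)

theorem cTrd_mem : AllIn (M24 ⊓ stabilizer P24 (ofMask trd0)) (cgens cTrd) := allIn_stab_set (allIn_M24 (by decide +kernel)) (by decide +kernel)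

theorem card_Trd : Nat.card ↥(M24 ⊓ stabilizer P24 (ofMask trd0)) = 120960 := card_inf_stab (n := 2024) card_M24 (by
  rw [orbit_eq_card _ (by rw [card_trd0]; norm_num), card_trd0, ncard_card_eq]; rfl)

theorem Trd_eq : M24 ⊓ stabilizer P24 (ofMask trd0) = genBy gTrd :=
  eq_genBy_slp gTrd [(0, 0), (1, 0), (1, 1), (3, 0), (5, 5), (6, 0), (0, 0), (8, 0), (4, 0), (0, 8), (0, 0), (0, 9), (0, 4), (14, 13), (11, 0), (16, 0), (17, 0), (2, 0), (5, 0), (9, 11), (0, 12), (0, 13), (23, 5), (8, 0), (2, 0), (4, 15), (24, 15), (28, 0), (2, 0), (7, 19), (0, 7), (2, 0), (0, 3), (0, 4), (9, 9), (16, 0), (11, 0), (12, 0), (4, 0), (0, 0), (21, 15), (6, 12), (0, 11), (0, 12), (19, 25), (26, 0), (27, 0), (3, 0), (7, 9), (1, 0), (19, 21), (3, 0), (0, 13), (0, 13), (13, 14), (14, 0), (6, 0), (7, 0), (4, 0)] cTrd gTrd_mem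
    (by decide +kernel) (by rw [card_Trd]; decide +kernel)

end

end H72
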