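/- O7, chapter B: the weights of involutions (slot `W4`). -/
import Cfsg.Agent.H31.O7K

set_option autoImplicit false
set_option linter.unusedSectionVars false

namespace H72.W4

open H56 QuadraticMap Module Cfsg Subgroup H31.O7
open H20.LD (cp E15)
open scoped commutatorElement

universe u

variable {K : Type u} [Field K] {V : Type u} [AddCommGroup V] [Module K V] {Q : QuadraticForm K V}
  {a c g s t z i j : O Q} {u v w x y : V} {b b' : Bool} {U : Submodule K V}

/-- the sign -/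
def sg (K : Type u) [Field K] (b : Bool) : K := cond b (-1) 1

theorem sg_xor (a b : Bool) : sg K (xor a b) = sg K a * sg K b := by
  cases a <;> cases b <;> simp [sg]

theorem sg_sq (b : Bool) : sg K b * sg K b = 1 := by cases b <;> simp [sg]

theorem sg_ne (b : Bool) : sg K b ≠ 0 := left_ne_zero_of_mul_eq_one (sg_sq b)

/-- the eigenspace -/
def Ei (s : O Q) (b : Bool) : Submodule K V where
  carrier := {v | s v = sg K b • v}
  zero_mem' := by simp
  add_mem' := fun {x y} (h : s x = _) (h' : s y = _) => by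
    change s (x + y) = _
    rw [map_add, h, h', smul_add]
  smul_mem' := fun c x (h : s x = _) => by
    change s (c • x) = _
    rw [map_smul, h, smul_comm]

theorem mem_Ei : v ∈ Ei s b ↔ s v = sg K b • v := Iff.rfl

theorem mem_true : v ∈ Ei s true ↔ s v = -v := by simp [mem_Ei, sg]

theorem comm_mem (h : Commute g s) (hv : v ∈ Ei s b) : g v ∈ Ei s b := by
  rw [mem_Ei, ← O.mul_apply, ← h.eq, O.mul_apply, mem_Ei.1 hv, map_smul]

theorem ei_mul (h : Commute s t) (hv : v ∈ Ei s b) : v ∈ Ei (s * t) (xor b b') ↔ v ∈ Ei t b' := by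
  rw [mem_Ei, h.eq, O.mul_apply, mem_Ei.1 hv, map_smul, sg_xor, mul_smul, smul_right_inj (sg_ne b), mem_Ei]

theorem proj_mem (hs : s * s = 1) (u : V) (b : Bool) : u + sg K b • s u ∈ Ei s b := by
  rw [mem_Ei, map_add, map_smul, ← O.mul_apply, hs, O.one_apply, smul_add, smul_smul, sg_sq, one_smul,
    add_comm]

theorem proj_keep (h : Commute s t) (hu : u ∈ Ei t b') (b : Bool) : u + sg K b • s u ∈ Ei t b' :=
  Submodule.add_mem _ hu (Submodule.smul_mem _ _ (comm_mem h hu))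

theorem polar_proj (hs : s * s = 1) (hx : x ∈ Ei s b) (y : V) :
    polar Q x (y + sg K b • s y) = 2 * polar Q x y := by
  have : polar Q x (s y) = sg K b * polar Q x y := by
    rw [← s.map_polar, ← O.mul_apply, hs, O.one_apply, mem_Ei.1 hx, polar_smul_left, smul_eq_mul]
  rw [polar_add_right, polar_smul_right, this, smul_eq_mul, ← mul_assoc, sg_sq]; ring

variable (h2 : (2 : K) ≠ 0)
include h2

theorem sg_inj (h : sg K b = sg K b') : b = b' := by
  cases b <;> cases b' <;> simp only [sg, cond_true, cond_false] at h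
  · rfl
  · exact absurd (by linear_combination h) h2
  · exact absurd (by linear_combination -h) h2
  · rfl

theorem ei_uniq (hv : v ≠ 0) (h : v ∈ Ei s b) (h' : v ∈ Ei s b') : b = b' :=
  sg_inj h2 (smul_left_injective K hv ((mem_Ei.1 h).symm.trans (mem_Ei.1 h')))

theorem polar_ei (hx : x ∈ Ei s b) (hy : y ∈ Ei s b') (h : b ≠ b') : polar Q x y = 0 := by
  have := s.map_polar x y
  rw [mem_Ei.1 hx, mem_Ei.1 hy, polar_smul_left, polar_smul_right, smul_smul, ← sg_xor,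
    show xor b b' = true by simpa using h] at this
  exact mul_left_cancel₀ h2 (by simp only [sg, cond_true, smul_eq_mul] at this; linear_combination -this)

theorem refine_ns (s : O Q) (hu : Q u ≠ 0) : ∃ b, Q (u + sg K b • s u) ≠ 0 := by
  by_contra h
  push Not at h
  have h1 := h true
  have h3 := h false
  simp only [sg, cond_true, cond_false, one_smul, neg_smul, Q_add, QuadraticMap.map_neg, O.map_Q,
    polar_neg_right] at h1 h3
  exact hu (mul_left_cancel₀ (mul_ne_zero h2 h2) (by linear_combination h1 + h3))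

theorem mov_eq (hs : s * s = 1) : s.mov = Ei s true :=
  Submodule.ext fun _ => (mem_mov_of_inv h2 hs).trans mem_true.symm

theorem ex_ns (hQ : Q.polarBilin.Nondegenerate) (hs : s * s = 1) (h1 : s ≠ 1) :
    ∃ u ∈ Ei s true, Q u ≠ 0 := by
  by_contra h
  push Not at h
  refine h1 (O.ext fun v => sub_eq_zero.1 (eq_zero_of_polar hQ fun y => ?_))
  have m : s v - (1 : O Q) v ∈ Ei s true := mov_eq h2 hs ▸ s.sub_mem_mov v
  have m' := proj_mem hs y true
  have := polar_proj hs m y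
  rw [polar, h _ (Submodule.add_mem _ m m'), h _ m, h _ m'] at this
  exact mul_left_cancel₀ h2 (by linear_combination -this)

theorem li_of {ι : Type} {e : ι → V} (h : ∀ k, Q (e k) ≠ 0) (h' : ∀ k l, k ≠ l → polar Q (e k) (e l) = 0) :
    LinearIndependent K e :=
  LinearMap.linearIndependent_of_isOrthoᵢ (B := Q.polarBilin) h' fun k => by
    rw [polarBilin_apply_apply, polar_self']; exact mul_ne_zero h2 (h k)

variable [FiniteDimensional K V]

theorem card_le {ι : Type} [Fintype ι] {e : ι → V} (m : ∀ k, e k ∈ U) (h : ∀ k, Q (e k) ≠ 0)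
    (h' : ∀ k l, k ≠ l → polar Q (e k) (e l) = 0) : Fintype.card ι ≤ finrank K U :=
  (LinearIndependent.of_comp U.subtype (v := fun k => (⟨e k, m k⟩ : U))
    (li_of h2 h h')).fintype_card_le_finrank

theorem split (hs : s * s = 1) (h : ∀ x ∈ U, s x ∈ U) :
    finrank K U = finrank K ↥(U ⊓ Ei s false) + finrank K ↥(U ⊓ Ei s true) := by
  have k : ∀ x ∈ U, ∀ b, x + sg K b • s x ∈ U ⊓ Ei s b := fun x hx b =>
    ⟨U.add_mem hx (U.smul_mem _ (h x hx)), proj_mem hs x b⟩
  rw [← Submodule.finrank_sup_add_finrank_inf_eq, show U ⊓ Ei s false ⊓ (U ⊓ Ei s true) = ⊥ from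
    eq_bot_iff.2 fun x hx => by_contra fun e => Bool.false_ne_true (ei_uniq h2 e hx.1.2 hx.2.2),
    finrank_bot, add_zero, show U ⊓ Ei s false ⊔ U ⊓ Ei s true = U from
      le_antisymm (sup_le inf_le_left inf_le_left) fun x hx => ?_]
  have := Submodule.smul_mem _ (2 : K)⁻¹ (Submodule.add_mem_sup (k x hx false) (k x hx true))
  rwa [show x + sg K false • s x + (x + sg K true • s x) = (2 : K) • x by simp [sg, two_smul]; abel,
    inv_smul_smul₀ h2] at this

/-- The quaternion group. -/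
theorem q8_dim (h : Q8 i j) (hu : u ∈ Ei (i * i) true) (h0 : Q u ≠ 0) (m : u ∈ U)
    (hi : ∀ x ∈ U, i x ∈ U) (hj : ∀ x ∈ U, j x ∈ U) : 4 ≤ finrank K U := by
  have k : ∀ (g : O Q) (x : V), g * g = i * i → x ∈ Ei (i * i) true → polar Q x (g x) = 0 := fun g x e hx => by
    have := g.map_polar x (g x)
    rw [← O.mul_apply g g, e, mem_true.1 hx, polar_neg_right, polar_comm] at this
    exact mul_left_cancel₀ h2 (by linear_combination -this)
  have e : i * j * (i * j) = i * i := by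
    rw [show i * j * (i * j) = i * j * i⁻¹ * (i * i) * j by group, h.cj, ← h.sq]; group
  have cj : Commute j (i * i) := h.sq ▸ (Commute.refl j).mul_right (Commute.refl j)
  have p1 := k i u rfl hu
  have p2 := k j u h.sq hu
  have p3 : polar Q u (i (j u)) = 0 := k (i * j) u e hu
  have p4 : polar Q (i u) (j u) = 0 := by
    rw [← i.map_polar, ← O.mul_apply, mem_true.1 hu, polar_neg_left, p3, neg_zero]
  have p5 : polar Q (i u) (i (j u)) = 0 := by rw [O.map_polar, p2]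
  have p6 := k i (j u) rfl (comm_mem cj hu)
  refine card_le h2 (Q := Q) (ι := Fin 4) (e := ![u, i u, j u, i (j u)]) (fun k => ?_) (fun k => ?_) fun k l e => ?_
  · fin_cases k
    exacts [m, hi _ m, hj _ m, hi _ (hj _ m)]
  · fin_cases k <;> simpa using h0
  · fin_cases k <;> fin_cases l <;> first | exact absurd rfl e | assumption | exact (polar_comm _ _ _).trans ‹_›

/-- The two types of isometries of a plane. -/
def Ty (u w : V) (g : O Q) (ε : K) : Prop := ε * ε = 1 ∧ ∃ α β : K,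
  g u = α • u + (β * Q u) • w ∧ g w = ε • (-(β * Q w) • u + α • w)

omit h2 in
theorem Ty.mul {ε δ : K} (h : Ty u w g ε) (h' : Ty u w s δ) : Ty u w (g * s) (ε * δ) := by
  obtain ⟨e, α, β, h1, h3⟩ := h
  obtain ⟨e', α', β', h4, h5⟩ := h'
  refine ⟨by linear_combination δ * δ * e + e', α' * α - ε * β * β' * Q u * Q w, α' * β + ε * β' * α, ?_, ?_⟩
  · simp only [O.mul_apply, h4, map_add, map_smul, h1, h3]; module
  · simp only [O.mul_apply, h5, map_add, map_smul, h1, h3]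
    linear_combination (norm := module) (δ * β' * α * Q w * e) • u + (δ * β * β' * Q u * Q w * e) • w

theorem coef (hu : Q u ≠ 0) (hw : Q w ≠ 0) (p : polar Q u w = 0) {α β α' β' : K}
    (h : α • u + β • w = α' • u + β' • w) : α = α' ∧ β = β' := by
  have h1 := congrArg (polar Q u) h
  have h3 := congrArg (polar Q w) h
  simp only [polar_add_right, polar_smul_right, polar_self', p, polar_comm Q w u, smul_eq_mul, mul_zero,
    add_zero, zero_add] at h1 h3
  exact ⟨mul_right_cancel₀ (mul_ne_zero h2 hu) h1, mul_right_cancel₀ (mul_ne_zero h2 hw) h3⟩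

theorem Ty.uniq (hu : Q u ≠ 0) (hw : Q w ≠ 0) (p : polar Q u w = 0) {ε δ : K} (h : Ty u w g ε)
    (h' : Ty u w g δ) : ε = δ := by
  obtain ⟨-, α, β, h1, h3⟩ := h
  obtain ⟨-, α', β', h4, h5⟩ := h'
  obtain ⟨rfl, e⟩ := coef h2 hu hw p (h1.symm.trans h4)
  obtain rfl := mul_right_cancel₀ hu e
  refine smul_left_injective K (fun e => hw ?_) (h3.symm.trans h5)
  rw [← g.map_Q, h3, e, smul_zero, map_zero]

theorem ex_ty (hu : Q u ≠ 0) (hw : Q w ≠ 0) (p : polar Q u w = 0) {α β γ δ : K}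
    (h1 : g u = α • u + β • w) (h3 : g w = γ • u + δ • w) : ∃ ε, Ty u w g ε := by
  have e1 := g.map_Q u
  have e2 := g.map_Q w
  have e3 := g.map_polar u w
  simp only [h1, h3, Q_add, Q_smul, polar_add_left, polar_add_right, polar_smul_left, polar_smul_right,
    polar_self', p, polar_comm Q w u, smul_eq_mul, mul_zero, add_zero, zero_add] at e1 e2 e3
  have e4 : α * γ * Q u + β * δ * Q w = 0 := mul_left_cancel₀ h2 (by linear_combination e3)
  have e5 : (α * δ - β * γ) * (α * δ - β * γ) = 1 := mul_left_cancel₀ (mul_ne_zero hu hw) (by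
    linear_combination (γ * γ * Q u + δ * δ * Q w) * e1 + Q u * e2 - (α * γ * Q u + β * δ * Q w) * e4)
  have e6 : δ = (α * δ - β * γ) * α := mul_left_cancel₀ hu (by linear_combination β * e4 - δ * e1)
  have e7 : γ = (α * δ - β * γ) * -(β / Q u * Q w) := mul_left_cancel₀ hu (by
    field_simp
    linear_combination α * e4 - γ * e1)
  refine ⟨_, e5, α, β / Q u, by rw [div_mul_cancel₀ _ hu, h1], ?_⟩
  rw [smul_add, smul_smul, smul_smul, ← e6, ← e7, h3]

/-- The orthogonal group of a line or a plane is metabelian. -/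
theorem plane (H : Subgroup (O Q)) (hH : ∀ g ∈ H, ∀ x ∈ U, g x ∈ U) (d : finrank K U ≤ 2) (m : u ∈ U)
    (hu : Q u ≠ 0) (nd : ∀ w ∈ U, w ≠ 0 → ∃ y ∈ U, polar Q w y ≠ 0) {g g' : O Q} (hg : g ∈ ⁅H, H⁆)
    (hg' : g' ∈ ⁅H, H⁆) : g (g' u) = g' (g u) := by
  have l : ⁅H, H⁆ ≤ H := commutator_le.2 fun a ha c hc =>
    mul_mem (mul_mem (mul_mem ha hc) (inv_mem ha)) (inv_mem hc)
  by_cases h : ∀ x ∈ U, ∃ c : K, x = c • u
  · obtain ⟨α, e⟩ := h _ (hH g (l hg) u m)
    obtain ⟨β, e'⟩ := h _ (hH g' (l hg') u m)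
    rw [e, e', map_smul, map_smul, e, e', smul_comm]
  push Not at h
  obtain ⟨x, hx, x0⟩ := h
  obtain ⟨w, hw⟩ : ∃ w, w = x - (polar Q u x / (2 * Q u)) • u := ⟨_, rfl⟩
  have wU : w ∈ U := hw ▸ U.sub_mem hx (U.smul_mem _ m)
  have w0 : w ≠ 0 := fun e => x0 _ (sub_eq_zero.1 (hw ▸ e))
  have p : polar Q u w = 0 := by
    rw [hw, polar_sub_right, polar_smul_right, polar_self', smul_eq_mul, div_mul_cancel₀ _ (mul_ne_zero h2 hu),
      sub_self]
  have li : LinearIndependent K ![u, w] := LinearIndependent.pair_iff.2 fun α β e => by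
    have := congrArg (polar Q u) e
    simp only [polar_add_right, polar_smul_right, polar_self', p, smul_eq_mul, mul_zero, add_zero,
      polar_zero_right, mul_eq_zero, h2, hu, or_false] at this
    exact ⟨this, by simpa [this, w0] using e⟩
  have sp : ∀ y ∈ U, ∃ α β : K, y = α • u + β • w := fun y hy => by
    rw [← Submodule.eq_of_le_of_finrank_le (S₁ := Submodule.span K {u, w}) (Submodule.span_le.2 (by
      rintro _ (rfl | rfl) <;> assumption)) (d.trans (finrank_span_pair li).ge), Submodule.mem_span_pair] at hy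
    obtain ⟨α, β, e⟩ := hy
    exact ⟨α, β, e.symm⟩
  have hw' : Q w ≠ 0 := fun e => by
    obtain ⟨y, hy, r⟩ := nd w wU w0
    obtain ⟨α, β, rfl⟩ := sp y hy
    simp [polar_add_right, polar_smul_right, polar_self', polar_comm Q w u, p, e] at r
  have ty : ∀ g ∈ H, ∃ ε, Ty u w g ε := fun g hg => by
    obtain ⟨α, β, e⟩ := sp _ (hH g hg u m)
    obtain ⟨γ, δ, e'⟩ := sp _ (hH g hg w wU)
    exact ex_ty h2 hu hw' p e e'
  have one : Ty u w (1 : O Q) 1 := ⟨one_mul _, 1, 0, by simp, by simp⟩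
  have rot : ∀ g ∈ ⁅H, H⁆, Ty u w g 1 := fun g hg => by
    induction hg using closure_induction with
    | mem g hg =>
      obtain ⟨a, ha, c, hc, rfl⟩ := hg
      obtain ⟨ε, e1⟩ := ty a ha
      obtain ⟨δ, e2⟩ := ty c hc
      obtain ⟨η, e3⟩ := ty _ (l (commutator_mem_commutator ha hc))
      have e4 := (e3.mul e2).mul e1
      rw [show ⁅a, c⁆ * c * a = a * c by rw [commutatorElement_def]; group] at e4
      have e5 := Ty.uniq h2 hu hw' p e4 (e1.mul e2)
      rwa [show η = 1 by linear_combination δ * ε * e5 - η * ε * ε * e2.1 - η * e1.1 + δ * δ * e1.1 + e2.1] at e3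
    | one => exact one
    | mul a c _ _ ha hc => simpa using ha.mul hc
    | inv a ha hc =>
      obtain ⟨ε, e1⟩ := ty _ (inv_mem (l ha))
      have := hc.mul e1
      rw [mul_inv_cancel, one_mul] at this
      rwa [Ty.uniq h2 hu hw' p this one] at e1
  obtain ⟨-, α, β, e1, e2⟩ := rot g hg
  obtain ⟨-, α', β', e3, e4⟩ := rot g' hg'
  simp only [e1, e3, map_add, map_smul, e2, e4]
  module

/-- A non-singular common eigenvector of the conjugates of `a`. -/
theorem ex_eig (hQ : Q.polarBilin.Nondegenerate) {n : ℕ} (h1 : a ≠ 1) (hs : a * a = 1)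
    (hc : ∀ k ≤ n, Commute a (cp g k a)) (hr : cp g (n + 1) a = a * cp g 1 a) (hn : 1 ≤ n) :
    ∃ (v : V) (t : ℕ → Bool), Q v ≠ 0 ∧ t 0 = true ∧ (∀ k, t (k + (n + 1)) = xor (t k) (t (k + 1))) ∧
      ∀ k, v ∈ Ei (cp g k a) (t k) := by
  have k1 : ∀ m ≤ n, ∃ v, Q v ≠ 0 ∧ v ∈ Ei a true ∧ ∀ k ≤ m, ∃ b, v ∈ Ei (cp g k a) b := fun m => by
    induction m with
    | zero =>
      obtain ⟨v, a1, a2⟩ := ex_ns h2 hQ hs h1
      exact fun _ => ⟨v, a2, a1, fun k hk => ⟨true, by rwa [Nat.le_zero.1 hk, cp_zero]⟩⟩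
    | succ m ih =>
      intro hm
      obtain ⟨v, a1, a2, a3⟩ := ih (by omega)
      obtain ⟨b, hb⟩ := refine_ns h2 (cp g (m + 1) a) a1
      refine ⟨_, hb, proj_keep (hc _ hm).symm a2 b, fun k hk => ?_⟩
      rcases hk.eq_or_lt with rfl | r
      · exact ⟨b, proj_mem (by rw [← cp_mul, hs]; simp [cp]) v b⟩
      · obtain ⟨b', hb'⟩ := a3 k (by omega)
        have := cp_comm g k (hc (m + 1 - k) (by omega))
        rw [cp_cp, show k + (m + 1 - k) = m + 1 by omega] at this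
        exact ⟨b', proj_keep this.symm hb' b⟩
  obtain ⟨v, a1, a2, a3⟩ := k1 n le_rfl
  have r : ∀ k, cp g (k + (n + 1)) a = cp g k a * cp g (k + 1) a := fun k => by
    rw [← cp_cp, hr, cp_mul, cp_cp]
  have k2 : ∀ k b b', v ∈ Ei (cp g k a) b → v ∈ Ei (cp g (k + 1) a) b' →
      v ∈ Ei (cp g (k + (n + 1)) a) (xor b b') := fun k b b' e e' => by
    rw [r, ei_mul (by simpa only [cp_cp] using cp_comm g k (hc 1 hn)) e]; exact e'
  have k3 : ∀ k, ∃ b, v ∈ Ei (cp g k a) b := fun k => by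
    induction k using Nat.strong_induction_on with
    | _ k ih =>
      by_cases e : k ≤ n
      · exact a3 k e
      obtain ⟨k, rfl⟩ : ∃ l, k = l + (n + 1) := ⟨k - (n + 1), by omega⟩
      obtain ⟨b, e1⟩ := ih k (by omega)
      obtain ⟨b', e2⟩ := ih (k + 1) (by omega)
      exact ⟨_, k2 k b b' e1 e2⟩
  choose t ht using k3
  have v0 : v ≠ 0 := fun e => a1 (by rw [e, map_zero])
  exact ⟨v, t, a1, ei_uniq h2 v0 (cp_zero g a ▸ ht 0) a2,
    fun k => ei_uniq h2 v0 (ht _) (k2 k _ _ (ht k) (ht (k + 1))), ht⟩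

omit h2 in
theorem ei_shift {k : ℕ} (h : v ∈ Ei (cp g k a) b) (d : ℕ) : (g ^ d) v ∈ Ei (cp g (d + k) a) b := by
  rw [mem_Ei, ← cp_cp, cp, O.mul_apply, O.mul_apply, O.inv_apply_apply, mem_Ei.1 h, map_smul]

/-- The translates of the eigenvector are separated. -/
theorem sep {t : ℕ → Bool} {N : ℕ} (h : ∀ k, v ∈ Ei (cp g k a) (t k))
    (ht : ∀ d, 0 < d → d < N → ∃ m, t m ≠ t (m + d)) (hc : ∀ k, Commute c (cp g k a)) (k l : Fin N)
    (e : k ≠ l) : polar Q (c ((g ^ k.val) v)) ((g ^ l.val) v) = 0 := by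
  have key : ∀ k l : Fin N, k < l → ∃ M b b', b ≠ b' ∧ (g ^ k.val) v ∈ Ei (cp g M a) b ∧
      (g ^ l.val) v ∈ Ei (cp g M a) b' := fun k l r => by
    obtain ⟨m, hm⟩ := ht (l - k) (by omega) (by omega)
    refine ⟨l + m, _, _, hm.symm, ?_, ei_shift (h m) l⟩
    simpa only [show k.val + (m + (l.val - k.val)) = l.val + m by omega] using ei_shift (h (m + (l - k))) k
  rcases lt_or_gt_of_ne e with r | r
  · obtain ⟨M, b, b', e1, e2, e3⟩ := key k l r
    exact polar_ei h2 (comm_mem (hc M) e2) e3 e1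
  · obtain ⟨M, b, b', e1, e2, e3⟩ := key l k r
    exact polar_ei h2 (comm_mem (hc M) e3) e2 e1.symm

end H72.W4

namespace H72.W4

open H56 QuadraticMap Module Cfsg Subgroup H31.O7
open H20.LD (cp E15)
open scoped commutatorElement

universe u

def f3 (x : Bool × Bool × Bool) : Bool × Bool × Bool := (x.2.1, x.2.2, xor x.1 x.2.1)
def f4 (x : Bool × Bool × Bool × Bool) : Bool × Bool × Bool × Bool :=
  (x.2.1, x.2.2.1, x.2.2.2, xor x.1 x.2.1)

theorem seq3 {t : ℕ → Bool} (h : ∀ k, t (k + (2 + 1)) = xor (t k) (t (k + 1))) (k : ℕ) :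
    f3^[k] (t 0, t 1, t 2) = (t k, t (k + 1), t (k + 2)) := by
  induction k with
  | zero => rfl
  | succ k ih => rw [Function.iterate_succ_apply', ih, f3, ← h]

theorem seq4 {t : ℕ → Bool} (h : ∀ k, t (k + (3 + 1)) = xor (t k) (t (k + 1))) (k : ℕ) :
    f4^[k] (t 0, t 1, t 2, t 3) = (t k, t (k + 1), t (k + 2), t (k + 3)) := by
  induction k with
  | zero => rfl
  | succ k ih => rw [Function.iterate_succ_apply', ih, f4, ← h]

theorem d3 : ∀ y z : Bool, (∀ d < 7, 0 < d → ∃ m < 7, (f3^[m] (true, y, z)).1 ≠ (f3^[m + d] (true, y, z)).1) ∧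
    Fintype.card {d : Fin 7 // (f3^[6 - d.val] (true, y, z)).1 = true} = 4 := by decide +kernel

theorem d4 : ∀ y z w : Bool, ∀ d < 8, 0 < d →
    ∃ m < 15, (f4^[m] (true, y, z, w)).1 ≠ (f4^[m + d] (true, y, z, w)).1 := by decide +kernel

variable {K : Type u} [Field K] {V : Type u} [AddCommGroup V] [Module K V] [FiniteDimensional K V]
  {Q : QuadraticForm K V} {Γ : Type} [Group Γ] {p : ℕ} {ρ : Γ →* O Q} (h : Rp p ρ)
include h

omit h in
theorem E7.map {a g : Γ} (e : E7 a g) (hρ : Function.Injective ρ) : E7 (ρ a) (ρ g) :=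
  ⟨(map_ne_one_iff ρ hρ).2 e.ne, by rw [← map_mul, e.sq, map_one], map_cp ρ g a 1 ▸ e.c1.map ρ,
    map_cp ρ g a 2 ▸ e.c2.map ρ, by rw [← map_cp, ← map_cp, e.rel, map_mul]⟩

omit h in
theorem Q8.map {i j : Γ} (e : Q8 i j) (hρ : Function.Injective ρ) : Q8 (ρ i) (ρ j) :=
  ⟨by rw [← map_mul, e.sq, map_mul], by rw [← map_inv, ← map_mul, ← map_mul, e.cj, map_inv],
    by rw [← map_mul]; exact (map_ne_one_iff ρ hρ).2 e.ne⟩

/-- The eigenvector of `2³ : 7`. -/
theorem e7_vec {a g : O Q} (e : E7 a g) : ∃ (v : V) (t : ℕ → Bool), Q v ≠ 0 ∧ t 0 = true ∧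
    (∀ k, t (k + 3) = xor (t k) (t (k + 1))) ∧ (∀ k, v ∈ Ei (cp g k a) (t k)) ∧
    (∀ d, 0 < d → d < 7 → ∃ m, t m ≠ t (m + d)) ∧ Fintype.card {d : Fin 7 // t (6 - d.val) = true} = 4 := by
  obtain ⟨v, t, a1, a2, a3, a4⟩ := ex_eig h.two h.nd (n := 2) e.ne e.sq (fun k hk => by
    interval_cases k
    exacts [by rw [cp_zero], e.c1, e.c2]) e.rel (by omega)
  have k : ∀ m, (f3^[m] (true, t 1, t 2)).1 = t m := fun m => by rw [← a2, seq3 a3]
  obtain ⟨b1, b2⟩ := d3 (t 1) (t 2)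
  simp only [k] at b1 b2
  exact ⟨v, t, a1, a2, a3, a4, fun d d0 d7 => let ⟨m, _, r⟩ := b1 d d7 d0; ⟨m, r⟩, b2⟩

/-- A vector orthogonal to seven orthogonal non-singular vectors vanishes. -/
theorem eq_zero7 {e : Fin 7 → V} (h1 : ∀ k, Q (e k) ≠ 0) (h3 : ∀ k l, k ≠ l → polar Q (e k) (e l) = 0) :
    Submodule.span K (Set.range e) = ⊤ :=
  (li_of h.two h1 h3).span_eq_top_of_card_eq_finrank (by simp [h.dim])

theorem rk_e7 {a g : O Q} (e : E7 a g) : 4 ≤ a.rk := by
  obtain ⟨v, t, a1, -, -, a4, a5, a6⟩ := e7_vec h e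
  rw [rk_conj (isConj_cp g a 6), O.rk, mov_eq h.two (by rw [← cp_mul, e.sq]; simp [cp]), ← a6]
  refine card_le h.two (e := fun d => (g ^ d.1.val) v) (fun d => ?_) (fun d => by simpa using a1)
    fun k l r => sep h.two (c := 1) a4 a5 (fun _ => Commute.one_left _) k.1 l.1 fun e => r (Subtype.ext e)
  have := ei_shift (a4 (6 - d.1.val)) d.1.val
  rwa [d.2, show d.1.val + (6 - d.1.val) = 6 by omega] at this

theorem g3 (x : Γ) (e : G3 x) : 3 ≤ (ρ x).rk := by
  obtain ⟨a, b, c, ha, hb, hc, e⟩ := e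
  by_contra r
  have h1 := h.rk_add a
  have h3 := h.rk_add b
  have h4 := h.rk_add c
  rw [← Rp.rk_conj ha] at h1
  rw [← Rp.rk_conj hb] at h3
  rw [← Rp.rk_conj hc] at h4
  have k1 := Submodule.finrank_sup_add_finrank_inf_eq (ρ a).fix (ρ b).fix
  have k2 := Submodule.finrank_sup_add_finrank_inf_eq ((ρ a).fix ⊓ (ρ b).fix) (ρ c).fix
  have k3 := Submodule.finrank_le ((ρ a).fix ⊔ (ρ b).fix)
  have k4 := Submodule.finrank_le ((ρ a).fix ⊓ (ρ b).fix ⊔ (ρ c).fix)
  rw [h.dim] at k3 k4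
  rw [show (ρ a).fix ⊓ (ρ b).fix ⊓ (ρ c).fix = ⊥ from eq_bot_iff.2 fun v hv => h.no_fix e (by
    rintro _ (rfl | rfl | rfl)
    exacts [O.mem_fix.1 hv.1.1, O.mem_fix.1 hv.1.2, O.mem_fix.1 hv.2]), finrank_bot] at k2
  omega

theorem sq_map {z : Γ} (e : z * z = 1) : ρ z * ρ z = 1 := by rw [← map_mul, e, map_one]

theorem w24' {z : Γ} (h1 : z ≠ 1) (e : z * z = 1) :
    finrank K (Ei (ρ z) true) = 2 ∨ finrank K (Ei (ρ z) true) = 4 := by
  rw [← mov_eq h.two (sq_map h e)]; exact h.w24 z h1 e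

theorem fr (z : Γ) (e : Fr z) : (ρ z).rk = 4 := by
  obtain ⟨h1, hs, e⟩ := e
  refine (h.w24 z h1 hs).resolve_left fun r => ?_
  rcases e with ⟨i, j, e, rfl⟩ | ⟨g, e⟩ | e
  · have e' := Q8.map e h.inj
    rw [map_mul, O.rk, mov_eq h.two e'.sq_sq] at r
    obtain ⟨u, a1, a2⟩ := ex_ns h.two h.nd e'.sq_sq e'.ne
    have := q8_dim h.two e' a1 a2 a1 (fun x => comm_mem ((Commute.refl _).mul_right (.refl _))) fun x =>
      comm_mem (e'.sq ▸ (Commute.refl _).mul_right (.refl _))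
    omega
  · have := rk_e7 h (E7.map e h.inj)
    omega
  · have := g3 h z e
    omega

theorem not_q2 : ¬ Q2 Γ := by
  rintro ⟨i, j, c, e, c1, c2, c3, ci, cj⟩
  have e' := Q8.map e h.inj
  have ii : Commute (ρ i) (ρ i * ρ i) := (Commute.refl _).mul_right (.refl _)
  have jj : Commute (ρ j) (ρ i * ρ i) := e'.sq ▸ (Commute.refl _).mul_right (.refl _)
  have cz : Commute (ρ c) (ρ i * ρ i) := (ci.map ρ).mul_right (ci.map ρ)
  obtain ⟨u, a1, a2⟩ := ex_ns h.two h.nd e'.sq_sq e'.ne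
  obtain ⟨b, hb⟩ := refine_ns h.two (ρ c) a2
  have k1 := q8_dim h.two e' (U := Ei (ρ i * ρ i) true ⊓ Ei (ρ c) b) (proj_keep cz a1 b) hb
    ⟨proj_keep cz a1 b, proj_mem (sq_map h c2) u b⟩
    (fun x hx => ⟨comm_mem ii hx.1, comm_mem (ci.map ρ).symm hx.2⟩)
    fun x hx => ⟨comm_mem jj hx.1, comm_mem (cj.map ρ).symm hx.2⟩
  have r1 := w24' h e.ne e.sq_sq
  have r2 := w24' h c1 c2
  have cz' : Commute c (i * i) := ci.mul_right ci
  have r3 := w24' h (z := i * i * c) (fun r => c3 ((eq_inv_of_mul_eq_one_right r).trans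
    (inv_eq_of_mul_eq_one_right e.sq_sq))) (by
      rw [cz'.mul_mul_mul_comm, c2, mul_one, e.sq_sq])
  rw [map_mul] at r3
  rw [map_mul] at r1 r3
  rw [split h.two (sq_map h c2) fun x => comm_mem cz] at r1
  rw [split h.two e'.sq_sq fun x => comm_mem cz.symm, inf_comm _ (Ei _ true)] at r2
  rw [split h.two e'.sq_sq fun x => comm_mem ((Commute.refl _).mul_right cz.symm),
    show Ei (ρ i * ρ i * ρ c) true ⊓ Ei (ρ i * ρ i) false = Ei (ρ c) true ⊓ Ei (ρ i * ρ i) false from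
      Submodule.ext fun x => and_congr_left fun r => ei_mul (b' := true) cz.symm r,
    show Ei (ρ i * ρ i * ρ c) true ⊓ Ei (ρ i * ρ i) true = Ei (ρ i * ρ i) true ⊓ Ei (ρ c) false from
      (Submodule.ext fun x => and_congr_left fun r => ei_mul (b := true) (b' := false) cz.symm r).trans (inf_comm _ _)] at r3
  have k2 := h.rk_add (i * i)
  have k3 := Submodule.finrank_mono (show Ei (ρ c) true ⊓ Ei (ρ i * ρ i) false ≤ (ρ (i * i)).fix from
    fun x hx => O.mem_fix.2 (by simpa [sg] using mem_Ei.1 hx.2))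
  rw [fr h _ e.fr] at k2
  cases b <;> omega

theorem not_ca : ¬ CA Γ := by
  rintro ⟨z, z', a, b, c, d, z1, z2, zz, e1, e2, hc, e⟩
  have sq : ∀ {x}, IsConj z x → x ≠ 1 ∧ x * x = 1 := fun r => by
    obtain ⟨g, rfl⟩ := isConj_iff.1 r
    exact ⟨fun r => z1 (by simpa using r), by rw [conj_mul, z2]; simp⟩
  have cz := zz.map ρ
  have s1 := sq_map h z2
  have s2 := sq_map h (sq e1).2
  have r1 := w24' h z1 z2
  have r2 := Rp.rk_conj (ρ := ρ) e1
  have r3 := Rp.rk_conj (ρ := ρ) e2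
  rw [O.rk, O.rk, mov_eq h.two s1, mov_eq h.two (sq_map h (sq ‹_›).2)] at r2 r3
  rw [map_mul] at r3
  rw [split h.two s1 (U := Ei (ρ z') true) fun x => comm_mem cz, inf_comm _ (Ei _ true)] at r2
  rw [split h.two s1 (U := Ei (ρ z * ρ z') true) fun x => comm_mem ((Commute.refl _).mul_right cz),
    show Ei (ρ z * ρ z') true ⊓ Ei (ρ z) false = Ei (ρ z') true ⊓ Ei (ρ z) false from
      Submodule.ext fun x => and_congr_left fun r => ei_mul (b' := true) cz r,
    show Ei (ρ z * ρ z') true ⊓ Ei (ρ z) true = Ei (ρ z) true ⊓ Ei (ρ z') false from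
      (Submodule.ext fun x => and_congr_left fun r => ei_mul (b := true) (b' := false) cz r).trans (inf_comm _ _)] at r3
  rw [split h.two s2 fun x => comm_mem cz.symm] at r1 r2 r3
  obtain ⟨u, a1, a2⟩ := ex_ns h.two h.nd s1 (mt h.eq_one.1 z1)
  obtain ⟨β, hb⟩ := refine_ns h.two (ρ z') a2
  have m : ∀ x ∈ [a, b, c, d], ρ x ∈ centralizer {ρ z} ⊓ centralizer {ρ z'} := fun x hx =>
    ⟨mem_centralizer_singleton_iff.2 ((hc x hx).1.map ρ), mem_centralizer_singleton_iff.2 ((hc x hx).2.map ρ)⟩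
  have mu : u + sg K β • ρ z' u ∈ Ei (ρ z) true ⊓ Ei (ρ z') β := ⟨proj_keep cz.symm a1 β, proj_mem s2 u β⟩
  generalize u + sg K β • ρ z' u = v at hb mu
  have inv : ∀ g ∈ centralizer {ρ z} ⊓ centralizer {ρ z'}, ∀ x ∈ Ei (ρ z) true ⊓ Ei (ρ z') β,
      g x ∈ Ei (ρ z) true ⊓ Ei (ρ z') β := fun g hg x hx =>
    ⟨comm_mem (mem_centralizer_singleton_iff.1 hg.1) hx.1, comm_mem (mem_centralizer_singleton_iff.1 hg.2) hx.2⟩
  have m1 := commutator_mem_commutator (m a (by simp)) (m b (by simp))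
  have m2 := commutator_mem_commutator (m c (by simp)) (m d (by simp))
  have k := plane h.two _ inv (by cases β <;> omega) mu hb (fun w hw w0 => by
    obtain ⟨y, hy⟩ := exists_polar_ne_zero h.nd w0
    refine ⟨_, ⟨proj_keep cz.symm (proj_mem s1 y true) β, proj_mem s2 _ β⟩, ?_⟩
    rw [polar_proj s2 hw.2, polar_proj s1 hw.1]
    exact mul_ne_zero h.two (mul_ne_zero h.two hy)) m1 m2
  rw [← map_commutatorElement, ← map_commutatorElement] at k
  have cc : ∀ {x y}, x ∈ [a, b, c, d] → y ∈ [a, b, c, d] → Commute (ρ ⁅x, y⁆) (ρ z) := fun hx hy =>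
    Commute.map (((((hc _ hx).1.mul_left (hc _ hy).1).mul_left (hc _ hx).1.inv_left).mul_left
      (hc _ hy).1.inv_left)) ρ
  have k1 := mem_true.1 (comm_mem (cc (x := c) (y := d) (by simp) (by simp))
    (comm_mem (cc (x := a) (y := b) (by simp) (by simp)) mu.1))
  rw [← e, ← O.mul_apply, ← O.mul_apply, ← map_mul, ← map_mul,
    show ⁅⁅a, b⁆, ⁅c, d⁆⁆ * ⁅c, d⁆ * ⁅a, b⁆ = ⁅a, b⁆ * ⁅c, d⁆ by rw [commutatorElement_def ⁅a, b⁆]; group,
    map_mul, O.mul_apply, k, eq_neg_iff_add_eq_zero, ← two_smul K, smul_eq_zero] at k1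
  exact hb (by rw [← (ρ ⁅a, b⁆).map_Q, ← (ρ ⁅c, d⁆).map_Q, k1.resolve_left h.two, map_zero])

theorem not_x8 : ¬ X8 Γ := by
  rintro ⟨a, g, c, e, c0, c1, c2, cc⟩
  obtain ⟨v, t, a1, -, -, a4, a5, -⟩ := e7_vec h (E7.map e h.inj)
  have k : ∀ m, Commute c (cp g m a) := fun m => by
    induction m using Nat.strong_induction_on with
    | _ m ih =>
      by_cases r : m < 3
      · interval_cases m
        exacts [by rwa [cp_zero], c1, c2]
      obtain ⟨m, rfl⟩ : ∃ l, m = l + 3 := ⟨m - 3, by omega⟩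
      rw [← cp_cp, e.rel, cp_mul, cp_cp]
      exact (ih m (by omega)).mul_right (ih (m + 1) (by omega))
  obtain ⟨f, q, o, o'⟩ : ∃ f : Fin 7 → V, (∀ l, Q (f l) ≠ 0) ∧ (∀ k l, k ≠ l → polar Q (f k) (f l) = 0) ∧
      ∀ k l, k ≠ l → polar Q (ρ c (f k)) (f l) = 0 := ⟨fun l => (ρ g ^ l.val) v, fun l => by simpa using a1,
    sep h.two (c := 1) a4 a5 fun _ => Commute.one_left _,
    sep h.two (c := ρ c) a4 a5 fun m => map_cp ρ g a m ▸ (k m).map ρ⟩
  have sp := eq_zero7 h q o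
  refine cc (h.eq_one.1 (O.ext fun x => ?_))
  refine LinearMap.congr_fun (LinearMap.ext_on_range (f := (ρ (c * c)).lin) (g := LinearMap.id) sp fun l => ?_) x
  obtain ⟨μ, hμ⟩ : ∃ μ : K, ρ c (f l) = μ • f l := ⟨polar Q (ρ c (f l)) (f l) / (2 * Q (f l)),
    sub_eq_zero.1 (eq_zero_of_polar h.nd fun y => LinearMap.congr_fun (LinearMap.ext_on_range
      (f := Q.polarBilin _) (g := 0) sp fun m => by
        rw [polarBilin_apply_apply, polar_sub_left, polar_smul_left, LinearMap.zero_apply]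
        by_cases r : l = m
        · rw [← r, polar_self', smul_eq_mul, div_mul_cancel₀ _ (mul_ne_zero h.two (q l)), sub_self]
        · rw [o l m r, o' l m r, smul_zero, sub_zero]) y)⟩
  have := (ρ c).map_Q (f l)
  rw [hμ, Q_smul, mul_eq_right₀ (q l)] at this
  rw [O.lin_apply, map_mul, O.mul_apply, hμ, map_smul, hμ, smul_smul, this, one_smul, LinearMap.id_apply]

theorem not_e15 : ¬ E15 Γ := by
  rintro ⟨a, g, a1, a2, c1, c2, c3, e⟩
  obtain ⟨v, t, b1, b2, b3, b4⟩ := ex_eig h.two h.nd (a := ρ a) (g := ρ g) (n := 3) (mt h.eq_one.1 a1)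
    (sq_map h a2) (fun k hk => by
      rw [← map_cp]
      interval_cases k
      exacts [by rw [cp_zero], c1.map ρ, c2.map ρ, c3.map ρ]) (by rw [← map_cp, ← map_cp, e, map_mul])
    (by omega)
  have k : ∀ m, (f4^[m] (true, t 1, t 2, t 3)).1 = t m := fun m => by rw [← b2, seq4 b3]
  have b5 := d4 (t 1) (t 2) (t 3)
  simp only [k] at b5
  have := card_le h.two (U := ⊤) (e := fun d : Fin 8 => (ρ g ^ d.val) v) (fun _ => trivial)
    (fun d => by simpa using b1) (sep h.two (c := 1) b4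
      (fun d d0 d8 => let ⟨m, _, r⟩ := b5 d d8 d0; ⟨m, r⟩) fun _ => Commute.one_left _)
  rw [finrank_top, h.dim] at this
  simp at this

omit h in
theorem jobW4 : JobW4.{u} := fun _ _ _ _ _ _ _ _ _ _ _ _ h =>
  ⟨g3 h, fr h, not_q2 h, not_ca h, not_x8 h, not_e15 h⟩

end H72.W4
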