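/- Tower E8F: a twisted torus of `E₈(3)` has at least 121 points. -/
import Cfsg.Agent.H40.E8FSpec

set_option autoImplicit false
set_option linter.unusedSectionVars false

namespace H72.E8F

open Cfsg.Lie H63 H64 H65 H46 H14.E8 Matrix Module

variable {D : ChevalleyDatum} [RS D]

theorem form_even (z : Fin D.rank → ℤ) : 2 ∣ form z z := by
  have h : ((form z z : ℤ) : ZMod 2) = 0 := by
    rw [form, ← Finset.sum_product', Int.cast_sum]
    refine Finset.sum_ninvolution Prod.swap (fun a => ?_) (fun a ha e => ha ?_) (fun a => by simp)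
      Prod.swap_swap
    · rw [Prod.fst_swap, Prod.snd_swap, gram_symm a.2 a.1, mul_comm (z a.2)]
      exact CharTwo.add_self_eq_zero _
    · have e1 : a.2 = a.1 := congrArg Prod.fst e
      rw [e1, H63.gram, cartan_simple_self]
      push_cast
      rw [show (2 : ZMod 2) = 0 from rfl, mul_zero, mul_zero]
  exact_mod_cast (ZMod.intCast_zmod_eq_zero_iff_dvd _ 2).1 h

theorem two_le_form {z : Fin D.rank → ℤ} (hz : z ≠ 0) : 2 ≤ form z z := by
  have h1 := form_pos hz
  have h2 := form_even z
  omega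

theorem exists_om (hl : ∀ r : Rt D, len r = 1) {A : Type*} [CommGroup A] (L : List ℕ) :
    ∃ om : (Fin D.rank → ℤ) →ₗ[ℤ] (Fin D.rank → ℤ), (∀ y z, form (om y) (om z) = form y z) ∧
      ∀ (ζ : A) (y : Fin D.rank → ℤ), wT D L (fun i => ζ ^ y i) = fun i => ζ ^ om y i := by
  induction L with
  | nil => exact ⟨LinearMap.id, fun _ _ => rfl, fun _ _ => rfl⟩
  | cons i L ih =>
    obtain ⟨om, h1, h2⟩ := ih
    by_cases h : i < D.rank
    · obtain ⟨i, rfl⟩ : ∃ j : Fin D.rank, (j : ℕ) = i := ⟨⟨i, h⟩, rfl⟩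
      let s : (Fin D.rank → ℤ) →ₗ[ℤ] (Fin D.rank → ℤ) :=
        ⟨⟨lref (simpleR i), lref_add _⟩, lref_smul _⟩
      refine ⟨s.comp om, fun y z => (form_lref _ _ _).trans (h1 y z), fun ζ y => ?_⟩
      rw [wT_cons, h2, sT_apply, chi_eq, zpow_fun_ev]
      have e : ∑ j, om y j * wt D (D.simple i) j = cop (simpleR i) (om y) := by
        rw [cop_simpleR]
        refine Finset.sum_congr rfl fun j _ => ?_
        have := gram_symm (D := D) i j
        rw [H63.gram, H63.gram, hl, hl, one_mul, one_mul] at this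
        rw [this]; rfl
      rw [e]
      funext j
      change _ = ζ ^ (lref (simpleR i) (om y) j)
      rw [lref, rt_simpleR, Pi.mul_apply, Pi.sub_apply, Pi.smul_apply, _root_.zpow_sub]
      by_cases c : j = i
      · subst c; simp
      · simp [c]
    · refine ⟨om, h1, fun ζ y => ?_⟩
      rw [wT_cons, h2, sT, dif_neg h]; rfl

theorem exists_pts [Tab D] [Comm D] (hl : ∀ r : Rt D, len r = 1) {ι : Type} (S : ι → Fin D.rank → ℤ)
    (hS : Function.Injective S) (h8 : ∀ i j, form (S i - S j) (S i - S j) < 8) (L : List ℕ) :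
    ∃ f : ι → Fin D.rank → K3ˣ, Function.Injective f ∧ ∀ i, f i ∈ Tw D L (frobenius K3 3) := by
  obtain ⟨om, h1, h2⟩ := exists_om hl (A := K3ˣ) L
  obtain ⟨M, hM⟩ : ∃ M : Matrix (Fin D.rank) (Fin D.rank) ℤ, M = (3 : ℤ) • LinearMap.toMatrix' om - 1 :=
    ⟨_, rfl⟩
  have hv : ∀ z, M *ᵥ z = (3 : ℤ) • om z - z := fun z => by
    rw [hM, sub_mulVec, smul_mulVec, LinearMap.toMatrix'_mulVec, one_mulVec]
  have hd : ¬ (3 : ℤ) ∣ M.det := fun h => by
    have e : (Int.castRingHom (ZMod 3)).mapMatrix M = -1 := by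
      rw [hM, map_sub, map_one, map_zsmul]
      rw [show (3 : ℤ) • (Int.castRingHom (ZMod 3)).mapMatrix (LinearMap.toMatrix' om) = 0 from ?_, zero_sub]
      ext a b
      rw [Matrix.smul_apply, zsmul_eq_mul, show ((3 : ℤ) : ZMod 3) = 0 from rfl, zero_mul]
      rfl
    have h3 := (ZMod.intCast_zmod_eq_zero_iff_dvd M.det 3).2 (by exact_mod_cast h)
    rw [← eq_intCast (Int.castRingHom (ZMod 3)), RingHom.map_det, e, det_neg, det_one, mul_one] at h3
    exact absurd (pow_eq_zero_iff'.1 h3).1 (by decide)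
  have hd0 : M.det ≠ 0 := fun h => hd (by rw [h]; exact dvd_zero _)
  obtain ⟨ζ, hζ⟩ := exists_zeta (n := M.det.natAbs) fun h => hd (Int.natCast_dvd.2 h)
  have key : ∀ a b : ℤ, ζ ^ a = ζ ^ b ↔ M.det ∣ b - a := fun a b => by
    rw [zpow_eq_zpow_iff_modEq, hζ, Int.modEq_iff_dvd, Int.natAbs_dvd]
  refine ⟨fun i j => ζ ^ (M.adjugate *ᵥ S i) j, fun a b e => ?_, fun a => ?_⟩
  · choose z hz using fun j => (key _ _).1 (congrFun e j)
    have e1 : M.adjugate *ᵥ (S b - S a) = M.det • z := by
      rw [mulVec_sub]; exact funext hz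
    have e2 : S b - S a = M *ᵥ z := by
      have := congrArg (M *ᵥ ·) e1
      simp only [mulVec_mulVec, mul_adjugate, smul_mulVec, one_mulVec, mulVec_smul] at this
      exact smul_right_injective _ hd0 this
    by_cases c : z = 0
    · rw [c, mulVec_zero, sub_eq_zero] at e2
      exact (hS e2).symm
    · exfalso
      have a1 := two_le_form c
      have a2 := form_nonneg (om z - z)
      have a3 := h8 b a
      rw [e2, hv] at a3
      simp only [form_sub_left, form_sub_right, form_smul_left, form_smul_right, h1] at a2 a3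
      rw [form_symm z (om z)] at a2 a3
      omega
  · rw [mem_Tw, frT_eq_pow (q := 3) (fun t => frobenius_def 3 t)]
    have e : ((fun j => ζ ^ (M.adjugate *ᵥ S a) j) ^ 3 : Fin D.rank → K3ˣ) =
        fun j => ζ ^ ((3 : ℤ) • (M.adjugate *ᵥ S a)) j := by
      funext j
      rw [Pi.pow_apply, Pi.smul_apply, smul_eq_mul, mul_comm, _root_.zpow_mul]
      rfl
    rw [e, h2]
    funext j
    rw [eq_comm, key, map_smul, ← Pi.sub_apply, ← hv, mulVec_mulVec, mul_adjugate, smul_mulVec, one_mulVec]
    exact ⟨_, rfl⟩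

theorem len1 : ∀ r : Rt chevE8, certE8.lenc r = 1 := by decide +kernel
theorem neg_lt : ∀ r : Rt chevE8, 120 ≤ (r : ℕ) → chevE8.neg r < 120 := by decide +kernel

theorem jobTw : H40.E8F.JobTw := by
  intro L
  haveI := H65.tabE8
  haveI := H65.commE8
  have hl : ∀ r : Rt chevE8, len r = 1 := len1
  have hn : chevE8.nroots = 240 := rfl
  let R : Fin 121 → Rt chevE8 := fun i => ⟨i + 119, by have := i.2; omega⟩
  refine exists_pts hl (fun i : Fin 121 => if (i : ℕ) = 0 then 0 else rt (R i)) (fun a b e => ?_)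
    (fun a b => ?_) L
  · dsimp only at e
    split_ifs at e with h1 h2 h2
    · exact Fin.ext (h1.trans h2.symm)
    · exact absurd e.symm (rt_ne_zero _)
    · exact absurd e (rt_ne_zero _)
    · have : (a : ℕ) + 119 = b + 119 := congrArg Fin.val (rt_inj e)
      exact Fin.ext (by omega)
  · split_ifs with h1 h2 h2
    · simp
    · rw [zero_sub, form_neg_left, form_neg_right, neg_neg, form_rt_self, hl]; norm_num
    · rw [sub_zero, form_rt_self, hl]; norm_num
    · have h3 : rt (R a) + rt (R b) ≠ 0 := fun e => by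
        have e1 : R b = negR (R a) := rt_inj (by rw [rt_negR]; exact eq_neg_of_add_eq_zero_right e)
        have e2 : ((R b : Rt chevE8) : ℕ) = chevE8.neg (R a) := by rw [e1, negR_val]
        have e4 : ((R b : Rt chevE8) : ℕ) = b + 119 := rfl
        have e3 := neg_lt (R a) (by change 120 ≤ (a : ℕ) + 119; omega)
        omega
      have h4 := two_le_form h3
      simp only [form_add_left, form_add_right, form_sub_left, form_sub_right, form_rt_self, hl] at h4 ⊢
      omega

end H72.E8F
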