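import Cfsg.Agent.H67.SPSpec
import Cfsg.Agent.H98.Coprime

/-! STD-SP (row S3129), slot `FR`: the parabolic `Stab v`, its radical, the `2`-central classes. -/

set_option autoImplicit false
set_option linter.unusedSectionVars false

namespace H72.SPF

open H64.SG (O2 Syl Cz Cs Ns Is2 Inv2 IsO2 mem_Cz mem_Cs)
open Matrix H57 Subgroup H67.UA H67.SP
open H67.SA (la St cm mem_St_of_finite conj_mem_St)
open scoped commutatorElement

variable {n : ℕ} {F : Type} [Field F] [StarRing F] [TrivialStar F] [CharP F 2] [Finite F]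

theorem hs (x y : Vn n F) : hf x y = hf y x := by rw [← star_hf, star_trivial]
theorem hr (a : F) (x y : Vn n F) : hf x (a • y) = a * hf x y := by rw [hf_smul_right, star_trivial]
theorem cc (a : F) : a + a = 0 := CharTwo.add_self_eq_zero a
theorem sh (a : F) (u x : Vn n F) (c : F) : EE u (x + a • u) c = EE u x c := by
  rw [EE_shift, tr, star_trivial, cc, add_zero]
theorem sh0 (a : F) (u : Vn n F) (c : F) : EE u (a • u) c = Tc c u := by
  simpa using sh a u 0 c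
theorem mv {x y z : Vn n F} (h : x + y = z) : x = y + z := by
  rw [← h, add_comm x, ← add_assoc, v_add_self, zero_add]
theorem ex1 {u : Vn n F} (hu : u ≠ 0) : ∃ z, hf z u = 1 := by
  obtain ⟨i, hi⟩ := Function.ne_iff.1 hu
  exact ⟨(star (u i))⁻¹ • ev i.rev, by
    rw [hf_smul_left, hf_ev_left, Fin.rev_rev, inv_mul_cancel₀ (by simpa using hi)]⟩
theorem nli {u v : Vn n F} (hu : u ≠ 0) (h : ¬ Li u v) : ∃ c : F, v = c • u := by
  simp only [Li, not_forall] at h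
  obtain ⟨a, b, h1, h2⟩ := h
  have hb : b ≠ 0 := by
    rintro rfl
    exact h2 ⟨(smul_eq_zero.1 (by simpa using h1)).resolve_right hu, rfl⟩
  refine ⟨b⁻¹ * a, ?_⟩
  rw [mul_smul, eq_neg_of_add_eq_zero_left h1, neg_eq_iff_add_eq_zero.2 (v_add_self _), smul_smul,
    inv_mul_cancel₀ hb, one_smul]
theorem li_of {v x w : Vn n F} (hv : v ≠ 0) (h1 : hf v w = 0) (h2 : hf x w ≠ 0) : Li v x := by
  by_contra h
  obtain ⟨c, rfl⟩ := nli hv h
  exact h2 (by rw [hf_smul_left, h1, mul_zero])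
theorem ac_ne (g : XU n F) {v : Vn n F} (h : v ≠ 0) : ac g v ≠ 0 := fun e =>
  h (ac_inj g (by rw [e, ac_zero]))
theorem li_ac (g : XU n F) {u v : Vn n F} (h : Li u v) : Li (ac g u) (ac g v) := fun a b e =>
  h a b (ac_inj g (by rw [ac_add, ac_smul, ac_smul, e, ac_zero]))
theorem hfe (i j : Fin (n + 1)) : hf (ev i : Vn n F) (ev j) = if i.val + j.val = n then 1 else 0 := by
  rw [hf_ev]
  exact if_congr ⟨fun h => by rw [h, Fin.val_rev]; omega, fun h => Fin.ext (by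
    rw [Fin.val_rev]; omega)⟩ rfl rfl
theorem wadd {k : ℕ} {u v : Vn n F} (h : Wk k u) (h' : Wk k v) : Wk k (u + v) := fun i hi => by
  rw [Pi.add_apply, h i hi, h' i hi, add_zero]
theorem wsm {k : ℕ} {u : Vn n F} (h : Wk k u) (a : F) : Wk k (a • u) := fun i hi => by
  rw [Pi.smul_apply, h i hi, smul_zero]
theorem wev {k : ℕ} {i : Fin (n + 1)} (h : i.val < k) : Wk k (ev i : Vn n F) := fun j hj => by
  rw [ev_apply, if_neg (by rintro rfl; omega)]
theorem wperp {k l : ℕ} {u v : Vn n F} (h : Wk k u) (h' : Wk l v) (hk : k + l ≤ n + 1) :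
    hf u v = 0 := Finset.sum_eq_zero fun i _ => by
  by_cases hi : k ≤ i.val
  · rw [h i hi, zero_mul]
  · rw [h' i.rev (by rw [Fin.val_rev]; omega), star_zero, mul_zero]
theorem nrm {G : Type*} [Group G] {P A B : Subgroup G} (hA : P ≤ Ns A) (hB : P ≤ Ns B) :
    ∀ g ∈ P, ∀ a ∈ ⁅A, B⁆, g * a * g⁻¹ ∈ ⁅A, B⁆ := fun g hg a ha => by
  have : (⁅A, B⁆ : Subgroup G).map (MulAut.conj g).toMonoidHom ≤ ⁅A, B⁆ := by
    rw [map_commutator]
    exact commutator_mono (by rintro _ ⟨x, hx, rfl⟩; exact (hA hg x).1 hx)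
      (by rintro _ ⟨x, hx, rfl⟩; exact (hB hg x).1 hx)
  exact this ⟨a, ha, rfl⟩

variable [FV n F]

theorem hx (x : Vn n F) : hf x x = 0 := FV.iso x
theorem aE {u x : Vn n F} (h : hf x u = 0) (c : F) (y : Vn n F) :
    ac (EE u x c) y = y + hf y x • u + hf y u • x + (c * hf y u) • u := ac_EE (FV.ok u x c h) y
theorem aT (c : F) (u y : Vn n F) : ac (Tc c u) y = y + (c * hf y u) • u :=
  ac_Tc (hx u) (star_trivial c) y
theorem mE' {u x y : Vn n F} (h : hf x u = 0) (h' : hf y u = 0) (c d : F) :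
    EE u x c * EE u y d = EE u (x + y) (c + d + hf y x) := EE_mul (FV.ok u x c h) (FV.ok u y d h')
theorem jE {u x : Vn n F} (h : hf x u = 0) (c : F) (g : XU n F) :
    g * EE u x c * g⁻¹ = EE (ac g u) (ac g x) c := EE_conj (FV.ok u x c h) g
theorem jT (c : F) (u : Vn n F) (g : XU n F) : g * Tc c u * g⁻¹ = Tc c (ac g u) :=
  Tc_conj (hx u) (star_trivial c) g
theorem sqE {u x : Vn n F} (h : hf x u = 0) (c : F) : EE u x c * EE u x c = 1 := by
  rw [mE' h h, v_add_self, cc, hx, add_zero, EE_zero]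
theorem inE {u x : Vn n F} (h : hf x u = 0) (c : F) : (EE u x c)⁻¹ = EE u x c :=
  inv_eq_of_mul_eq_one_right (sqE h c)
theorem iE {u x y : Vn n F} {c d : F} (hu : u ≠ 0) (h : hf x u = 0) (h' : hf y u = 0)
    (e : EE u x c = EE u y d) : ∃ a : F, x + y = a • u := by
  obtain ⟨a, h1, -⟩ := EE_inj hu (FV.ok u x c h) (FV.ok u y d h') e
  exact ⟨a, by rw [h1, ← add_assoc, v_add_self, zero_add]⟩
theorem memE {u x : Vn n F} (h : hf x u = 0) (c : F) : EE u x c ∈ Qv u :=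
  (FV.mem_Qv u _).2 ⟨x, c, h, rfl⟩
theorem memT {u y : Vn n F} (h : hf u y = 0) (c : F) : Tc c y ∈ Stab u := by
  rw [mem_Stab, aT, h, mul_zero, zero_smul, add_zero]
theorem pS {g : XU n F} {v y : Vn n F} (hg : g ∈ Stab v) (h : hf y v = 0) : hf (ac g y) v = 0 := by
  rw [← mem_Stab.1 hg, hf_ac, h]
theorem cmE {g : XU n F} {v y : Vn n F} (hg : g ∈ Stab v) (h : hf y v = 0) (c : F) :
    ⁅g, EE v y c⁆ = EE v (ac g y + y) (hf y (ac g y)) := by
  rw [commutatorElement_def, jE h, inE h, mem_Stab.1 hg, mE' (pS hg h) h, cc, zero_add]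

theorem Tc_inj {u v : Vn n F} {c : F} (hu : u ≠ 0) (hc : c ≠ 0) (h : Tc c u = Tc c v) : v = u := by
  obtain ⟨z, hz⟩ := ex1 hu
  have h1 := aT c u z
  rw [h, aT, hz, add_right_inj, mul_one, mul_smul, smul_right_inj hc] at h1
  rw [← h1, hr] at hz
  rw [← h1, sq_inj (a := hf z v) (b := 1) (by rw [sq, hz, one_pow]), one_smul]

theorem cz (v : Vn n F) (c : F) (hv : v ≠ 0) (hc : c ≠ 0) : Cz (Tc c v) = Stab v := by
  ext g
  rw [mem_Cz, eq_comm, ← mul_inv_eq_iff_eq_mul, jT, mem_Stab]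
  exact ⟨fun h => Tc_inj hv hc h.symm, fun h => by rw [h]⟩

theorem memQ {g : XU n F} {v : Vn n F} (hv : v ≠ 0) (hg : g ∈ Stab v)
    (h : ∀ y, hf y v = 0 → ∃ a : F, ac g y + y = a • v) : g ∈ Qv v := by
  obtain ⟨z, hz⟩ := ex1 hv
  obtain ⟨x, hx'⟩ : ∃ x, ac g z = z + x := ⟨z + ac g z, by rw [← add_assoc, v_add_self, zero_add]⟩
  have h1 : hf x v = 0 := by
    have := hf_ac g z v
    rwa [mem_Stab.1 hg, hx', hf_add_left, add_eq_left] at this
  have h2 : ∀ y, hf y v = 0 → ac g y = ac (EE v x (hf z x)) y := fun y hy => by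
    obtain ⟨a, ha⟩ := h y hy
    have := hf_ac g y z
    rw [mv ha, hx', hf_add_left, hf_add_right, hf_smul_left, hf_add_right, hs v, hs v, hz, h1] at this
    rw [aE h1, hy, mv ha, show a = hf y x by linear_combination this - hf y x * two0 F]
    simp
  have h3 : ac g z = ac (EE v x (hf z x)) z := by
    rw [aE h1, hz, hx', one_smul, mul_one, add_right_comm z, add_assoc, v_add_self, add_zero]
  refine (FV.mem_Qv v g).2 ⟨x, hf z x, h1, ac_ext fun y => ?_⟩
  have h4 : y = (y + hf y v • z) + hf y v • z := by rw [add_assoc, v_add_self, add_zero]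
  rw [h4, ac_add, ac_add (EE _ _ _), ac_smul, ac_smul, h3, h2 _ (by
    rw [hf_add_left, hf_smul_left, hz, mul_one, cc])]

theorem cE' {g : XU n F} {v : Vn n F} (hv : v ≠ 0) (hg : g ∈ Stab v)
    (h : ∀ y, hf y v = 0 → ∃ c, ⁅g, EE v y 0⁆ = Tc c v) : g ∈ Qv v := memQ hv hg fun y hy => by
  obtain ⟨c, hc⟩ := h y hy
  rw [cmE hg hy] at hc
  simpa using iE hv (by rw [hf_add_left, pS hg hy, hy, add_zero]) (by simp) hc

theorem cq (v : Vn n F) (hv : v ≠ 0) : Cs (Qv v) = Qv v := by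
  refine le_antisymm (fun g hg => cE' hv ?_ fun y hy => ⟨0, ?_⟩) fun g hg a ha => ?_
  · rw [← cz v 1 hv one_ne_zero]
    exact mem_Cz.2 (hg _ (memE (by simp) 1))
  · rw [commutatorElement_eq_one_iff_mul_comm.2 (hg _ (memE hy 0)).symm, Tc, EE_zero]
  · obtain ⟨x, c, h, rfl⟩ := (FV.mem_Qv v g).1 hg
    obtain ⟨y, d, h', rfl⟩ := (FV.mem_Qv v a).1 ha
    rw [mE' h h', mE' h' h, add_comm x, add_comm c, hs]

theorem Q_le (v : Vn n F) : Qv v ≤ Stab v := fun g hg => by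
  obtain ⟨x, c, h, rfl⟩ := (FV.mem_Qv v g).1 hg
  exact ac_EE_self (FV.ok v x c h)

theorem Q_ns (v : Vn n F) : Stab v ≤ Ns (Qv v) := fun g hg =>
  conj_mem_St.1 (mem_St_of_finite fun u hu => by
    obtain ⟨x, c, h, rfl⟩ := (FV.mem_Qv v u).1 hu
    rw [MulAut.conj_apply, jE h, mem_Stab.1 hg]
    exact memE (pS hg h) c)

theorem Q_two (v : Vn n F) : IsPGroup 2 (Qv v) := fun g => ⟨1, Subtype.ext (by
  obtain ⟨x, c, h, e⟩ := (FV.mem_Qv v g.1).1 g.2
  rw [pow_one, sq, coe_mul, e, sqE h, coe_one])⟩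

variable [FW n F] [hp : H67.SP.Par n F]

theorem zP (v : Vn n F) (hv : v ≠ 0) : Cs (Stab v) = Zl v := by
  refine le_antisymm (fun g hg => ?_) fun g hg a ha => ?_
  · obtain ⟨x, c, h, rfl⟩ := (FV.mem_Qv v g).1 (cq v hv ▸ centralizer_le (Q_le v) hg)
    obtain ⟨a, rfl⟩ := FW.dual v x hv fun y hy => by
      by_cases h0 : y = 0
      · simp [h0]
      have := mem_Cz.2 (hg _ (memT (hf_symm hy) 1))
      rw [cz y 1 h0 one_ne_zero, mem_Stab, aE h, hy] at this
      simpa [hv] using this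
    exact (FV.mem_Zl v _).2 ⟨c, sh0 a v c⟩
  · obtain ⟨c, rfl⟩ := (FV.mem_Zl v g).1 hg
    rw [← mul_inv_eq_iff_eq_mul, jT, mem_Stab.1 ha]

include hp in
theorem frame {v : Vn n F} (hv : v ≠ 0) : ∃ a a' b b' : Vn n F, hf a v = 0 ∧ hf a' v = 0 ∧
    hf b v = 0 ∧ hf b' v = 0 ∧ hf a a' = 1 ∧ hf b b' = 1 ∧ hf b a = 0 ∧ hf a b' = 0 ∧
    hf a' b' = 0 := by
  have := hp.five
  obtain ⟨g, rfl⟩ := FW.w1 v hv
  refine ⟨ac g (ev ⟨1, by omega⟩), ac g (ev ⟨n - 1, by omega⟩), ac g (ev ⟨2, by omega⟩),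
    ac g (ev ⟨n - 2, by omega⟩), ?_⟩
  simp only [hf_ac, hfe, Fin.val_zero]
  refine ⟨if_neg ?_, if_neg ?_, if_neg ?_, if_neg ?_, if_pos ?_, if_pos ?_, if_neg ?_, if_neg ?_,
    if_neg ?_⟩ <;> omega

theorem tr2 {v x y : Vn n F} (h : hf x v = 0) (h' : hf y v = 0) (l : Li v x) (l' : Li v y) :
    ∃ g ∈ Stab v, ac g x = y := by
  obtain ⟨g, g1, g2⟩ := FW.w2 v x (hf_symm h) l
  obtain ⟨k, k1, k2⟩ := FW.w2 v y (hf_symm h') l'
  refine ⟨k * g⁻¹, ?_, ?_⟩
  · rw [mem_Stab, ac_mul]; nth_rewrite 1 [← g1]; rw [ac_inv_ac, k1]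
  · rw [ac_mul, ← g2, ac_inv_ac, k2]

include hp in
theorem full {N : Subgroup (XU n F)} {v x : Vn n F} {c : F} (hv : v ≠ 0)
    (hN : ∀ g ∈ Stab v, ∀ a ∈ N, g * a * g⁻¹ ∈ N) (h : hf x v = 0) (l : Li v x)
    (hm : EE v x c ∈ N) : Qv v ≤ N := by
  have k1 : ∀ y, hf y v = 0 → Li v y → EE v y c ∈ N := fun y hy ly => by
    obtain ⟨g, g1, g2⟩ := tr2 h hy l ly
    have := hN g g1 _ hm
    rwa [jE h, mem_Stab.1 g1, g2] at this
  have k2 : ∀ d, Tc d v ∈ N := fun d => by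
    obtain ⟨a, a', b, b', h1, h2, h3, h4, h5, h6, h7, h8, h9⟩ := frame hv
    have p2 : hf (b + (c + d) • a') v = 0 := by simp [hf_add_left, hf_smul_left, h2, h3]
    have p3 : hf (a + (b + (c + d) • a')) v = 0 := by rw [hf_add_left, h1, p2, add_zero]
    have := mul_mem (mul_mem (k1 a h1 (li_of hv (hf_symm h2) (by simp [h5])))
      (k1 _ p2 (li_of hv (hf_symm h4) (by simp [hf_add_left, hf_smul_left, h6, h9]))))
      (k1 _ p3 (li_of hv (hf_symm h4) (by simp [hf_add_left, hf_smul_left, h6, h8, h9])))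
    rw [mE' h1 p2, mE' p3 p3, v_add_self, hx, hf_add_left, hf_smul_left, h7, hs a', h5] at this
    convert this using 2
    linear_combination -2 * c * two0 F
  intro g hg
  obtain ⟨y, d, hy, rfl⟩ := (FV.mem_Qv v g).1 hg
  by_cases ly : Li v y
  · have := mul_mem (k1 y hy ly) (k2 (c + d))
    rwa [mE' hy (by simp), add_zero, hf_zero_left, add_zero, ← add_assoc, cc, zero_add] at this
  · obtain ⟨a, rfl⟩ := nli hv ly
    rw [sh0]; exact k2 d

include hp in
theorem o2 (v : Vn n F) (hv : v ≠ 0) : IsO2 (Qv v) (Stab v) := by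
  refine ⟨Q_le v, Q_ns v, Q_two v, fun R h1 h2 h3 r hr' => cE' hv (h1 hr') fun y hy => ?_⟩
  have h4 := H98.commutator_lt_of_isPGroup (Q_two v) h3 (h1.trans (Q_ns v)) fun h0 =>
    one_ne_zero (Tc_eq_one hv (hx v) (star_one F) (mem_bot.1 (h0 ▸ memE (by simp) 1)))
  have h5 := commutator_mem_commutator hr' (memE hy 0)
  rw [cmE (h1 hr') hy, commutator_comm] at *
  by_cases l : Li v (ac r y + y)
  · exact absurd (full hv (nrm (Q_ns v) h2) (by rw [hf_add_left, pS (h1 hr') hy, hy, add_zero]) l h5)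
      (by rw [commutator_comm]; exact h4.not_ge)
  · obtain ⟨a, ha⟩ := nli hv l
    exact ⟨_, by rw [ha, sh0]⟩

include hp in
theorem qP (v : Vn n F) (hv : v ≠ 0) : Qv v ≤ ⁅Qv v, Stab v⁆ := by
  obtain ⟨a, a', b, b', h1, h2, h3, h4, h5, -⟩ := frame hv
  have h6 := commutator_mem_commutator (memT (hf_symm h2) 1) (memE h1 0)
  rw [cmE (memT (hf_symm h2) 1) h1, aT, h5, mul_one, one_smul, add_right_comm, v_add_self, zero_add,
    commutator_comm] at h6
  exact full hv (nrm (Q_ns v) le_normalizer) h2 (li_of hv (hf_symm h1) (by rw [hs, h5]; simp)) h6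

include hp in
theorem v1 : (1 : Fin (n + 1)).val = 1 := by
  have := hp.five
  rw [Fin.val_one', Nat.mod_eq_of_lt (by omega)]

theorem hy_ev {i : Fin (n + 1)} (h0 : i.val ≠ 0) (h1 : i.val ≠ n) : Hy (ev i : Vn n F) := by
  simp only [Hy, hfe, Fin.val_zero, Fin.val_last]
  exact ⟨if_neg (by omega), if_neg (by omega)⟩
theorem hy_sm {y : Vn n F} (h : Hy y) (a : F) : Hy (a • y) := by
  simp [Hy, hf_smul_left, h.1, h.2]
theorem hy_add {x y : Vn n F} (h : Hy x) (h' : Hy y) : Hy (x + y) := by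
  simp [Hy, hf_add_left, h.1, h.2, h'.1, h'.2]
theorem memS {u x : Vn n F} (hu : Hy u) (h : Hy x) (p : hf x u = 0) (c : F) : EE u x c ∈ SS n F :=
  ⟨ac_EE_fix (FV.ok u x c p) (hf_symm hu.1) (hf_symm h.1),
    ac_EE_fix (FV.ok u x c p) (hf_symm hu.2) (hf_symm h.2)⟩

theorem h0n : hf (ev 0 : Vn n F) (ev (la n)) = 1 := by rw [hfe, if_pos (by simp)]

theorem li3 {y : Vn n F} (h : Hy y) (h0 : y ≠ 0) : LinearIndependent F ![ev 0, ev (la n), y] := by
  rw [Fintype.linearIndependent_iff]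
  intro g hg
  simp only [Fin.sum_univ_three, cons_val_zero, cons_val_one, cons_val_two, head_cons, tail_cons] at hg
  have h1 := congrArg (hf · (ev (la n))) hg
  have h2 := congrArg (hf · (ev 0)) hg
  simp only [hf_add_left, hf_smul_left, hx, h0n, hs (ev (la n)) (ev 0), h.1, h.2, mul_zero, add_zero,
    zero_add, mul_one, hf_zero_left] at h1 h2
  rw [h1, h2, zero_smul, zero_smul, add_zero, zero_add, smul_eq_zero, or_iff_left h0] at hg
  intro i; fin_cases i <;> assumption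

theorem trS {x y : Vn n F} (h : Hy x) (h' : Hy y) (h0 : x ≠ 0) (h1 : y ≠ 0) :
    ∃ g ∈ SS n F, ac g x = y := by
  obtain ⟨g, hg⟩ := FW.witt 3 _ _ (li3 h h0) (li3 h' h1) fun i j => by
    fin_cases i <;> fin_cases j <;>
      simp [hx, h.1, h.2, h'.1, h'.2, hf_symm h.1, hf_symm h.2, hf_symm h'.1, hf_symm h'.2]
  exact ⟨g, ⟨hg 0, hg 1⟩, hg 2⟩

theorem exl (h : 4 ≤ Nat.card F) : ∃ l : F, l ≠ 0 ∧ 1 + l ≠ 0 := by
  by_contra! k
  have := Nat.card_le_card_of_surjective (fun b : Bool => if b then (1 : F) else 0) fun a => by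
    by_cases e : a = 0
    · exact ⟨false, e.symm⟩
    · exact ⟨true, by have := k a e; simp only [if_true]; linear_combination this - a * two0 F⟩
  simp only [Nat.card_eq_fintype_card, Fintype.card_bool] at this
  omega

include hp in
theorem perfS : SS n F ≤ ⁅SS n F, SS n F⁆ := by
  have h5 := hp.five
  have e1 := v1 (n := n) (F := F)
  have u1 : Hy (ev 1 : Vn n F) := hy_ev (by omega) (by omega)
  have k : ∀ x y : Vn n F, Hy x → Hy y → hf x (ev 1) = 0 → hf y (ev 1) = 0 → hf x y = 1 →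
      EE (ev 1) y 1 ∈ ⁅SS n F, SS n F⁆ := fun x y h h' p p' b => by
    have := commutator_mem_commutator (memS h' (x := 0) ⟨by simp, by simp⟩ (by simp) 1) (memS u1 h p 0)
    rwa [cmE (memT (hf_symm p') 1) p, aT, b, mul_one, one_smul, add_right_comm, v_add_self, zero_add,
      hf_add_right, hx, b, zero_add] at this
  have k2 : ∀ i : Fin (n + 1), 2 ≤ i.val → i.val ≤ n - 2 →
      Hy (ev i : Vn n F) ∧ hf (ev i : Vn n F) (ev 1) = 0 := fun i h h' =>
    ⟨hy_ev (by omega) (by omega), by rw [hfe, if_neg (by omega)]⟩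
  obtain ⟨a1, a2⟩ := k2 ⟨2, by omega⟩ le_rfl (by simp only; omega)
  obtain ⟨b1, b2⟩ := k2 ⟨n - 2, by omega⟩ (by simp only; omega) le_rfl
  have ab : hf (ev ⟨n - 2, by omega⟩ : Vn n F) (ev ⟨2, by omega⟩) = 1 := by
    rw [hfe, if_pos (by simp only; omega)]
  obtain ⟨y, p, q, m1, m2⟩ : ∃ y : Vn n F, hf y (ev 1) = 0 ∧ hf y (ev ⟨2, by omega⟩) = 0 ∧
      EE (ev 1) y 1 ∈ ⁅SS n F, SS n F⁆ ∧ EE (ev 1) (ev ⟨2, by omega⟩ + y) 1 ∈ ⁅SS n F, SS n F⁆ := by
    by_cases h : n = 5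
    · obtain ⟨l, l0, l1⟩ := exl (hp.four h)
      have k3 : ∀ c : F, c ≠ 0 → EE (ev 1) (c • ev ⟨2, by omega⟩) 1 ∈ ⁅SS n F, SS n F⁆ := fun c hc =>
        k _ _ (hy_sm b1 c⁻¹) (hy_sm a1 c) (by rw [hf_smul_left, b2, mul_zero])
          (by rw [hf_smul_left, a2, mul_zero])
          (by rw [hf_smul_left, hr, ab, mul_one, inv_mul_cancel₀ hc])
      exact ⟨_, by rw [hf_smul_left, a2, mul_zero], by rw [hf_smul_left, hx, mul_zero], k3 l l0,
        by simpa only [add_smul, one_smul] using k3 _ l1⟩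
    · have : 7 ≤ n := by obtain ⟨m, hm⟩ := hp.odd; omega
      obtain ⟨c1, c2⟩ := k2 ⟨3, by omega⟩ (by simp) (by simp only; omega)
      obtain ⟨d1, d2⟩ := k2 ⟨n - 3, by omega⟩ (by simp only; omega) (by simp only; omega)
      exact ⟨_, c2, by rw [hfe, if_neg (by simp only; omega)],
        k _ _ d1 c1 d2 c2 (by rw [hfe, if_pos (by simp only; omega)]),
        k _ _ b1 (hy_add a1 c1) b2 (by rw [hf_add_left, a2, c2, add_zero])
          (by rw [hf_add_right, ab, hfe, if_neg (by simp only; omega), add_zero])⟩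
  have p3 : hf (ev ⟨2, by omega⟩ + y) (ev 1 : Vn n F) = 0 := by rw [hf_add_left, a2, p, add_zero]
  have t := mul_mem (mul_mem (k _ _ b1 a1 b2 a2 ab) m1) m2
  rw [mE' a2 p, mE' p3 p3, v_add_self, hx, q, cc, add_zero, add_zero, zero_add] at t
  refine FW.genS _ fun y hy => ?_
  by_cases h0 : y = 0
  · rw [h0, TT, Tc, EE_zero_left]; exact one_mem _
  obtain ⟨g, g1, g2⟩ := trS u1 hy (ev_ne 1) h0
  have := nrm le_normalizer le_normalizer g g1 _ t
  rwa [jT, g2] at this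

include hp in
theorem perf (v : Vn n F) (hv : v ≠ 0) : Stab v ≤ ⁅Stab v, Stab v⁆ := by
  obtain ⟨g, rfl⟩ := FW.w1 v hv
  have h : Stab (ac g (ev 0)) = (PP n F).map (MulAut.conj g).toMonoidHom := by
    ext a
    rw [mem_map_equiv, mem_Stab, mem_Stab, MulAut.conj_symm_apply, ac_mul, ac_mul]
    exact ⟨fun e => by rw [e, ac_inv_ac], fun e => ac_inj g⁻¹ (by rw [e, ac_inv_ac])⟩
  rw [h, ← map_commutator]
  refine map_mono fun p hp' => ?_
  obtain ⟨u, hu, s, hs', rfl⟩ := FW.ps p hp'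
  exact mul_mem (commutator_mono (Q_le _) le_rfl (qP _ (ev_ne 0) hu))
    (commutator_mono inf_le_left inf_le_left (perfS hs'))

theorem memU {i : Fin (n + 1)} (hi : 2 * (i.val + 1) ≤ n + 1) {y : Vn n F} (h : Wk (n - i.val) y)
    (d : F) : EE (ev i) y d ∈ UU n F := (FV.mem_U _).2 fun j v hv => by
  have w : Wk (i.val + 1) (ev i : Vn n F) := wev (by omega)
  rw [aE (wperp h w (by omega)), add_comm, ← add_assoc, ← add_assoc, ← add_assoc, v_add_self, zero_add]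
  by_cases hj : j ≤ i.val
  · rw [wperp hv h (by omega), wperp hv w (by omega)]
    intro a _; simp
  refine wadd (wadd (wsm (wev (by omega)) _) ?_) (wsm (wev (by omega)) _)
  by_cases hj' : n - i.val ≤ j
  · exact wsm (fun a ha => h a (by omega)) _
  · rw [wperp hv w (by omega)]
    intro a _; simp

include hp in
theorem p10 (b : F) : hf (b • ev 1 : Vn n F) (ev 0) = 0 := by
  have := hp.five
  rw [hf_smul_left, hfe, if_neg (by rw [v1 (F := F)]; simp; omega), mul_zero]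

include hp in
theorem li01 : Li (ev 0 : Vn n F) (ev 1) := fun a b h => by
  have e : (0 : Fin (n + 1)) ≠ 1 := fun e => by
    have := congrArg Fin.val e
    rw [v1 (F := F)] at this; simp at this
  exact ⟨by simpa [ev_apply, e] using congrFun h 0, by simpa [ev_apply, e.symm] using congrFun h 1⟩

include hp in
theorem zu_eq (a b : F) : zu (n := n) a b = EE (ev 0) (b • ev 1) a := by
  rw [zu, mE' (by simp) (p10 b)]; simp

include hp in
theorem zU : Cs (UU n F) = ZL n F ⊔ ZS n F := by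
  have h5 := hp.five
  have e1 := v1 (n := n) (F := F)
  have f0 : ∀ u ∈ UU n F, ac u (ev 0) = ev 0 := fun u hu => by
    rw [mv (show ac u (ev 0) + ev 0 = 0 from funext fun i =>
      (FV.mem_U u).1 hu 0 _ (wev (by simp)) i (Nat.zero_le _)), add_zero]
  refine le_antisymm (fun g hg => ?_) fun g hg u hu => ?_
  · have hQ : QQ n F ≤ UU n F := fun q hq => by
      obtain ⟨x, c, h, rfl⟩ := (FV.mem_Qv _ q).1 hq
      refine memU (by simp; omega) (fun i hi => ?_) c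
      rw [hf_ev_right] at h
      rw [← h]; congr 1; ext; simp at hi ⊢; omega
    obtain ⟨x, c, h, rfl⟩ := (FV.mem_Qv (ev 0) g).1 (cq (ev 0 : Vn n F) (ev_ne 0) ▸ centralizer_le hQ hg)
    have k : ∀ y d, Wk (n - 1) y → ∃ a : F,
        hf x y • ev 1 + hf x (ev 1) • y + (d * hf x (ev 1)) • ev 1 = a • (ev 0 : Vn n F) := by
      intro y d hy
      have m := memU (i := 1) (by omega) (by rwa [e1]) d
      have := mul_inv_eq_iff_eq_mul.2 (hg _ m)
      rw [jE h, f0 _ m] at this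
      have := iE (ev_ne 0) (pS (f0 _ m) h) h this
      rwa [aE (wperp hy (wev (k := 2) (by omega)) (by omega)), add_comm, ← add_assoc, ← add_assoc,
        ← add_assoc, v_add_self, zero_add] at this
    have k0 : ∀ a b : F, b • (ev 1 : Vn n F) = a • ev 0 → b = 0 := fun a b e =>
      (li01 (n := n) a b (by rw [e, v_add_self])).2
    have k1 : hf x (ev 1) = 0 := by
      obtain ⟨a, ha⟩ := k 0 1 fun _ _ => rfl
      exact k0 a _ (by simpa using ha)
    have k2 : Wk (n + 1 - (n - 1)) x := (FV.wk_perp (n - 1) (by omega) x).2 fun y hy => by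
      obtain ⟨a, ha⟩ := k y 0 hy
      exact k0 a _ (by simpa [k1] using ha)
    have k3 : x = x 1 • ev 1 + x 0 • ev 0 := funext fun i => by
      simp only [Pi.add_apply, Pi.smul_apply, ev_apply, smul_eq_mul]
      split_ifs with i1 i0 i0
      · exact absurd (congrArg Fin.val (i1.symm.trans i0)) (by rw [e1]; simp)
      · simp [i1]
      · simp [i0]
      · have j0 : i.val ≠ 0 := fun e => i0 (Fin.ext e)
        have j1 := Fin.val_ne_iff.2 i1
        rw [k2 i (by omega)]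
        simp
    exact (FV.mem_ZU _).2 ⟨c, x 1, by rw [zu_eq, ← sh (x 0) _ (x 1 • ev 1), ← k3]⟩
  · obtain ⟨a, b, rfl⟩ := (FV.mem_ZU g).1 hg
    have := (FV.mem_U u).1 hu 1 (ev 1) (wev (by omega))
    obtain ⟨c, k⟩ : ∃ c : F, ac u (ev 1) + ev 1 = c • (ev 0 : Vn n F) := by
      generalize ac u (ev 1) + ev 1 = w at this
      refine ⟨w 0, funext fun i => ?_⟩
      by_cases h : i = 0
      · simp [h, ev_apply]
      · rw [this i (Nat.pos_of_ne_zero fun e => h (Fin.ext e))]; simp [ev_apply, h]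
    rw [← mul_inv_eq_iff_eq_mul, zu_eq, jE (p10 b), f0 u hu, ac_smul, mv k, smul_add, smul_smul, sh]

theorem lr (g : XU n F) : Lr g ↔ IsConj (xb n F) g := by
  rw [isConj_iff]
  constructor
  · rintro ⟨v, hv, rfl⟩
    obtain ⟨h, rfl⟩ := FW.w1 v hv
    exact ⟨h, jT _ _ _⟩
  · rintro ⟨h, rfl⟩
    exact ⟨_, ac_ne h (ev_ne 0), jT _ _ _⟩

include hp in
theorem p01 : hf (ev 0 : Vn n F) (ev 1) = 0 := hf_symm (by simpa using p10 (n := n) (1 : F))

include hp in
theorem sr (g : XU n F) : Sr g ↔ IsConj (xa n F) g := by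
  rw [isConj_iff]
  constructor
  · rintro ⟨u, v, h, l, rfl⟩
    obtain ⟨k, rfl, rfl⟩ := FW.w2 u v h l
    exact ⟨k, jE (hf_symm p01) _ _⟩
  · rintro ⟨h, rfl⟩
    exact ⟨_, _, by rw [hf_ac, p01], li_ac h li01, jE (hf_symm p01) _ _⟩

theorem c_eq {u v : Vn n F} (h : hf u v = 0) : EE u v 1 = TT (u + v) * TT v := ac_ext fun y => by
  simp only [ac_mul, aE (hf_symm h), aT, hf_add_left, hf_add_right, hf_smul_left, hx, hf_symm h]
  ext i
  simp only [Pi.add_apply, Pi.smul_apply, smul_eq_mul]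
  linear_combination -(hf y v * v i) * two0 F

theorem li_add {u v : Vn n F} (h : Li u v) : Li (u + v) v := fun a b e => by
  obtain ⟨h1, h2⟩ := h a (a + b) (by rw [← e, smul_add, add_smul, add_assoc])
  exact ⟨h1, by simpa [h1] using h2⟩

theorem cr_iff {g : XU n F} : Cr g ↔ ∃ u v, hf u v = 0 ∧ Li u v ∧ g = EE u v 1 := by
  have k : ∀ {u v : Vn n F}, hf u v = 0 → hf (u + v) v = 0 := fun h => by
    rw [hf_add_left, h, hx, add_zero]
  constructor
  · rintro ⟨u, v, h, l, rfl⟩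
    exact ⟨_, _, k h, li_add l, by rw [c_eq (k h), add_assoc, v_add_self, add_zero]⟩
  · rintro ⟨u, v, h, l, rfl⟩
    exact ⟨_, _, k h, li_add l, c_eq h⟩

include hp in
theorem xc_eq : xc n F = EE (ev 0) (ev 1) 1 := by simpa [zu] using zu_eq (n := n) (1 : F) 1

include hp in
theorem cr (g : XU n F) : Cr g ↔ IsConj (xc n F) g := by
  rw [isConj_iff, cr_iff, xc_eq]
  constructor
  · rintro ⟨u, v, h, l, rfl⟩
    obtain ⟨k, rfl, rfl⟩ := FW.w2 u v h l
    exact ⟨k, jE (hf_symm p01) _ _⟩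
  · rintro ⟨h, rfl⟩
    exact ⟨_, _, by rw [hf_ac, p01], li_ac h li01, jE (hf_symm p01) _ _⟩

theorem li_sm {u v : Vn n F} (h : Li u v) {a b : F} (ha : a ≠ 0) (hb : b ≠ 0) : Li (a • u) (b • v) :=
  fun c d e => by simpa [ha, hb] using h (c * a) (d * b) (by rwa [mul_smul, mul_smul])

include hp in
theorem zc (a b : F) : (a ≠ 0 → Lr (zu (n := n) a 0)) ∧ (b ≠ 0 → Sr (zu (n := n) 0 b)) ∧
    (a ≠ 0 → b ≠ 0 → Cr (zu (n := n) a b)) := by
  have k : nm (rt a) * 1 = a := by rw [nm, star_trivial, ← sq, rt_sq, mul_one]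
  refine ⟨fun ha => ⟨rt a • ev 0, smul_ne_zero (rt_ne ha) (ev_ne 0), ?_⟩, fun hb =>
    ⟨ev 0, b • ev 1, hf_symm (p10 b), by simpa using li_sm li01 one_ne_zero hb, zu_eq 0 b⟩,
    fun ha hb => cr_iff.2 ⟨rt a • ev 0, ((rt a)⁻¹ * b) • ev 1, by rw [hf_smul_left, hs, p10, mul_zero],
      li_sm li01 (rt_ne ha) (mul_ne_zero (inv_ne_zero (rt_ne ha)) hb), ?_⟩⟩
  · rw [zu_eq, zero_smul, TT, Tc_smul, k]
  · rw [zu_eq, EE_smul, k, star_trivial, smul_smul, mul_inv_cancel_left₀ (rt_ne ha)]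

theorem nv (g : XU n F) (y : Vn n F) : (mt g - 1).mulVecLin y = ac g y + y := by
  rw [mulVecLin_apply, sub_mulVec, one_mulVec, sub_eq_add_neg, neg_eq_iff_add_eq_zero.2 (v_add_self y)]
  rfl

theorem rk_eq {g : XU n F} {m : ℕ} {w : Fin m → Vn n F} (li : LinearIndependent F w)
    (h1 : ∀ y, ac g y + y ∈ Submodule.span F (Set.range w)) (h2 : ∀ i, ∃ y, ac g y + y = w i) :
    rk g = m := by
  have : LinearMap.range (mt g - 1).mulVecLin = Submodule.span F (Set.range w) := le_antisymm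
    (by rintro _ ⟨y, rfl⟩; rw [nv]; exact h1 y)
    (Submodule.span_le.2 (by rintro _ ⟨i, rfl⟩; obtain ⟨y, hy⟩ := h2 i; exact ⟨y, (nv g y).trans hy⟩))
  rw [rk, Matrix.rank, this, finrank_span_eq_card li, Fintype.card_fin]

theorem rk0 {g : XU n F} : rk g = 0 ↔ g = 1 := by
  constructor
  · intro h
    rw [rk, Matrix.rank, Submodule.finrank_eq_zero, LinearMap.range_eq_bot] at h
    exact ac_ext fun y => by rw [mv (show ac g y + y = 0 by rw [← nv g y, h]; rfl), add_zero, ac_one]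
  · rintro rfl
    rw [rk, mt_one, sub_self, rank_zero]

theorem nE {u x : Vn n F} (h : hf x u = 0) (c : F) (y : Vn n F) :
    ac (EE u x c) y + y = (hf y x + c * hf y u) • u + hf y u • x := by
  rw [aE h, add_comm, ← add_assoc, ← add_assoc, ← add_assoc, v_add_self, zero_add, add_smul,
    add_right_comm]

theorem rk1 {u : Vn n F} (hu : u ≠ 0) : rk (TT u) = 1 := by
  obtain ⟨z, hz⟩ := ex1 hu
  refine rk_eq (w := ![u]) (by simpa using hu) (fun y => ?_) fun i => ⟨z, ?_⟩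
  · rw [nE (by simp), smul_zero, add_zero]
    exact Submodule.smul_mem _ _ (Submodule.subset_span ⟨0, rfl⟩)
  · rw [nE (by simp), hz]; simp

theorem rk2 {u x : Vn n F} (h : hf x u = 0) (l : Li u x) (c : F) : rk (EE u x c) = 2 := by
  have li : LinearIndependent F ![u, x] := LinearIndependent.pair_iff.2 l
  refine rk_eq li (fun y => ?_) fun i => ?_
  · rw [nE h]
    exact add_mem (Submodule.smul_mem _ _ (Submodule.subset_span ⟨0, rfl⟩))
      (Submodule.smul_mem _ _ (Submodule.subset_span ⟨1, rfl⟩))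
  · fin_cases i
    · obtain ⟨y, hy⟩ := FW.sep 2 _ li ![0, 1]
      exact ⟨y, by rw [nE h, show hf y u = 0 from hy 0, show hf y x = 1 from hy 1]; simp⟩
    · obtain ⟨y, hy⟩ := FW.sep 2 _ li ![1, c]
      exact ⟨y, by rw [nE h, show hf y u = 1 from hy 0, show hf y x = c from hy 1]; simp [cc]⟩

theorem altE {u x : Vn n F} (hu : u ≠ 0) (h : hf x u = 0) (c : F) : Alt (EE u x c) ↔ c = 0 := by
  have k : ∀ y, hf (ac (EE u x c) y) y = c * hf y u ^ 2 := fun y => by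
    simp only [aE h, hf_add_left, hf_smul_left, hx, hs u y, hs x y]
    linear_combination hf y x * hf y u * two0 F
  obtain ⟨z, hz⟩ := ex1 hu
  exact ⟨fun a => by simpa [k, hz] using a z, fun a y => by rw [k, a, zero_mul]⟩

theorem not_alt {g : XU n F} (h : g * g = 1) (r : rk g = 1) : ¬ Alt g := fun a => by
  obtain ⟨⟨w, x, rfl⟩, h1, h2⟩ := finrank_eq_one_iff'.1 r
  have k : ∀ x y, hf (ac g x + x) y = hf x (ac g y + y) := fun x y => by
    rw [hf_add_left, hf_add_right, hf_ac_left, inv_eq_of_mul_eq_one_right h]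
  refine h1 (Subtype.ext (eq_of_hf fun y => ?_))
  obtain ⟨c, hc⟩ := h2 ⟨_, y, rfl⟩
  have hc' := congrArg Subtype.val hc
  simp only [SetLike.val_smul, nv] at hc'
  simp only [nv, ZeroMemClass.coe_zero, hf_zero_left]
  rw [k, ← hc', hr, hf_add_right, hs, a, hx, add_zero, mul_zero]

theorem cls {x g : XU n F} (h : x * x = 1) {m : ℕ} (r : rk x = m + 1) :
    IsConj x g ↔ Inv2 g ∧ rk g = m + 1 ∧ (Alt x ↔ Alt g) := by
  constructor
  · intro c
    have h2 : g * g = 1 := by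
      obtain ⟨k, rfl⟩ := isConj_iff.1 c
      rw [conj_mul, h, mul_one, mul_inv_cancel]
    obtain ⟨k1, k2⟩ := (FW.rkc x g h h2).1 c
    exact ⟨⟨h2, fun e => by rw [rk0.2 e] at k1; omega⟩, k1 ▸ r, k2⟩
  · exact fun ⟨k1, k2, k3⟩ => (FW.rkc x g h k1.1).2 ⟨r.trans k2.symm, k3⟩

include hp in
theorem rkc (g : XU n F) : (Lr g ↔ Inv2 g ∧ rk g = 1) ∧ (Sr g ↔ Inv2 g ∧ rk g = 2 ∧ Alt g) ∧
    (Cr g ↔ Inv2 g ∧ rk g = 2 ∧ ¬ Alt g) := by
  have p := hf_symm (p01 (n := n) (F := F))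
  refine ⟨?_, ?_, ?_⟩
  · rw [lr, cls (sqE (by simp) 1) (rk1 (ev_ne 0)), altE (ev_ne 0) (by simp)]
    exact ⟨fun h => ⟨h.1, h.2.1⟩, fun h => ⟨h.1, h.2, by simp [not_alt h.1.1 h.2]⟩⟩
  · rw [sr, cls (sqE p 0) (rk2 p li01 0), altE (ev_ne 0) p]; simp
  · rw [cr, xc_eq, cls (sqE p 1) (rk2 p li01 1), altE (ev_ne 0) p]; simp

include hp in
theorem r3 (g : XU n F) (h : Inv2 g) (h' : ¬ Rt g) : 3 ≤ rk g := by
  obtain ⟨k1, k2, k3⟩ := rkc g
  by_contra! k
  have := mt rk0.1 h.2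
  obtain e | e : rk g = 1 ∨ rk g = 2 := by omega
  · exact h' (Or.inl (k1.2 ⟨h, e⟩))
  · by_cases a : Alt g
    · exact h' (Or.inr (Or.inl (k2.2 ⟨h, e, a⟩)))
    · exact h' (Or.inr (Or.inr (k3.2 ⟨h, e, a⟩)))

include hp in
theorem stU [FA n F] (α : MulAut (XU n F)) (h : α ∈ St (UU n F)) :
    α ∈ St (ZL n F) ∧ α ∈ St (ZS n F) := by
  have k : ∀ a b : F, ∃ a' b', α (zu a b) = zu a' b' := fun a b => (FV.mem_ZU _).1 (by
    have m := (FV.mem_ZU (n := n) _).2 ⟨a, b, rfl⟩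
    rw [← zU] at m ⊢
    intro u hu
    have := congrArg α (m (α⁻¹ u) (((St _).inv_mem h u).1 hu))
    simpa using this)
  have zl : ∀ a : F, zu (n := n) a 0 = Tc a (ev 0) := fun a => by rw [zu_eq, zero_smul]
  have zs : ∀ b : F, zu (n := n) 0 b = qq (b • ev 1) (ev 0) := zu_eq 0
  refine ⟨mem_St_of_finite fun g hg => ?_, mem_St_of_finite fun g hg => ?_⟩
  · obtain ⟨c, rfl⟩ := (FV.mem_Zl _ g).1 hg
    by_cases c0 : c = 0
    · rw [c0, Tc, EE_zero, map_one]; exact one_mem _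
    obtain ⟨a, b, e⟩ := k c 0
    have r := (rkc _).1.1 (e ▸ (FA.cls α _).1 ((zc c 0).1 c0))
    by_cases b0 : b = 0
    · rw [← zl, e, b0, zl]; exact (FV.mem_Zl _ _).2 ⟨a, rfl⟩
    · rw [zu_eq, rk2 (p10 b) (by simpa using li_sm li01 one_ne_zero b0)] at r
      omega
  · obtain ⟨c, rfl⟩ := (FV.mem_Zs _ _ p01 g).1 hg
    by_cases c0 : c = 0
    · rw [c0, zero_smul, qq, EE_zero, map_one]; exact one_mem _
    obtain ⟨a, b, e⟩ := k 0 c
    have r := (rkc _).2.1.1 (e ▸ (FA.cls α _).2.1 ((zc 0 c).2.1 c0))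
    rw [zu_eq, altE (ev_ne 0) (p10 b)] at r
    rw [← zs, e, r.2.2, zs]
    exact (FV.mem_Zs _ _ p01 _).2 ⟨b, rfl⟩

theorem jobFR : JobFR := by
  intro n F _ _ _ _ _ hp fv fw fa
  refine ⟨cz, o2, perf, perfS, zP, cq, qP _ (ev_ne 0), fun p h1 h2 => cE' (ev_ne 0) h1 fun y hy =>
    (FV.mem_Zl _ _).1 (h2 _ (memE hy 0)), zU, lr, sr, cr, zc, rkc, r3, stU⟩

end H72.SPF
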