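/- STD-H, section 9: the transfer step OD. -/
import Cfsg.Agent.H99.WrOBase

set_option autoImplicit false

open Subgroup Cfsg H98 H1.Gold H99.Wr

universe u

namespace H72.Wr

variable {G : Type u} [Group G]

/-- transfer into an abelian quotient of a Sylow 2-subgroup, evaluated at an involution -/
theorem mem_of_transfer [Finite G] {R U K : Subgroup G} (hR : res 2 R = R) (hU : IsSyl 2 U R)
    (hc : ∀ x ∈ U, ∀ y ∈ U, x * y * x⁻¹ * y⁻¹ ∈ K) {s : G} (hs : s ∈ U) (s2 : s * s = 1)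
    (h : ∀ g : G, g * s * g⁻¹ ∈ U → g * s * g⁻¹ * s ∈ K) : s ∈ K := by
  let H : Subgroup R := U.subgroupOf R
  let N : Subgroup H := K.comap (R.subtype.comp H.subtype)
  have hN : N.Normal := ⟨fun n hn g => by
    have := mul_mem (hc g.1.1 g.2 n.1.1 n.2) (show n.1.1 ∈ K from hn)
    rwa [inv_mul_cancel_right] at this⟩
  let : CommGroup (H ⧸ N) :=
    { QuotientGroup.Quotient.group N with
      mul_comm := by
        rintro ⟨a⟩ ⟨b⟩
        refine QuotientGroup.eq.2 ?_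
        have := hc _ b⁻¹.2 _ a⁻¹.2
        rw [mul_inv_rev, ← mul_assoc]
        show b.1.1⁻¹ * a.1.1⁻¹ * b.1.1 * a.1.1 ∈ K
        simpa using this }
  have hH : IsPGroup 2 (H ⧸ N) := (isPGroup_subgroupOf hU.isPGroup R).to_quotient N
  have o : Odd H.index := Nat.not_even_iff_odd.1 fun e => hU.not_dvd_relIndex e.two_dvd
  let x : H := ⟨⟨s, hU.le hs⟩, hs⟩
  have x2 : x ^ 2 = 1 := Subtype.ext (Subtype.ext (by rw [pow_two]; exact s2))
  have y2 : (QuotientGroup.mk' N x) ^ 2 = 1 := by rw [← map_pow, x2, map_one]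
  have e1 := H8.transfer_eq_pow_of_forall (QuotientGroup.mk' N) x.1 (QuotientGroup.mk' N x) (by
    intro k a ha
    have p : (x : R) ^ 2 = 1 := congrArg Subtype.val x2
    rcases Nat.even_or_odd' k with ⟨j, rfl | rfl⟩
    · rw [pow_mul (QuotientGroup.mk' N x), y2, one_pow, ← (QuotientGroup.mk' N).map_one]
      congr 1
      exact Subtype.ext (by simp [pow_mul, p])
    · have q : (x : R) ^ (2 * j + 1) = x := by rw [pow_succ, pow_mul, p, one_pow, one_mul]
      rw [pow_succ (QuotientGroup.mk' N x), pow_mul (QuotientGroup.mk' N x), y2, one_pow, one_mul]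
      simp only [q] at ha ⊢
      refine (QuotientGroup.eq.2 ?_)
      have := h (a⁻¹ : R) (by simpa using (show ((a⁻¹ * x * a : R) : G) ∈ U from ha))
      show ((a⁻¹ * x * a : R) : G)⁻¹ * s ∈ K
      have e : ((a⁻¹ * x * a : R) : G)⁻¹ = (a⁻¹ : R) * s * ((a⁻¹ : R) : G)⁻¹ := by
        simp [x, inv_of_sq s2, mul_assoc]
      rwa [e])
  have e2 : res 2 R ≤ (MonoidHom.transfer (QuotientGroup.mk' N)).ker.map R.subtype :=
    res_le_of_forall_pow fun y hy => by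
      obtain ⟨k, hk⟩ := hH (MonoidHom.transfer (QuotientGroup.mk' N) ⟨y, hy⟩)
      exact ⟨k, ⟨y, hy⟩ ^ 2 ^ k, by rw [SetLike.mem_coe, MonoidHom.mem_ker, map_pow, hk], rfl⟩
  obtain ⟨y, hy, e⟩ := e2 (hR.ge (hU.le hs))
  obtain rfl : y = x.1 := Subtype.ext e
  obtain ⟨j, hj⟩ := o
  rw [show MonoidHom.transfer (QuotientGroup.mk' N) x.1 = 1 from hy, hj, pow_succ, pow_mul, y2,
    one_pow, one_mul] at e1
  exact (QuotientGroup.eq_one_iff x).1 e1.symm

/-- the images of `t`, `σ` and of an element moving only the first block -/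
def tb : Equiv.Perm (Fin 4) := Equiv.swap 0 2 * Equiv.swap 1 3
def sb : Equiv.Perm (Fin 4) := Equiv.swap 0 1 * Equiv.swap 2 3
def ab : Equiv.Perm (Fin 4) := Equiv.swap 0 1

/-- the first block is kept -/
abbrev Bk (π : Equiv.Perm (Fin 4)) : Prop := π 0 = 0 ∧ π 1 = 1 ∨ π 0 = 1 ∧ π 1 = 0

/-- the block system is kept -/
abbrev Dk (π : Equiv.Perm (Fin 4)) : Prop := Bk π ∨ Bk (π * tb)

set_option synthInstance.maxSize 1024 in
theorem d8a : ∀ π π', Dk π → Dk π' → π ≠ tb ∧ π ≠ tb * sb → π' ≠ tb ∧ π' ≠ tb * sb →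
    π * π' ≠ tb ∧ π * π' ≠ tb * sb → π * π' * π⁻¹ * π'⁻¹ = 1 := by decide +kernel

theorem d8b : ∀ π, Dk π → π ≠ 1 → π * π = 1 → π ≠ tb ∧ π ≠ tb * sb →
    π * sb = 1 ∨ π = ab ∨ tb * π * tb⁻¹ = ab := by decide +kernel

theorem d8c : ∀ π, Dk π → π ≠ tb ∧ π ≠ tb * sb → π * ab ≠ tb ∧ π * ab ≠ tb * sb → Bk π := by
  decide +kernel

theorem d8d : ∀ π, Bk π → π = 1 ∨ π = sb ∨ π = ab ∨ π = ab * sb := by decide +kernel

theorem d8e : ∀ π, Dk π → π ≠ tb → π ≠ sb → π * (tb * π⁻¹ * tb⁻¹) ≠ sb → π = 1 ∨ π = tb * sb := by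
  decide +kernel

theorem jobOD : JobOD.{u} := by
  intro jc sw am G _ _ t f σ L O S E E' E₁ F₁ Y₁ S₁ T P h q fu
  have tt := h.c.tt
  have nm : (res 2 (⊤ : Subgroup G)).Normal := res_top (G := G) (p := 2) ▸ pResidual_normal'
  have T0U : S₁ ⊔ cj t S₁ ≤ T ⊓ res 2 ⊤ := le_inf q.T0 (sup_le (h.s4.SY.trans h.Y_le)
    (cj_le_of_le (h.s4.SY.trans h.Y_le) (self_le_normalizer_res ⊤ (mem_top t))))
  have syl : IsSyl 2 (T ⊓ res 2 ⊤) (res 2 ⊤) := q.syl.inf_of_le_normalizer (N := res 2 ⊤) le_top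
    (le_top.trans (self_le_normalizer_res ⊤))
  have tU : t ∉ T ⊓ res 2 ⊤ := fun e => by
    obtain ⟨N, hN, hi, ht⟩ := H8.thompson_transfer T (T ⊓ nor (E₁ ⊔ F₁))
      (Nat.not_even_iff_odd.1 fun e => q.syl.not_dvd_relIndex (by simpa using e.two_dvd))
      (q.relIndex_star h) t (by rw [pow_two, tt]) fu.tn
    exact ht (res_le_of_forall_pow (fun x _ => ⟨1, by simpa using sq_mem_of_index_two hi x⟩) e.2)
  have oc := jc sw am G t f σ L O S E E' E₁ F₁ Y₁ S₁ T _ P h q fu nm le_rfl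
  have nU : ∀ u ∈ T ⊓ res 2 ⊤, t * u * t⁻¹ ∈ T ⊓ res 2 ⊤ := fun u hu =>
    ⟨T.mul_mem (T.mul_mem q.tT hu.1) (T.inv_mem q.tT), nm.conj_mem u hu.2 t⟩
  have UT : T ⊓ res 2 ⊤ ≤ T := inf_le_left
  have hR := res_res (p := 2) (⊤ : Subgroup G)
  generalize T ⊓ res 2 ⊤ = U at *
  -- the action on the four groups
  let fm : Fin 4 → Subgroup G := ![E₁, F₁, cj t E₁, cj t F₁]
  have s1 := h.sy₁
  have s2 := h.sy₂
  have k : ∀ {A B : Subgroup G}, A ≤ S₁ → B ≤ cj t S₁ → Nat.card A = 16 → A ≠ B := fun a b c e =>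
    h.not_le₁₂ a (e ▸ b) c
  have inj : Function.Injective fm := by
    have := s1.ne
    have := s2.ne
    have := k s1.ES s2.ES s1.cE
    have := k s1.ES s2.E'S s1.cE
    have := k s1.E'S s2.ES s1.cE'
    have := k s1.E'S s2.E'S s1.cE'
    intro i j
    fin_cases i <;> fin_cases j <;> simp [fm, *, eq_comm]
  have fa : ∀ A, Fam t E₁ F₁ A ↔ ∃ i, A = fm i := fun A => by simp [Fam, fm, Fin.exists_fin_succ]
  have ex : ∀ n : G, ∃ π : Equiv.Perm (Fin 4), n ∈ T → ∀ i, cj n (fm i) = fm (π i) := fun n => by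
    by_cases hn : n ∈ T
    · choose g hg using fun i => (fa _).1 (q.fam (q.TJ hn) _ ((fa _).2 ⟨i, rfl⟩))
      exact ⟨Equiv.ofBijective g (Finite.injective_iff_bijective.1 fun i j e =>
        inj (cj_inj.1 ((hg i).trans ((congrArg fm e).trans (hg j).symm)))), fun _ => hg⟩
    · exact ⟨1, fun e => absurd e hn⟩
  choose r hr using ex
  have val : ∀ n ∈ T, ∀ i j, cj n (fm i) = fm j ↔ r n i = j := fun n hn i j => by
    rw [hr n hn, inj.eq_iff]
  have mul : ∀ n ∈ T, ∀ m ∈ T, r (n * m) = r n * r m := fun n hn m hm => Equiv.ext fun i =>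
    (val _ (mul_mem hn hm) _ _).1 (by rw [← cj_cj, hr m hm, hr n hn]; rfl)
  have one : ∀ n ∈ T, r n = 1 ↔ n ∈ S₁ ⊔ cj t S₁ := fun n hn =>
    ⟨fun e => q.ker n hn (cj_eq_self_iff.1 ((val n hn 0 0).2 (by rw [e]; rfl)))
      (cj_eq_self_iff.1 ((val n hn 2 2).2 (by rw [e]; rfl))), fun e => Equiv.ext fun i => by
      obtain ⟨⟨a, b⟩, c, d⟩ := h.T0_nor e
      refine (val n hn i i).1 (cj_eq_self ?_)
      fin_cases i <;> assumption⟩
  have inv : ∀ n ∈ T, r n⁻¹ = (r n)⁻¹ := fun n hn => by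
    rw [eq_inv_iff_mul_eq_one, ← mul _ (inv_mem hn) _ hn, inv_mul_cancel]
    exact (one 1 (one_mem _)).2 (one_mem _)
  have rt : r t = tb := Equiv.ext fun i => (val t q.tT _ _).1 (by
    fin_cases i
    exacts [rfl, rfl, cj_tt tt _, cj_tt tt _])
  have rs : r σ = sb := Equiv.ext fun i => (val σ q.σT _ _).1 (by
    fin_cases i
    exacts [q.σE, q.σF, (q.σcj _).trans (congrArg _ q.σE), (q.σcj _).trans (congrArg _ q.σF)])
  have bk : ∀ n ∈ T, Blk n E₁ F₁ ↔ Bk (r n) := fun n hn =>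
    or_congr (and_congr (val n hn 0 0) (val n hn 1 1)) (and_congr (val n hn 0 1) (val n hn 1 0))
  have dk : ∀ n ∈ T, Dk (r n) := fun n hn => (q.blk h (q.TJ hn)).imp (fun e => (bk n hn).1 e.1)
    fun e => by rw [← rt, ← mul n hn t q.tT]; exact (bk _ (mul_mem hn q.tT)).1 e.1
  have mU : ∀ x ∈ T, ∀ u ∈ U, r x = r u → x ∈ U := fun x hx u hu e => by
    have := T0U ((one _ (mul_mem (inv_mem (UT hu)) hx)).1 (by
      rw [mul _ (inv_mem (UT hu)) _ hx, inv _ (UT hu), e, inv_mul_cancel]))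
    simpa using mul_mem hu this
  have nt : ∀ u ∈ U, r u ≠ tb := fun u hu e => tU (mU t q.tT u hu (rt.trans e.symm))
  have cm : ∀ x ∈ U, ∀ y ∈ U, r x * r y * (r x)⁻¹ * (r y)⁻¹ = 1 →
      x * y * x⁻¹ * y⁻¹ ∈ S₁ ⊔ cj t S₁ := fun x hx y hy e => by
    have a := mul_mem (UT hx) (UT hy)
    have b := mul_mem a (inv_mem (UT hx))
    rwa [← one _ (mul_mem b (inv_mem (UT hy))), mul _ b _ (inv_mem (UT hy)),
      mul _ a _ (inv_mem (UT hx)), mul _ (UT hx) _ (UT hy), inv _ (UT hx), inv _ (UT hy)]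
  have tσ := mul_mem q.tT q.σT
  have rts : r (t * σ) = tb * sb := by rw [mul _ q.tT _ q.σT, rt, rs]
  have cW : cj σ (E₁ ⊔ cj t E₁) = F₁ ⊔ cj t F₁ := by rw [cj_sup, q.σcj, q.σE]
  refine le_antisymm (fun u0 hu0 => by_contra fun h0 => ?_) T0U
  by_cases hσ : σ ∈ U
  · have nn : ∀ u ∈ U, r u ≠ tb ∧ r u ≠ tb * sb := fun u hu => ⟨nt u hu, fun e => tU (by
      simpa using mul_mem (mU _ tσ u hu (rts.trans e.symm)) (inv_mem hσ))⟩
    have kill : ∀ g : G, g * σ * g⁻¹ ∈ U → r (g * σ * g⁻¹) ≠ ab := fun g hg e => by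
      have eU : U = T ⊓ nor (E₁ ⊔ F₁) := by
        refine le_antisymm (fun x hx => ?_) fun x hx => ?_
        · refine ⟨UT hx, ((bk x (UT hx)).2 (d8c _ (dk x (UT hx)) (nn x hx) ?_)).nor⟩
          rw [← e, ← mul _ (UT hx) _ (UT hg)]
          exact nn _ (mul_mem hx hg)
        · rcases d8d _ ((bk x hx.1).1 (q.star h hx).1) with a | a | a | a
          · exact T0U ((one x hx.1).1 a)
          · exact mU x hx.1 σ hσ (a.trans rs.symm)
          · exact mU x hx.1 _ hg (a.trans e.symm)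
          · exact mU x hx.1 _ (mul_mem hg hσ) (by rw [mul _ (UT hg) _ q.σT, e, rs, a])
      exact oc eU g (eU ▸ hg) (cj_eq_self_iff.1 ((val _ (UT hg) 2 2).2 (by rw [e]; rfl)))
    have := mem_of_transfer hR syl (K := S₁ ⊔ cj t S₁) (fun x hx y hy => cm x hx y hy
      (d8a _ _ (dk x (UT hx)) (dk y (UT hy)) (nn x hx) (nn y hy)
        (mul _ (UT hx) _ (UT hy) ▸ nn _ (mul_mem hx hy)))) hσ q.σσ fun g hg => by
      have a : r (g * σ * g⁻¹) ≠ 1 := fun e => fu.out σ q.σt q.σσ cW g ((one _ (UT hg)).1 e)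
      have b : g * σ * g⁻¹ * (g * σ * g⁻¹) = 1 := by
        calc _ = g * (σ * σ) * g⁻¹ := by group
          _ = 1 := by rw [q.σσ]; group
      rcases d8b _ (dk _ (UT hg)) a (by
        rw [← mul _ (UT hg) _ (UT hg), b]; exact (one 1 (one_mem _)).2 (one_mem _)) (nn _ hg)
        with c | c | c
      · rw [← one _ (mul_mem (UT hg) q.σT), mul _ (UT hg) _ q.σT, rs, c]
      · exact absurd c (kill g hg)
      · have e : t * g * σ * (t * g)⁻¹ = t * (g * σ * g⁻¹) * t⁻¹ := by group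
        refine absurd ?_ (kill (t * g) (e ▸ nU _ hg))
        rw [e, mul _ (mul_mem q.tT (UT hg)) _ (inv_mem q.tT), mul _ q.tT _ (UT hg), inv _ q.tT, rt, c]
    rw [← one σ q.σT, rs] at this
    exact absurd this (by decide)
  · have ns : ∀ u ∈ U, r u ≠ sb := fun u hu e => hσ (mU σ q.σT u hu (rs.trans e.symm))
    have two : ∀ u ∈ U, r u = 1 ∨ r u = tb * sb := fun u hu =>
      d8e _ (dk u (UT hu)) (nt u hu) (ns u hu) (by
        have a := inv_mem (UT hu)
        have := ns _ (mul_mem hu (nU _ (inv_mem hu)))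
        rwa [mul _ (UT hu) _ (UT (nU _ (inv_mem hu))), mul _ (mul_mem q.tT a) _ (inv_mem q.tT),
          mul _ q.tT _ a, inv _ q.tT, inv _ (UT hu), rt] at this)
    have hs : t * σ ∈ U := mU _ tσ u0 hu0 (rts.trans ((two u0 hu0).resolve_left
      fun e => h0 ((one u0 (UT hu0)).1 e)).symm)
    have s2 : t * σ * (t * σ) = 1 := by
      calc _ = t * (σ * t) * σ := by group
        _ = (t * t) * (σ * σ) := by rw [q.σt]; group
        _ = 1 := by rw [tt, q.σσ, mul_one]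
    have := mem_of_transfer hR syl (K := S₁ ⊔ cj t S₁) (fun x hx y hy => cm x hx y hy (by
      rcases two x hx with a | a <;> rcases two y hy with b | b <;> rw [a, b] <;> decide))
      hs s2 fun g hg => by
      have a : r (g * (t * σ) * g⁻¹) ≠ 1 := fun e => fu.out (t * σ) (by rw [mul_assoc, q.σt]) s2
        (by rw [← cj_cj, cW, cj_sup, cj_tt tt, sup_comm]) g ((one _ (UT hg)).1 e)
      rw [← one _ (mul_mem (UT hg) tσ), mul _ (UT hg) _ tσ, rts, (two _ hg).resolve_left a]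
      decide
    rw [← one _ tσ, rts] at this
    exact absurd this (by decide)

end H72.Wr
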