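/- Job P3a of `blueprints/STDE.md`: the remaining commutator relations (port of `H70/SgP3a`). -/
import Cfsg.Agent.H78.TESpec

set_option autoImplicit false
set_option linter.unusedSectionVars false

namespace H72.P3a

open Cfsg.Lie H63 H65 H64 H64.SG Subgroup H78.TE

universe u

variable {F : Type} [Field F] [CharP F 2] {G : Type u} [Group G] {L : Subgroup G}
  {x : ℕ → F → G} {t : G} {A : Rt D4 → Subgroup G}

variable (L x t) in
/-- `w` centralises `PL r` and translates `t` by `x r c`. -/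
def Tl (r : Rt D4) (w : G) (c : F) : Prop := w ∈ Cs (PL L x r) ∧ w * t * w⁻¹ = t * x r c

theorem ge1 {a : ℤ} (h : a = 1) : 0 ≤ a := by omega

theorem self_nonneg (r : Rt D4) : 0 ≤ D4.pairing r r := by rw [pairing_self]; omega

theorem pairing_sub {r s : Rt D4} (h : D4.pairing r s = 1) : ∃ u : Rt D4, rt r = rt s + rt u := by
  obtain ⟨u, hu⟩ := exists_sub_of_pairing_pos (r := s) (s := r)
    (by rw [e4.pairing_comm]; omega) (by rintro rfl; rw [pairing_self] at h; omega)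
  exact ⟨u, by rw [hu]; abel⟩

section

variable (E : Env L x t)
include E

theorem xt (r : Rt D4) (c : F) : x r c * t = t * x r c := E.tc _ (E.le r c)

theorem ti : t⁻¹ = t := inv_eq_of_mul_eq_one_right E.tt

theorem xc {r s : Rt D4} (h : 0 ≤ D4.pairing r s) (a b : F) : x r a * x s b = x s b * x r a :=
  e4.comm_of_nonneg E.st h a b

theorem cx {r s : Rt D4} {w : G} (hw : w ∈ Cs (PL L x r)) (h : 0 ≤ D4.pairing r s) (b : F) :
    x s b * w = w * x s b := mem_Cs.1 hw _ ⟨E.le s b, mem_Cs.2 fun y hy => by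
  obtain ⟨a, rfl⟩ := E.st.mem_XR.1 hy
  exact xc E h a b⟩

theorem zero_of_comm {r v : Rt D4} (h : D4.pairing r v = -1) {a : F}
    (e : x r a * x v 1 = x v 1 * x r a) : a = 0 := by
  obtain ⟨u, hu⟩ := exists_add h
  have := e4.commutator_add E.st hu a 1
  rw [e, mul_one] at this
  exact E.inj u a (by rw [← this]; group)

theorem zero_of_eq {r s : Rt D4} (h : D4.pairing r s = 1) {a b : F} (e : x r a = x s b) : a = 0 := by
  obtain ⟨v, h1, h2⟩ := e4.exists_third r s (a := -1) (b := 0) (by simp [h]) (by simp) (by simp)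
    (by simp) (by simp) (by simp [h])
  refine zero_of_comm E h1 ?_
  rw [e]
  exact xc E h2.ge _ _

theorem tl_inv {r : Rt D4} {w : G} {c : F} (h : Tl L x t r w c) : Tl L x t r w⁻¹ c := by
  refine ⟨inv_mem h.1, ?_⟩
  have h1 := cx E h.1 (self_nonneg r) c
  calc w⁻¹ * t * w⁻¹⁻¹ = w⁻¹ * (t * x r c) * (x r c * w) := by
        rw [mul_assoc, mul_assoc, mul_assoc, ← mul_assoc (x r c), x_sq E.st]; group
    _ = t * (w⁻¹ * (x r c * w)) := by rw [← h.2]; group
    _ = _ := by rw [h1, inv_mul_cancel_left]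

theorem tl_of {r : Rt D4} {w : G} (h1 : w ∈ Cs (PL L x r)) (h2 : w * t * w⁻¹ * t⁻¹ ∈ XR D4 x r) :
    ∃ c, Tl L x t r w c := by
  obtain ⟨c, hc⟩ := E.st.mem_XR.1 h2
  exact ⟨c, h1, by rw [← xt E, ← hc, inv_mul_cancel_right]⟩

end

section


variable (E : Env L x t) (M : Fam L x t A)
include E M

theorem tl {r : Rt D4} {a : G} (ha : a ∈ A r) : ∃ c, Tl L x t r a c := tl_of E (M.cp r ha) (M.tc r a ha)

omit E in
theorem ai {r : Rt D4} {a : G} (ha : a ∈ A r) : a⁻¹ = a := inv_eq_of_mul_eq_one_right (M.sq r a ha)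

omit E in
theorem ab {r : Rt D4} {a b : G} (ha : a ∈ A r) (hb : b ∈ A r) : a * b = b * a := by
  rw [← ai M (mul_mem ha hb), mul_inv_rev, ai M ha, ai M hb]

omit E in
theorem col {r s : Rt D4} (h : D4.pairing r s = 1) {a b : G} (ha : a ∈ A r) (hb : b ∈ A s) :
    Commute a b := (mem_Cs.1 (M.col r s h ha) b hb).symm

/-- `A r` acts faithfully on `x v 1`, `r + v` a root. -/
theorem eq_one {r v : Rt D4} (h : D4.pairing r v = -1) {a : G} (ha : a ∈ A r)
    (e : Commute a (x v 1)) : a = 1 := by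
  obtain ⟨c, hc⟩ := tl E M ha
  have h1 : Commute (t * x r c) (x v 1) := by
    rw [← hc.2]
    exact (e.mul_left (xt E v 1).symm).mul_left e.inv_left
  have h2 : Commute (x r c) (x v 1) := by
    simpa using (Commute.inv_left (xt E v 1).symm).mul_left h1
  have h3 := hc.2
  rw [zero_of_comm E h h2, E.st.x_zero, mul_one, mul_inv_eq_iff_eq_mul] at h3
  obtain ⟨b, rfl⟩ := E.st.mem_XR.1 (M.fix r a ha (mem_Cz.2 h3.symm))
  rw [zero_of_comm E h e, E.st.x_zero]

theorem onto_comm [Finite G] {r p v : Rt D4} (hv : rt v = rt r + rt p) {b : G} (hb : b ∈ A v) :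
    ∃ a ∈ A r, b = a * x p 1 * a⁻¹ * (x p 1)⁻¹ := by
  have rp := e4.pairing_of_add hv
  have rv : D4.pairing r v = 1 := by rw [pairing_add r hv, pairing_self, rp]; rfl
  let f : A r → A v := fun a => ⟨_, M.neg r p v hv a a.2 1⟩
  have inj : Function.Injective f := fun a a' e => by
    have e' : (a : G) * x p 1 * (a : G)⁻¹ * (x p 1)⁻¹ = a' * x p 1 * (a' : G)⁻¹ * (x p 1)⁻¹ :=
      congrArg Subtype.val e
    rw [mul_left_inj] at e'
    refine Subtype.ext (inv_mul_eq_one.1 (eq_one E M rp (mul_mem (inv_mem a.2) a'.2) ?_))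
    show _ = _
    calc (a : G)⁻¹ * a' * x p 1 = (a : G)⁻¹ * (a' * x p 1 * (a' : G)⁻¹) * a' := by group
      _ = _ := by rw [← e']; group
  obtain ⟨a, e⟩ := ((Nat.bijective_iff_injective_and_card f).2
    ⟨inj, by rw [M.card, M.card]⟩).2 ⟨b, hb⟩
  exact ⟨a, a.2, (congrArg Subtype.val e).symm⟩

theorem pol1 {r s : Rt D4} (h : D4.pairing r s = 0) {y b : G} (hy : y ∈ A r) (hb : b ∈ A s) :
    ∃ c d, y * b * y⁻¹ * b⁻¹ = x r c * x s d := by
  have h' : D4.pairing s r = 0 := by rw [e4.pairing_comm, h]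
  obtain ⟨c, hc⟩ := tl E M hy
  obtain ⟨d, hd⟩ := tl E M hb
  have k1 : y * b * t * (y * b)⁻¹ = b * y * t * (b * y)⁻¹ := by
    calc y * b * t * (y * b)⁻¹ = y * (b * t * b⁻¹) * y⁻¹ := by group
      _ = y * t * y⁻¹ * (y * x s d) * y⁻¹ := by rw [hd.2]; group
      _ = t * (x r c * x s d) := by rw [hc.2, ← cx E hc.1 h.ge]; group
      _ = b * t * b⁻¹ * (b * x r c) * b⁻¹ := by rw [hd.2, ← cx E hd.1 h'.ge, xc E h.ge]; group
      _ = b * (y * t * y⁻¹) * b⁻¹ := by rw [hc.2]; group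
      _ = _ := by group
  have k2 : t * (y * b * y⁻¹ * b⁻¹) = y * b * y⁻¹ * b⁻¹ * t := by
    have : (b * y)⁻¹ * (y * b) * t = t * ((b * y)⁻¹ * (y * b)) := by
      calc _ = (b * y)⁻¹ * (y * b * t * (y * b)⁻¹) * (y * b) := by group
        _ = _ := by rw [k1]; group
    rw [mul_inv_rev, ai M hy, ai M hb] at this
    rw [ai M hy, ai M hb]
    simpa only [mul_assoc] using this.symm
  have m1 : y ∈ Cs (PL L x r ⊓ PL L x s) := mem_Cs.2 fun v hv => mem_Cs.1 hc.1 v hv.1
  have m2 : b ∈ Cs (PL L x r ⊓ PL L x s) := mem_Cs.2 fun v hv => mem_Cs.1 hd.1 v hv.2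
  obtain ⟨c', d', e | e⟩ := E.cp r s (Or.inl h) _ k2
    (mul_mem (mul_mem (mul_mem m1 m2) (inv_mem m1)) (inv_mem m2))
  · exact ⟨c', d', e⟩
  · have z1 : Commute (x r c' * x s d') y :=
      Commute.mul_left (cx E hc.1 (self_nonneg r) c') (cx E hc.1 h.ge d')
    have z2 : x r c' * x s d' * t * (x r c' * x s d' * t) = 1 := by
      calc _ = x r c' * x s d' * (t * (x r c' * x s d')) * t := by group
        _ = x r c' * (x s d' * x r c') * x s d' * (t * t) := by
          rw [← E.tc _ (mul_mem (E.le r c') (E.le s d'))]; group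
        _ = (x r c' * x r c') * (x s d' * x s d') := by rw [← xc E h.ge, E.tt]; group
        _ = 1 := by rw [x_sq E.st, x_sq E.st, mul_one]
    have z3 : y * (x r c' * x s d' * t) * y⁻¹ = x r c' * x s d' * t := by
      rw [← inv_eq_of_mul_eq_one_right z2, ← e]
      nth_rewrite 1 [e, inv_eq_of_mul_eq_one_right z2, ← e]
      rw [ai M hy, ai M hb]
      simp only [mul_inv_rev, ai M hy, ai M hb, ← mul_assoc, M.sq r y hy, one_mul]
    have z4 : t * y = y * t := by
      rw [mul_inv_eq_iff_eq_mul, ← mul_assoc, ← z1.eq, mul_assoc, mul_assoc (x r c' * x s d'),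
        mul_right_inj] at z3
      exact z3.symm
    obtain ⟨a, rfl⟩ := E.st.mem_XR.1 (M.fix r y hy (mem_Cz.2 z4))
    exact ⟨0, 0, by rw [cx E hd.1 h'.ge, E.st.x_zero, E.st.x_zero]; group⟩

theorem pol [Finite G] {r s : Rt D4} (h : D4.pairing r s = 0) {y b : G} (hy : y ∈ A r)
    (hb : b ∈ A s) : Commute y b := by
  obtain ⟨s1, h1, h2⟩ := e4.exists_third r s (a := 1) (b := 1) (by simp [h]) (by simp) (by simp)
    (by simp [h]) (by simp) (by simp)
  obtain ⟨s2, hs⟩ := pairing_sub h2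
  have h3 : D4.pairing r s2 = -1 := by have := pairing_add r hs; omega
  obtain ⟨u, hu⟩ := exists_add h3
  have h4 := e4.pairing_of_add hs
  have h5 : D4.pairing s s2 = 1 := by rw [e4.pairing_add_left hs, pairing_self, h4]; rfl
  have h6 : D4.pairing u s = 1 := by rw [e4.pairing_add_left hu, h, e4.pairing_comm, h5]; rfl
  have h7 : D4.pairing s1 u = 0 := by rw [pairing_add s1 hu, h4, e4.pairing_comm, h1]; rfl
  have h8 : D4.pairing u s2 = 1 := by rw [e4.pairing_add_left hu, pairing_self, h3]; rfl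
  have h9 : D4.pairing r u = 1 := by rw [pairing_add r hu, pairing_self, h3]; rfl
  obtain ⟨a, ha, e⟩ := onto_comm E M hs hb
  have ha' := M.neg r s2 u hu y hy 1
  set a' := y * x s2 1 * y⁻¹ * (x s2 1)⁻¹ with ea
  have c1 := col M h1 hy ha
  have c2 := col M h6 ha' hb
  have k : y * b * y⁻¹ * b⁻¹ = a * a' * a⁻¹ * a'⁻¹ := by
    calc y * b * y⁻¹ * b⁻¹ = (y * a * y⁻¹) * (y * x s2 1 * y⁻¹) * (y * a * y⁻¹)⁻¹ *
          (y * x s2 1 * y⁻¹)⁻¹ * b⁻¹ := by rw [e]; group
      _ = a * a' * a⁻¹ * (b * a'⁻¹) * b⁻¹ := by rw [c1.eq, e, ea]; group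
      _ = _ := by rw [← c2.inv_left.eq]; group
  obtain ⟨c, d, e1⟩ := pol1 E M h hy hb
  obtain ⟨c', d', e2⟩ := pol1 E M h7 ha ha'
  have e3 : x r c * x s d = x s1 c' * x u d' := by rw [← e1, k, e2]
  have e5 : x r c * x u c * x s d = x s1 c' * x s c' * x u d' := by
    calc x r c * x u c * x s d = (x s2 1 * x r c * (x s2 1)⁻¹) * (x s2 1 * x s d) * (x s2 1)⁻¹ := by
          rw [e4.conj_add E.st (hu.trans (add_comm _ _)), ← xc E (ge1 h5), one_mul]; group
      _ = x s2 1 * (x r c * x s d) * (x s2 1)⁻¹ := by group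
      _ = (x s2 1 * x s1 c' * (x s2 1)⁻¹) * (x s2 1 * x u d') * (x s2 1)⁻¹ := by rw [e3]; group
      _ = _ := by
          rw [e4.conj_add E.st (hs.trans (add_comm _ _)), ← xc E (ge1 h8), one_mul]; group
  rw [mul_assoc, xc E (ge1 h6), ← mul_assoc, e3, mul_assoc (x s1 c') (x s c'), ← xc E (ge1 h6),
    ← mul_assoc, mul_right_inj] at e5
  have c0 := zero_of_eq E h6 e5
  have c0' := zero_of_eq E (by rw [e4.pairing_comm, h6]) e5.symm
  rw [c0, c0', E.st.x_zero, E.st.x_zero, one_mul, one_mul] at e3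
  rw [c0, zero_of_eq E (by rw [e4.pairing_comm, h6]) e3, E.st.x_zero, E.st.x_zero, mul_one] at e1
  show y * b = b * y
  rw [← mul_inv_eq_one, ← e1]; group

theorem nn [Finite G] {r s : Rt D4} (h : 0 ≤ D4.pairing r s) {y b : G} (hy : y ∈ A r)
    (hb : b ∈ A s) : Commute y b := by
  rcases e4.pairing_cases r s with rfl | rfl | e | e | e
  · exact ab M hy hb
  · rw [negR_val, pairing_negR_right, pairing_self] at h; omega
  · omega
  · exact pol E M e hy hb
  · exact col M e hy hb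

theorem neg1 [Finite G] {r s v w : Rt D4} (hv : rt v = rt r + rt s) (h : 0 ≤ D4.pairing v w)
    (h' : 0 ≤ D4.pairing r w) {y b : G} (hy : y ∈ A r) (hb : b ∈ A s) (c : F) :
    Commute (x w c) (y * b * y⁻¹ * b⁻¹) := by
  have rs := e4.pairing_of_add hv
  have c1 : Commute (x w c) y := cx E (M.cp r hy) h' c
  by_cases h0 : 0 ≤ D4.pairing s w
  · have c2 : Commute (x w c) b := cx E (M.cp s hb) h0 c
    exact ((c1.mul_right c2).mul_right c1.inv_right).mul_right c2.inv_right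
  have hp := e4.pairing_add_left hv w
  have h1 : D4.pairing s w = -1 := by
    by_contra h3
    have := e4.eq_neg_of_pairing (r := s) (s := w) (by omega)
    subst this
    rw [negR_val, pairing_negR_right, e4.pairing_add_left hv, rs, pairing_self] at h
    omega
  obtain ⟨p, hp'⟩ := exists_add h1
  have hb' := M.neg s w p hp' b hb c
  set b' := b * x w c * b⁻¹ * (x w c)⁻¹ with eb
  have c2 := nn E M (r := r) (s := p) (by rw [pairing_add r hp']; omega) hy hb'
  show _ = _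
  calc x w c * (y * b * y⁻¹ * b⁻¹) = (x w c * y) * (x w c)⁻¹ * b'⁻¹ * b * (x w c * y⁻¹) * (x w c)⁻¹ *
        (b⁻¹ * b') * x w c := by rw [eb]; group
    _ = y * (b'⁻¹ * b) * (y⁻¹ * (b⁻¹ * b')) * x w c := by rw [c1.eq, c1.inv_right.eq]; group
    _ = _ := by
      have c3 := nn E M (r := s) (s := p) (by rw [pairing_add s hp', pairing_self]; omega) hb hb'
      rw [← c3.inv_right.eq, c3.inv_left.eq, ← mul_assoc y⁻¹, c2.inv_left.eq]; group

theorem neg2 [Finite G] {r s v : Rt D4} (hv : rt v = rt r + rt s) {y b : G} (hy : y ∈ A r)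
    (hb : b ∈ A s) : y * b * y⁻¹ * b⁻¹ ∈ A v := by
  have hv' := hv.trans (add_comm _ _)
  have rs := e4.pairing_of_add hv
  have vr : D4.pairing v r = 1 := by rw [e4.pairing_add_left hv, pairing_self, e4.pairing_comm, rs]; rfl
  have vs : D4.pairing v s = 1 := by rw [e4.pairing_add_left hv, pairing_self, rs]; rfl
  have k1 : y * b * y⁻¹ * b⁻¹ ∈ Cs (PL L x v) := by
    have m1 : y ∈ Cs (PL L x r ⊓ PL L x s) := mem_Cs.2 fun v hv => mem_Cs.1 (M.cp r hy) v hv.1
    have m2 : b ∈ Cs (PL L x r ⊓ PL L x s) := mem_Cs.2 fun v hv => mem_Cs.1 (M.cp s hb) v hv.2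
    refine mem_Cs.2 fun p hp => mem_Cz.1 ((E.p3 r s v hv).trans (sup_le (fun p hp => mem_Cz.2
      (mem_Cs.1 (mul_mem (mul_mem (mul_mem m1 m2) (inv_mem m1)) (inv_mem m2)) p hp).symm)
        (gen_le_iff.2 fun w hw c => mem_Cz.2 (Eq.symm ?_))) hp) |>.symm
    by_cases h0 : 0 ≤ D4.pairing r w
    · exact neg1 E M hv hw h0 hy hb c
    · have hp := e4.pairing_add_left hv w
      have hw' : 0 ≤ D4.pairing v w := hw
      have := (neg1 E M hv' hw (by omega) hb hy c).inv_right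
      rwa [show (b * y * b⁻¹ * y⁻¹)⁻¹ = y * b * y⁻¹ * b⁻¹ by group] at this
  obtain ⟨c, hc⟩ := tl E M hy
  obtain ⟨d, hd⟩ := tl E M hb
  have ha1 := M.neg r s v hv y hy d
  have ha2 := M.neg s r v hv' b hb c
  set a1 := y * x s d * y⁻¹ * (x s d)⁻¹ with e1
  set a2 := b * x r c * b⁻¹ * (x r c)⁻¹ with e2
  have xr := M.le r (x_mem_XR D4 x r c)
  have xs := M.le s (x_mem_XR D4 x s d)
  have f1 : y * x s d * y⁻¹ = a1 * x s d := by rw [e1]; group
  have f2 : b * x r c * b⁻¹ = a2 * x r c := by rw [e2]; group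
  have g : ∀ {a z : G}, Commute a z → z * a * z⁻¹ = a := fun h => by
    rw [← h.eq, mul_inv_cancel_right]
  have yx := g (show Commute (x r c) y from ab M xr hy)
  have bx := g (show Commute (x s d) b from ab M xs hb)
  have k2 : ∃ a ∈ A v, y * b * y⁻¹ * b⁻¹ * t * (y * b * y⁻¹ * b⁻¹)⁻¹ = t * a := by
    refine ⟨x v (c * d) * a1 * a2, mul_mem (mul_mem (M.le v (x_mem_XR D4 x v _)) ha1) ha2, ?_⟩
    have i1 := ai M hy
    have i2 := ai M hb
    have p1 : y * (t * x s d) * y⁻¹ = t * x r c * (a1 * x s d) := by rw [← hc.2, ← f1]; group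
    have p2 : b * (t * x r c * (a1 * x s d)) * b⁻¹ = t * x s d * (a2 * x r c) * (a1 * x s d) := by
      rw [← hd.2, ← f2]
      nth_rewrite 2 [← g (col M vs ha1 hb), ← bx]
      group
    have p3 : y * (t * x s d * (a2 * x r c) * (a1 * x s d)) * y⁻¹ =
        t * x r c * (a1 * x s d) * (a2 * x r c) * (a1 * (a1 * x s d)) := by
      calc _ = (y * t * y⁻¹) * (y * x s d * y⁻¹) * ((y * a2 * y⁻¹) * (y * x r c * y⁻¹)) *
            ((y * a1 * y⁻¹) * (y * x s d * y⁻¹)) := by group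
        _ = _ := by rw [hc.2, f1, g (col M vr ha2 hy), yx, g (col M vr ha1 hy)]
    calc _ = y * (b * (y⁻¹ * (b⁻¹ * t * b⁻¹⁻¹) * y⁻¹⁻¹) * b⁻¹) * y⁻¹ := by group
      _ = t * x r c * (a1 * x s d) * (a2 * x r c) * (a1 * (a1 * x s d)) := by
        rw [(tl_inv E hd).2, inv_inv, ← p3, ← p2, ← p1, i1]
      _ = t * (x r c * a1) * (x s d * a2) * x r c * x s d := by
        rw [← mul_assoc a1 a1, M.sq v a1 ha1]; group
      _ = t * (a1 * a2) * (x r c * x s d * (x r c)⁻¹ * (x s d)⁻¹) := by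
        rw [← (col M vr ha1 xr).eq, ← (col M vs ha2 xs).eq, x_inv E.st, x_inv E.st]
        calc _ = t * a1 * (x r c * a2) * x s d * x r c * x s d := by group
          _ = _ := by rw [← (col M vr ha2 xr).eq]; group
      _ = _ := by
        rw [e4.commutator_add E.st hv, mul_assoc t,
          ab M (mul_mem ha1 ha2) (M.le v (x_mem_XR D4 x v _)), mul_assoc (x v (c * d))]
  obtain ⟨a, ha, k2⟩ := k2
  have k3 : t * a = a * t := by
    have : t * a * (t * a) = 1 := by
      rw [← k2]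
      calc _ = y * b * y⁻¹ * b⁻¹ * (t * t) * (y * b * y⁻¹ * b⁻¹)⁻¹ := by group
        _ = 1 := by rw [E.tt]; group
    rw [← inv_eq_of_mul_eq_one_right this, mul_inv_rev, ai M ha, ti E]
  rcases M.intr v _ k1 (by
    rw [k2, k3, mul_inv_cancel_right]; exact M.fix v a ha (mem_Cz.2 k3)) with h | h
  · exact h
  · set a' := y * b * y⁻¹ * b⁻¹ * t with ea
    obtain ⟨c', hc'⟩ := tl E M h
    have q1 : y * (a' * t) * y⁻¹ = (a' * t)⁻¹ := by
      rw [ea, mul_assoc _ t t, E.tt, mul_one, ai M hy, ai M hb]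
      simp only [mul_inv_rev, ai M hy, ai M hb, ← mul_assoc, M.sq r y hy, one_mul]
    have q2 : x r c = x v c' := by
      rw [show y * (a' * t) * y⁻¹ = (y * a' * y⁻¹) * (y * t * y⁻¹) by group, g (col M vr h hy),
        hc.2, mul_inv_rev, ti E, ai M h] at q1
      have q3 := hc'.2
      rw [mul_inv_eq_iff_eq_mul] at q3
      rw [← mul_assoc, q3, mul_assoc, mul_assoc, mul_right_inj, (col M vr h xr).eq, ← mul_assoc,
        mul_eq_right] at q1
      rw [← x_inv E.st v]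
      exact eq_inv_of_mul_eq_one_right q1
    have q4 := hc.2
    rw [zero_of_eq E (by rw [e4.pairing_comm, vr]) q2, E.st.x_zero, mul_one,
      mul_inv_eq_iff_eq_mul] at q4
    obtain ⟨c'', rfl⟩ := E.st.mem_XR.1 (M.fix r y hy (mem_Cz.2 q4.symm))
    have := inv_mem (M.neg s r v hv' b hb c'')
    rwa [show (b * x r c'' * b⁻¹ * (x r c'')⁻¹)⁻¹ = x r c'' * b * (x r c'')⁻¹ * b⁻¹ by group] at this

theorem fam2 [Finite G] : Fam2 L x t A :=
  ⟨M, fun _ _ h _ ha => mem_Cs.2 fun _ hb => (pol E M h ha hb).symm.eq,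
    fun _ _ _ h _ ha _ hb => neg2 E M h ha hb⟩

end

theorem jobP3a : H78.TE.JobP3a.{u} := fun _ _ _ _ _ _ _ _ _ _ E _ M => fam2 E M

end H72.P3a
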