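/- Job UB of `blueprints/STDE.md`: automorphisms of `²E₆(q)` that normalise `U`. -/
import Cfsg.Agent.H78.TEDef
import Cfsg.Agent.H37.SgD

set_option autoImplicit false
set_option maxRecDepth 100000
set_option linter.unusedSectionVars false

namespace H72.UB

open Cfsg.Lie H63 H65 H64 H64.SG H78.TE H37.Sg Subgroup
open scoped commutatorElement

theorem mem_of_syl {G : Type*} [Group G] [Finite G] {U : Subgroup G} (h : Syl U ⊤) {g : G}
    (h1 : g ∈ Ns U) (h2 : Is2 g) : g ∈ U := by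
  have := h2.zpowers.inf_normalizer_sylow (h.2.1.toSylow (by
    simpa [relIndex_top_right, ← even_iff_two_dvd] using h.2.2))
  exact (this.le ⟨mem_zpowers g, h1⟩).2

theorem card_sol {K : Type} [Field K] [Finite K] {q : ℕ} (hq : Nat.card K = q ^ 2) {τ : RingAut K}
    (h : τ ≠ 1) (c : K) : Nat.card {u : K // c * τ u = u} ≤ q := by
  let L : Subfield K := τ.toRingHom.eqLocusField (RingHom.id K)
  have h1 : Nat.card L ≤ q := by
    have e := Module.natCard_eq_pow_finrank (K := L) (V := K)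
    have : 2 ≤ Module.finrank L K := by
      by_contra c
      refine h (RingEquiv.ext fun a => ?_)
      have : L.toAddSubgroup = ⊤ := AddSubgroup.eq_top_of_le_card _ (e.le.trans (by
        simpa using Nat.pow_le_pow_right (n := Nat.card L) Nat.card_pos
          (by omega : Module.finrank L K ≤ 1)))
      exact (this.ge trivial : a ∈ L.toAddSubgroup)
    exact (Nat.pow_le_pow_iff_left two_ne_zero).1
      (hq ▸ e ▸ Nat.pow_le_pow_right Nat.card_pos this)
  refine le_trans ?_ h1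
  by_cases z : ∃ v, v ≠ 0 ∧ c * τ v = v
  · obtain ⟨v, v0, hv⟩ := z
    have c0 : c ≠ 0 := fun e => v0 (by rw [← hv, e, zero_mul])
    refine Nat.card_le_card_of_injective (fun u => ⟨u.1 / v, ?_⟩) fun a b e =>
      Subtype.ext ((div_left_inj' v0).1 (congrArg Subtype.val e))
    change τ _ = _
    rw [map_div₀, ← mul_div_mul_left _ _ c0, u.2, hv]; rfl
  · push Not at z
    refine Nat.card_le_card_of_injective (fun _ => 0) fun a b _ => Subtype.ext ?_
    rw [not_not.1 fun e => z a e a.2, not_not.1 fun e => z b e b.2]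

/-- the graph symmetry as a permutation -/
def ρ : Equiv.Perm (Rt E6) := ⟨gm, gm, gm_gm, gm_gm⟩

theorem rho : Rho ρ :=
  ⟨gm_gm, fun r => by rw [← hN_eq, ← hN_eq]; exact hN_gm r,
    fun r s => by rw [← ip_eq, ← ip_eq]; exact ip_gm r s,
    fun r => by rw [← ip_eq]; exact ip_gm_self r⟩

theorem cl_Sk (k : ℕ) : Cl (Sk ρ k) :=
  ⟨⟨fun _ h => pos_iff.1 h.1, fun r hr s hs e =>
    have a : rt (su r s) = (1 : ℤ) • rt r + (1 : ℤ) • rt s := by simpa using su_add e
    ⟨pos_of_comb hr.1 hs.1 le_rfl le_rfl a, hr.2.trans (ky_lt ρ hr.1 hs.1 le_rfl le_rfl a).le⟩⟩,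
    fun r hr => ⟨pos_gm.2 hr.1, (rho.ky_rho r).symm ▸ hr.2⟩⟩

variable {F K : Type} [Field F] [Finite F] [CharP F 2] [Field K] [Finite K] [CharP K 2] {T : Qd F K}

theorem short_zero (kb : T.KB) {r : Rt E6} (hr : Pos r) (hs : gm r ≠ r) {u : K}
    (h : T.xs r u ∈ T.gt (Sk ρ (ky ρ r + 1))) : u = 0 := by
  classical
  rw [kb.gtY _ (cl_Sk _), T.xs_val] at h
  refine (stY K).eq_zero_of_x_eq_one r ?_
  simpa using eq_one_of_prod_mem (stY K).rgd (commUp_of_comb (stY K).toSt (S := Sk ρ (ky ρ r + 1))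
    (fun _ h => h.1) fun a ha b hb c i j hi hj e =>
      ⟨pos_of_comb ha.1 hb.1 hi hj e, ha.2.trans (ky_lt ρ ha.1 hb.1 hi hj e).le⟩) (fun _ h => h.1)
    (L := [r, gm r]) (y := fun a => xG E6 K a (if a = r then u else T.σ u))
    (by simpa using hs.symm) (by simpa [pos_gm]) (fun a => x_mem_XR E6 _ a _)
    (by simpa [hs] using h) (r := r) (by simp) fun h => Nat.not_succ_le_self _ h.2

theorem split (kb : T.KB) {r : Rt E6} (hr : Pos r) {v : T.X} (hv : v ∈ T.gt (Sk ρ (ky ρ r))) :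
    ∃ u, ∃ w ∈ T.gt (Sk ρ (ky ρ r + 1)), v = T.xs r u * w := by
  classical
  obtain ⟨u, e⟩ := kb.prod _ (cl_Sk _)
    (r :: (Finset.univ.filter (· ∈ Sk ρ (ky ρ r + 1))).toList)
    (List.nodup_cons.2 ⟨by simp [Sk], Finset.nodup_toList _⟩)
    (by simp only [List.forall_mem_cons, Finset.mem_toList, Finset.mem_filter]
        exact ⟨⟨hr, le_rfl⟩, fun a ha => ⟨ha.2.1, Nat.le_of_succ_le ha.2.2⟩⟩)
    (fun a ha => by
      rcases ha.2.eq_or_lt with e | e
      · rcases rho.ky_eq e.symm with rfl | rfl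
        · simp
        · exact .inr (by simp [ρ])
      · exact .inl (List.mem_cons_of_mem _ (by simpa using ⟨ha.1, e⟩))) v hv
  refine ⟨u r, _, Subgroup.list_prod_mem _ fun y hy => ?_, e⟩
  obtain ⟨a, ha, rfl⟩ := List.mem_map.1 hy
  exact T.xs_mem (by simpa using ha) _

theorem sd_mem (br : T.BR) {δ : MulAut T.X} {d : Fin E6.rank → Kˣ} {τ : RingAut K} (h : T.Sd δ d τ)
    {S : Set (Rt E6)} {v : T.X} (hv : v ∈ T.gt S) : δ v ∈ T.gt S :=
  (T.gt_le (A := (T.gt S).comap δ.toMonoidHom)).2 (fun r hr u => by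
    change δ _ ∈ T.gt S
    rw [br.act δ d τ h]; exact T.xs_mem hr _) hv

theorem comm_mem (kb : T.KB) (k : ℕ) {g v : T.X} (hg : g ∈ T.U) (hv : v ∈ T.gt (Sk ρ k)) :
    ⁅g, v⁆ ∈ T.gt (Sk ρ (k + 1)) := by
  rw [kb.gtY _ (cl_Sk _)] at hv ⊢
  rw [kb.gtY _ (by decide +kernel), gY_SU] at hg
  exact comm_Sk (stY K).toSt k hg hv

theorem layer (kb : T.KB) (br : T.BR) {β : MulAut T.X} {g : T.X} (hg : g ∈ T.U)
    {d : Fin E6.rank → Kˣ} {τ : RingAut K} (h : T.Sd (MulAut.conj g * β) d τ) (h1 : τ ≠ 1)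
    {r : Rt E6} (hr : Pos r) : Nat.card ↥(T.gt (Sk ρ (ky ρ r)) ⊓ fx β) ≤
      Nat.card ↥(T.gt (Sk ρ (ky ρ r + 1)) ⊓ fx β) * Nat.card F := by
  have hle : T.gt (Sk ρ (ky ρ r + 1)) ≤ T.gt (Sk ρ (ky ρ r)) :=
    T.gt_mono fun a ha => ⟨ha.1, Nat.le_of_succ_le ha.2⟩
  have e : T.gt (Sk ρ (ky ρ r)) ⊓ fx β ⊓ T.gt (Sk ρ (ky ρ r + 1)) =
      T.gt (Sk ρ (ky ρ r + 1)) ⊓ fx β := by rw [inf_right_comm, inf_eq_right.2 hle]
  choose u w hw hv using fun v : ↥(T.gt (Sk ρ (ky ρ r)) ⊓ fx β) => split kb hr v.2.1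
  have key : ∀ a b, T.xs r (u a) = T.xs r (u b) → (a : T.X)⁻¹ * b ∈ T.gt (Sk ρ (ky ρ r + 1)) :=
    fun a b c => by
      rw [hv a, hv b, c, mul_inv_rev, mul_assoc, inv_mul_cancel_left]
      exact mul_mem (inv_mem (hw a)) (hw b)
  rw [← e]
  by_cases hs : gm r = r
  · obtain ⟨s, rfl⟩ := exists_lr r hs
    choose c hc using fun a => T.exists_tr (u a)
    exact card_le_mul c fun a b e => key a b (by rw [T.xs_lr s (hc a), T.xs_lr s (hc b), e])
  · have sol : ∀ a, (chr E6 d r : K) * τ (u a) = u a := fun a => by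
      have m : T.xs r (u a) ∈ T.gt (Sk ρ (ky ρ r)) := T.xs_mem (And.intro hr le_rfl) _
      have mU : T.xs r (u a) ∈ T.U := T.xs_mem (pos_iff.1 hr) _
      have e1 : (MulAut.conj g * β) a = g * a * g⁻¹ := by
        rw [MulAut.mul_apply, mem_fx.1 a.2.2, MulAut.conj_apply]
      have e2 : T.xs r (chr E6 d r * τ (u a)) * (MulAut.conj g * β) (w a) = g * a * g⁻¹ := by
        rw [← br.act _ d τ h, ← map_mul, ← hv, e1]
      have c1 := comm_mem kb _ hg a.2.1
      have c3 := comm_mem kb _ (inv_mem mU) (hle c1)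
      refine CharTwo.add_eq_zero.1 (short_zero kb hr hs ?_) |>.symm
      rw [← T.xs_add, eq_mul_inv_of_mul_eq e2]
      have := mul_mem (mul_mem (mul_mem c3 c1) (hw a)) (inv_mem (sd_mem br h (hw a)))
      convert this using 1
      nth_rewrite 1 [← T.xs_inv r (u a)]
      simp only [commutatorElement_def]
      rw [eq_inv_mul_of_mul_eq (hv a).symm]
      group
    exact (card_le_mul (S := {u : K // (chr E6 d r : K) * τ u = u}) (fun a => ⟨u a, sol a⟩)
      fun a b e => key a b (by rw [show u a = u b from congrArg Subtype.val e])).trans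
      (Nat.mul_le_mul_left _ (card_sol T.card h1 _))

theorem card_fx (kb : T.KB) {A : Subgroup T.X}
    (h : ∀ r, Pos r → Nat.card ↥(T.gt (Sk ρ (ky ρ r)) ⊓ A) ≤
      Nat.card ↥(T.gt (Sk ρ (ky ρ r + 1)) ⊓ A) * Nat.card F) :
    Nat.card ↥(T.U ⊓ A) ≤ Nat.card F ^ 24 := by
  classical
  let O : Finset (Rt E6) := Finset.univ.filter fun r => 36 ≤ r.1 ∧ r.1 ≤ (gm r).1
  have key : ∀ k, Nat.card ↥(T.U ⊓ A) ≤
      Nat.card ↥(T.gt (Sk ρ k) ⊓ A) * Nat.card F ^ (O.filter (ky ρ · < k)).card := fun k => by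
    induction k with
    | zero =>
      exact (card_le_of_le (inf_le_inf_right _ (T.gt_mono fun r hr =>
        And.intro (pos_iff.2 hr) (Nat.zero_le _)))).trans (Nat.le_mul_of_pos_right _ (pow_pos Nat.card_pos _))
    | succ k ih =>
      have sub : O.filter (ky ρ · < k) ⊆ O.filter (ky ρ · < k + 1) :=
        Finset.monotone_filter_right _ fun _ _ => Nat.lt_succ_of_lt
      by_cases hk : ∃ r ∈ O, ky ρ r = k
      · obtain ⟨r, hr, rfl⟩ := hk
        refine ih.trans ((Nat.mul_le_mul_right _ (h r (pos_iff.2 (Finset.mem_filter.1 hr).2.1))).trans ?_)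
        rw [mul_assoc, ← pow_succ']
        exact Nat.mul_le_mul_left _ (Nat.pow_le_pow_right Nat.card_pos (Finset.card_lt_card
          ⟨sub, fun c => lt_irrefl _ (Finset.mem_filter.1 (c (Finset.mem_filter.2
            ⟨hr, Nat.lt_succ_self _⟩))).2⟩))
      · refine ih.trans (Nat.mul_le_mul (card_le_of_le (inf_le_inf_right _ (T.gt_mono fun r hr =>
          And.intro hr.1 (hr.2.lt_of_ne fun e => hk ?_)))) (Nat.pow_le_pow_right Nat.card_pos
            (Finset.card_le_card sub)))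
        rcases le_total r.1 (gm r).1 with c | c
        · exact ⟨r, Finset.mem_filter.2 ⟨Finset.mem_univ _, pos_iff.1 hr.1, c⟩, e.symm⟩
        · exact ⟨gm r, Finset.mem_filter.2 ⟨Finset.mem_univ _, pos_iff.1 (pos_gm.2 hr.1), by
            rwa [gm_gm]⟩, (rho.ky_rho r).trans e.symm⟩
  refine (key (Finset.univ.sup (ky ρ) + 1)).trans ?_
  have : T.gt (Sk ρ (Finset.univ.sup (ky ρ) + 1)) = ⊥ := eq_bot_iff.2 (T.gt_le.2 fun r hr =>
    (Nat.not_succ_le_self _ (hr.2.trans (Finset.le_sup (Finset.mem_univ r)))).elim)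
  rw [this, bot_inf_eq, card_bot, one_mul]
  exact Nat.pow_le_pow_right Nat.card_pos ((Finset.card_filter_le _ _).trans
    (le_of_eq (by decide +kernel)))

theorem jobUB : JobUB := by
  intro F K _ _ _ _ _ _ T kb tb tc br ui
  refine ⟨fun β hβ S hS hS' => ?_, fun β hβ h2 hR => ?_⟩
  · obtain ⟨g, hg, d, τ, h⟩ := tc.exU β hβ
    have hn : T.U ≤ Ns (T.gt S) := T.gt_le.2 fun r hr u => kb.nrm S hS r (fun s hs => ⟨fun e =>
      (by decide +kernel : ∀ r : Rt E6, 36 ≤ r.1 → ¬ 36 ≤ (ng r).1) r hr (e ▸ hS.1.1 s hs), fun e => su_comm s r ▸ hS' s hs r hr (ip_comm r s ▸ e)⟩) u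
    refine eq_of_le_of_card_ge ?_ (card_map_of_injective β.injective).ge
    rintro _ ⟨v, hv, rfl⟩
    exact (mem_normalizer_iff.1 (hn hg) _).2 (sd_mem br h hv)
  · obtain ⟨g, hg, d, τ, h⟩ := tc.exU β hβ
    obtain ⟨fl, f1, f2⟩ := br.fl
    by_cases h1 : τ = 1
    · obtain ⟨a, rfl⟩ := f2 β ((f1 β g d τ h).trans h1) h2
      rw [fx_conj]
      refine ui a (mem_of_syl tb.syl (mem_normalizer_iff_map_conj_eq.2 hβ) ?_) fun c => hR a c rfl
      obtain ⟨k, hk⟩ := h2
      exact ⟨k, tb.cen _ (by rw [map_pow, hk])⟩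
    · refine (Nat.mul_le_mul_left _ (card_fx kb fun r hr => layer kb br hg h h1 hr)).trans ?_
      rw [kb.card SU (by decide +kernel), ← pow_add]
      exact Nat.pow_le_pow_right Nat.card_pos (le_of_eq (by decide +kernel))

end H72.UB
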