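import Cfsg.Agent.H26.DP0ASpec
import Cfsg.Agent.H51.Elem
import Cfsg.Agent.H59.DpcA
import Cfsg.Agent.H96.Off

/-! The uniqueness subgroup built from the signalizer closure of a `3³`. -/

set_option autoImplicit false

namespace H72.DpUA

open Subgroup Cfsg H98 H48.DP H57.DPC H48.DP2 H26.DA

universe u

variable {G : Type u} [Group G] [Finite G]

omit [Finite G] in
theorem e27_cj {B : Subgroup G} (h : E27 B) (g : G) : E27 (cj g B) :=
  ⟨H96.ea_cj h.1 g, by rw [card_cj]; exact h.2⟩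

omit [Finite G] in
theorem ea_le {A B : Subgroup G} (h : IsElementaryAbelian 3 B) (l : A ≤ B) :
    IsElementaryAbelian 3 A :=
  ⟨⟨⟨fun x y => Subtype.ext (congrArg (Subtype.val : B → G) (h.1.1.1 ⟨x, l x.2⟩ ⟨y, l y.2⟩))⟩⟩,
    fun a ha => h.2 a (l ha)⟩

omit [Finite G] in
theorem ord3 {B : Subgroup G} (h : IsElementaryAbelian 3 B) {a : G} (ha : a ∈ B) (a1 : a ≠ 1) :
    orderOf a = 3 :=
  orderOf_eq_prime (hp := ⟨Nat.prime_three⟩) (h.2 a ha) a1

omit [Finite G] in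
theorem card9 {B : Subgroup G} (h : IsElementaryAbelian 3 B) {a b : G} (ha : a ∈ B) (a1 : a ≠ 1)
    (hb : b ∈ B) (hn : b ∉ zpowers a) : Nat.card ↥(zpowers a ⊔ zpowers b) = 9 := by
  rw [H51.elem_card_sup Nat.prime_three h (zpowers_le.2 ha) hb hn, Nat.card_zpowers, ord3 h ha a1]

/-- A `3²` in `B` missing `a`. -/
theorem exists_nine {B : Subgroup G} (h : E27 B) {a : G} (ha : a ∈ B) (a1 : a ≠ 1) :
    ∃ A : Subgroup G, A ≤ B ∧ 9 ≤ Nat.card A ∧ ∀ b ∈ A, b ≠ 1 → b ∉ zpowers a := by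
  have ex : ∀ N : Subgroup G, Nat.card N ≤ 9 → ∃ b ∈ B, b ∉ N := fun N hN => by
    by_contra hn
    have : B ≤ N := fun b hb => by_contra fun e => hn ⟨b, hb, e⟩
    have := card_le_of_le this
    have := h.2
    omega
  obtain ⟨b, hb, hba⟩ := ex (zpowers a) (by rw [Nat.card_zpowers, ord3 h.1 ha a1]; decide)
  have c1 := card9 h.1 ha a1 hb hba
  obtain ⟨c, hc, hcb⟩ := ex _ c1.le
  have b1 : b ≠ 1 := fun e => hba (e ▸ one_mem _)
  have c2 := card9 h.1 hb b1 hc fun e => hcb (mem_sup_right e)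
  refine ⟨zpowers b ⊔ zpowers c, sup_le (zpowers_le.2 hb) (zpowers_le.2 hc), c2.ge,
    fun x hx x1 hxa => hcb ?_⟩
  have e : zpowers x = zpowers a := eq_of_le_of_card_ge (zpowers_le.2 hxa) (by
    rw [Nat.card_zpowers, Nat.card_zpowers, ord3 h.1 ha a1,
      ord3 h.1 (zpowers_le.2 ha hxa) x1])
  have l : zpowers a ⊔ zpowers b ≤ zpowers b ⊔ zpowers c :=
    sup_le (e ▸ zpowers_le.2 hx) le_sup_left
  rw [eq_of_le_of_card_ge l (by rw [c1, c2])]
  exact mem_sup_right (mem_zpowers c)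

omit [Finite G] in
theorem le_no_c1 {H : Subgroup G} {a : G} (h : H ≤ C1 a) : H ≤ No (C1 a) := h.trans le_normalizer

theorem jobUA : H26.DA.JobUA.{u} := by
  intro k2 qg qu G _ _ h2 h1 N B x top hx x1 hO
  have : Fact (Nat.Prime 3) := ⟨Nat.prime_three⟩
  have q := qg G h2.toHyp
  have hB : E27 B := ⟨top.el, top.cube.trans top.big⟩
  have p3 : ∀ {A : Subgroup G}, IsElementaryAbelian 3 A → IsPGroup 3 A := fun h =>
    H87.KM.pgrp Nat.prime_three h
  have inc : ∀ a ∈ B, a ≠ 1 → O2 (C1 a) ≤ QA B := fun a ha a1 => q.cen B hB a ha a1 ▸ inf_le_left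
  have Q0 : QA B ≠ ⊥ := fun e => hO (le_bot_iff.1 (e ▸ inc x hx x1))
  have Q2 := q.two B hB
  obtain ⟨P, hP, BP⟩ := exists_isSyl_le (H := ⊤) (p3 hB.1) le_top
  obtain ⟨U, -, PU, U9, hU⟩ := qu G P B hP.isPGroup BP hB
  have eU : ∀ B' : Subgroup G, B' ≤ P → E27 B' → QA B' = QA U := fun B' l e => by
    obtain ⟨A, B'', a1, a9, -, e'', a2, u2⟩ := hU B' l e
    rw [← q.eq A B' e a1 a9, q.eq A B'' e'' a2 a9, q.eq U B'' e'' u2 U9]
  have PM : P ≤ No (QA B) := fun g hg => cj_eq_self_iff.1 (by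
    rw [eU B BP hB, q.cj, cj_eq_self (PU hg)])
  have hPM : IsSyl 3 P (No (QA B)) := hP.of_le PM le_top
  have QM : ∀ B' : Subgroup G, B' ≤ No (QA B) → E27 B' → QA B' = QA B := fun B' l e => by
    obtain ⟨m, hm, hl⟩ := hPM.exists_cj_le (p3 e.1) l
    have := eU _ hl (e27_cj e m)
    rw [← eU B BP hB, ← q.cj] at this
    rw [← cj_inv_cj m (QA B'), this, cj_eq_self (inv_mem hm)]
  have n9 : ∀ A : Subgroup G, InU (No (QA B)) A → 9 ≤ Nat.card A → No A ≤ No (QA B) := by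
    rintro A ⟨B', l, e, a⟩ a9 g hg
    refine cj_eq_self_iff.1 ?_
    rw [← QM B' l e, ← q.eq A B' e a a9, q.cj, cj_eq_self hg]
  have BM : B ≤ No (QA B) := BP.trans PM
  have comm : ∀ a ∈ B, B ≤ C1 a := fun a ha b hb =>
    mem_centralizer_singleton_iff.2 (congrArg Subtype.val (hB.1.1.1.1 ⟨b, hb⟩ ⟨a, ha⟩))
  have o2 : O2 (No (QA B)) = QA B := by
    refine le_antisymm ?_ (le_pCoreOf Q2 le_normalizer le_rfl)
    have T2 : IsPGroup 2 (O2 (No (QA B))) := isPGroup_pCoreOf _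
    have := hB.1.1
    refine H1.le_of_noncyclic_centralizer_le (H59.DpcA.not_cyc hB.1 (by have := hB.2; omega))
      (le_normalizer_pCoreOf_of_le BM)
      (H87.KM.coprime_two Nat.prime_three (by norm_num) (p3 hB.1) T2) _ fun a ha a1 => ?_
    obtain ⟨A, AB, A9, hA⟩ := exists_nine hB ha a1
    have eA := ea_le hB.1 AB
    have := eA.1
    refine H1.le_of_noncyclic_centralizer_le (H59.DpcA.not_cyc eA A9)
      (le_normalizer_inf (le_normalizer_pCoreOf_of_le (AB.trans BM))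
        (le_no_c1 (AB.trans (comm a ha))))
      (H87.KM.coprime_two Nat.prime_three (by norm_num) (p3 eA) (T2.to_le inf_le_left)) _
      fun b hb b1 => le_trans ?_ (inc a ha a1)
    have hne : C1 a ≠ ⊤ := fun e => by
      have := h2.simple
      have hc : a ∈ center G := mem_center_iff.2 fun g =>
        mem_centralizer_singleton_iff.1 (e ▸ mem_top g : g ∈ C1 a)
      rcases (inferInstance : (center G).Normal).eq_bot_or_eq_top with z | z
      · exact a1 (mem_bot.1 (z ▸ hc))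
      · exact h2.nc ⟨⟨fun y w => (mem_center_iff.1 (z ▸ mem_top w : w ∈ center G) y)⟩⟩
    have hM : C1 a ⊓ C1 b ≤ No (QA B) := by
      refine le_trans ?_ (n9 (zpowers a ⊔ zpowers b)
        ⟨B, BM, hB, sup_le (zpowers_le.2 ha) (zpowers_le.2 (AB hb))⟩
        (card9 hB.1 ha a1 (AB hb) (hA b hb b1)).ge)
      refine le_trans ?_ (centralizer_le_normalizer _)
      refine le_centralizer_iff.1 (sup_le (zpowers_le.2 ?_) (zpowers_le.2 ?_))
      · exact fun g hg => mem_centralizer_singleton_iff.1 hg.1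
      · exact fun g hg => mem_centralizer_singleton_iff.1 hg.2
    exact k2 G h2.toHyp (C1 a) _ b hne (comm a ha (AB hb)) (ord3 hB.1 (AB hb) b1)
      (T2.to_le (inf_le_left.trans inf_le_left))
      (le_inf (inf_le_left.trans inf_le_right) inf_le_right)
      (le_normalizer_inf (le_normalizer_inf (le_normalizer_pCoreOf_of_le hM) (le_no_c1 inf_le_left))
        (le_no_c1 inf_le_right))
  refine ⟨No (QA B), QA B, h2, h1, rfl, o2, Q0, ?_, ⟨B, BM, hB⟩, fun B' g e l l' => ?_, n9, ?_⟩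
  · have ch : CharP 2 (No (QA B)) := charP_iff.2 (h2.char.2 _ Q2 Q0)
    have := ch.le_pCoreOf (centralizer_le_normalizer _) (by
      change _ ≤ Ce (O2 (No (QA B)))
      rw [o2])
    exact this.trans o2.le
  · refine cj_eq_self_iff.1 ?_
    conv_lhs => rw [← QM B' l e]
    rw [q.cj, QM _ l' (e27_cj e g)]
  · rintro y y3 ⟨B', l, e, a⟩
    rw [← QM B' l e, q.cen B' e y (zpowers_le.1 a) fun e => by simp [e] at y3]

end H72.DpUA
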