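/- character kit for Dade's extension theorem (S4759) -/
import Cfsg.Agent.H46.Coprime
import Cfsg.Agent.H28.CharCenter
import Cfsg.Agent.H28.CharProd
import Cfsg.Agent.H28.Degree
import Cfsg.Agent.H28.GenChar
import Cfsg.Agent.H33.IndTools
import Cfsg.Agent.S0886

open Cfsg hiding pRank
open Subgroup

namespace H72.Dade
open H46 H28

universe u
variable {G : Type u} [Group G] {L M E S : Subgroup G} {χ : G → ℂ} {z : G}

/-- `χ` is a character on the subgroup `L` -/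
def Ch (L : Subgroup G) (χ : G → ℂ) : Prop := IsCharacter L (fun x => χ x)

theorem Ch.comp {H : Type*} [Group H] (h : Ch L χ) (f : H →* G) (hf : ∀ x, f x ∈ L) :
    IsCharacter H (fun x => χ (f x)) :=
  H28.Cfsg.IsCharacter.comp h (f.codRestrict L hf)

theorem Ch.mono (h : Ch L χ) (hM : M ≤ L) : Ch M χ := h.comp M.subtype (fun x => hM x.2)

theorem ext_coe (η : L → ℂ) (x : L) : extendByZero L η x = η x :=
  Subtype.val_injective.extend_apply _ _ x

theorem ch_ext {η : L → ℂ} (h : IsCharacter L η) : Ch L (extendByZero L η) := by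
  unfold Ch
  rwa [show (fun x : L => extendByZero L η x) = η from funext (ext_coe η)]

theorem exists_ch {η : L → ℂ} (h : IsCharacter L η) : ∃ χ, Ch L χ ∧ ∀ x : L, χ x = η x :=
  ⟨_, ch_ext h, ext_coe η⟩

theorem Ch.conj (h : Ch L χ) {g x : G} (hg : g ∈ L) (hx : x ∈ L) : χ (g * x * g⁻¹) = χ x :=
  H28.Cfsg.IsCharacter.isClassFunction h ⟨x, hx⟩ ⟨g, hg⟩

theorem Ch.mul_z [Finite G] (h : Ch L χ) {n : ℕ} (hn : 0 < n) (h1 : χ 1 = n) (hz : χ z = -n)
    (hzL : z ∈ L) {x : G} (hx : x ∈ L) : χ (z * x) = -χ x := by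
  have hn' : (n : ℂ) ≠ 0 := by exact_mod_cast hn.ne'
  have hc : (⟨z, hzL⟩ : L) ∈ charCenter (fun x : L => χ x) := by
    rw [H28.Cfsg.IsCharacter.mem_charCenter h]
    simp [h1, hz]
  have := apply_mul_of_mem_charCenter (χ := fun x : L => χ x) (by simpa [h1] using hn.ne') hc ⟨x, hx⟩
  simp only [coe_mul, OneMemClass.coe_one, h1, hz] at this
  rw [this]; field_simp

/-- commutators in `E` lie in `{1, z}` -/
def Cm (E : Subgroup G) (z : G) : Prop := ∀ x ∈ E, ∀ y ∈ E, y * x * y⁻¹ = x ∨ y * x * y⁻¹ = z * x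

theorem Cm.mono (h : Cm E z) (hM : M ≤ E) : Cm M z := fun x hx y hy => h x (hM hx) y (hM hy)

theorem Ch.vanish [Finite G] (h : Ch E χ) {n : ℕ} (hn : 0 < n) (h1 : χ 1 = n) (hz : χ z = -n)
    (hzE : z ∈ E) (hc : Cm E z) {x : G} (hx : x ∈ E) (hxc : x ∉ Cent E) : χ x = 0 := by
  rw [mem_cent] at hxc
  push Not at hxc
  obtain ⟨y, hy, hne⟩ := hxc
  rcases hc x hx y hy with e | e
  · exact absurd (by rw [← mul_inv_eq_iff_eq_mul.1 e.symm.symm |>.symm]) hne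
  · have h2 := h.conj hy hx
    rw [e, h.mul_z hn h1 hz hzE hx] at h2
    linear_combination (-1 / 2 : ℂ) * h2

theorem mem_zp (hz : z * z = 1) {x : G} : x ∈ zpowers z ↔ x = 1 ∨ x = z := by
  constructor
  · rintro ⟨k, rfl⟩
    have h2 : z ^ (2 : ℤ) = 1 := by rw [zpow_two, hz]
    rcases Int.even_or_odd' k with ⟨m, rfl | rfl⟩
    · left; simp only [zpow_mul, h2, one_zpow]
    · right; simp only [zpow_add, zpow_mul, h2, one_zpow, one_mul, zpow_one]
  · rintro (rfl | rfl)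
    · exact one_mem _
    · exact mem_zpowers _

theorem card_zp (hz : z * z = 1) (h1 : z ≠ 1) : Nat.card (zpowers z) = 2 := by
  rw [Nat.card_zpowers]
  exact orderOf_eq_prime (by rw [pow_two, hz]) h1

theorem Ch.irr [Finite G] (h : Ch E χ) {n : ℕ} (hn : 0 < n) (h1 : χ 1 = n) (hz : χ z = -n)
    (hzE : z ∈ E) (hz2 : z * z = 1) (hc : Cm E z) (hZ : E ⊓ Cent E ≤ zpowers z)
    (hb : 2 * n ^ 2 ≤ Nat.card E) : IsIrrCharacter E (fun x => χ x) := by
  classical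
  have := Fintype.ofFinite E
  have hz1 : z ≠ 1 := by
    rintro rfl
    rw [h1] at hz
    have : (n : ℂ) = 0 := by linear_combination (1 / 2 : ℂ) * hz
    exact hn.ne' (by exact_mod_cast this)
  obtain ⟨m, hm⟩ := H28.Cfsg.IsCharacter.classInner_nat h h
  have hs : ∑ g : E, χ g * (starRingEnd ℂ) (χ g) = 2 * (n : ℂ) ^ 2 := by
    rw [← Finset.sum_subset (Finset.subset_univ ({1, ⟨z, hzE⟩} : Finset E))]
    · rw [Finset.sum_pair (fun e => hz1 (congrArg Subtype.val e).symm)]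
      simp [h1, hz]; ring
    · intro x _ hx
      have : χ x = 0 := by
        refine h.vanish hn h1 hz hzE hc x.2 fun hxc => hx ?_
        rcases (mem_zp hz2).1 (hZ ⟨x.2, hxc⟩) with e | e
        · simp [show x = 1 from Subtype.ext e]
        · simp [show x = ⟨z, hzE⟩ from Subtype.ext e]
      simp [this]
  have hE : (Nat.card E : ℂ) ≠ 0 := by exact_mod_cast Nat.card_pos.ne'
  have e1 : (m : ℂ) * Nat.card E = 2 * (n : ℂ) ^ 2 := by
    rw [← hm, classInner, hs]; field_simp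
  have e2 : m * Nat.card E = 2 * n ^ 2 := by exact_mod_cast e1
  have hm1 : m = 1 := by
    have hp : 0 < n ^ 2 := by positivity
    rcases m with _ | _ | m
    · omega
    · rfl
    · nlinarith
  exact H28.Cfsg.IsCharacter.irr_of_norm_one h (by rw [hm, hm1, Nat.cast_one])

theorem Ch.irr_of_le [Finite G] (h : Ch L χ) (hE : E ≤ L) (hi : IsIrrCharacter E (fun x => χ x)) :
    IsIrrCharacter L (fun x => χ x) :=
  H28.Cfsg.IsCharacter.irr_of_comp h (inclusion hE) hi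

theorem Ch.induce [Finite G] (h : Ch M χ) (hM : M ≤ L) (hz : z ∈ M) (hzc : z ∈ Cent L) :
    ∃ χ' : G → ℂ, Ch L χ' ∧ χ' 1 = M.relIndex L * χ 1 ∧ χ' z = M.relIndex L * χ z := by
  have := Fintype.ofFinite L
  have h1 : IsCharacter (M.subgroupOf L) (fun x => χ ((x : L) : G)) :=
    h.comp (L.subtype.comp (M.subgroupOf L).subtype) (fun x => x.2)
  obtain ⟨χ', h2, h3⟩ := exists_ch (H28.Cfsg.IsCharacter.indFun h1)
  refine ⟨χ', h2, ?_, ?_⟩
  · have := h3 1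
    rw [H33.indFun_apply_one] at this
    exact this
  · have := h3 ⟨z, hM hz⟩
    rw [H33.indFun_central _ _ (z := ⟨z, hM hz⟩)
      (mem_center_iff.2 fun g => Subtype.ext (mem_cent.1 hzc g g.2)) hz] at this
    exact this

theorem Ch.cyc_ext [Finite G] (hi : IsIrrCharacter M (fun x => χ x)) (hM : M ⊴ L) {t : G} (ht : t ∈ L)
    (hg : L ≤ M ⊔ zpowers t) (hinv : ∀ x ∈ M, χ (t * x * t⁻¹) = χ x) :
    ∃ χ' : G → ℂ, Ch L χ' ∧ ∀ x ∈ M, χ' x = χ x := by
  have hN := hM.normal_subgroupOf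
  have hch : Ch M χ := H28.Cfsg.IsIrrCharacter.isCharacter hi
  have hall : ∀ g ∈ L, ∀ x ∈ M, χ (g * x * g⁻¹) = χ x := by
    let I : Subgroup G :=
      { carrier := {g | g ∈ L ∧ ∀ x ∈ M, χ (g * x * g⁻¹) = χ x}
        one_mem' := And.intro (one_mem _) (by simp)
        mul_mem' := fun {a b} ha hb => And.intro (mul_mem ha.1 hb.1) fun x hx => by
          rw [show a * b * x * (a * b)⁻¹ = a * (b * x * b⁻¹) * a⁻¹ by group,
            ha.2 _ (conj_mem_of_mem_nrm (hM.2 hb.1) hx), hb.2 x hx]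
        inv_mem' := fun {a} ha => And.intro (inv_mem ha.1) fun x hx => by
          have := ha.2 _ (conj_mem_of_mem_nrm (hM.2 (inv_mem ha.1)) hx)
          rw [← this]; congr 1; group }
    have : M ⊔ zpowers t ≤ I := sup_le (fun m hm => And.intro (hM.1 hm) fun x hx => hch.conj hm hx)
      (zpowers_le.2 (And.intro ht hinv))
    exact fun g hg' => (this (hg hg')).2
  have hcyc : IsCyclic (L ⧸ M.subgroupOf L) := by
    refine ⟨⟨QuotientGroup.mk ⟨t, ht⟩, fun q => ?_⟩⟩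
    obtain ⟨g, rfl⟩ := QuotientGroup.mk_surjective q
    obtain ⟨m, hm, y, ⟨k, rfl⟩, e⟩ := (mem_sup_of_nrm (zpowers_le.2 (hM.2 ht))).1 (hg g.2)
    refine ⟨k, ?_⟩
    have e2 : g = ⟨m, hM.1 hm⟩ * (⟨t, ht⟩ : L) ^ k := Subtype.ext (by simpa using e)
    rw [e2, QuotientGroup.mk_mul, (QuotientGroup.eq_one_iff _).2 (show (⟨m, hM.1 hm⟩ : L) ∈ M.subgroupOf L from hm),
      one_mul]
    rfl
  have hi' : IsIrrCharacter (M.subgroupOf L) (fun x => χ ((x : L) : G)) := by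
    refine H28.Cfsg.IsCharacter.irr_of_comp (hch.comp (L.subtype.comp (M.subgroupOf L).subtype) (fun x => x.2))
      (subgroupOfEquivOfLe hM.1).symm.toMonoidHom hi
  obtain ⟨η, h1, h2⟩ := Cfsg.Agent.S0886.result (M.subgroupOf L) hcyc _ hi'
    (fun g n => hall g g.2 n n.2)
  obtain ⟨χ', h3, h4⟩ := exists_ch (H28.Cfsg.IsIrrCharacter.isCharacter h1)
  exact ⟨χ', h3, fun x hx => (h4 ⟨x, hM.1 hx⟩).trans (h2 ⟨⟨x, hM.1 hx⟩, hx⟩)⟩

theorem exists_theta [Finite G] (hzE : z ∈ E) (hz2 : z * z = 1) (hz1 : z ≠ 1) (hzc : z ∈ Cent E) :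
    ∃ (χ : G → ℂ) (n : ℕ), Ch E χ ∧ 0 < n ∧ χ 1 = n ∧ χ z = -n ∧ 2 * n ^ 2 ≤ Nat.card E := by
  obtain ⟨θ, h1, h2⟩ := exists_irr_not_mem_charKer (G := E) (g := ⟨z, hzE⟩)
    (fun e => hz1 (congrArg Subtype.val e))
  have hc := H28.Cfsg.IsIrrCharacter.isCharacter h1
  obtain ⟨n, hn⟩ := H28.Cfsg.IsCharacter.exists_degree hc
  have hzz : (⟨z, hzE⟩ : E) ∈ center E := mem_center_iff.2 fun g => Subtype.ext (mem_cent.1 hzc g g.2)
  have hn0 : n ≠ 0 := by
    rintro rfl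
    apply h2
    rw [H28.Cfsg.IsCharacter.mem_charKer hc, H28.Cfsg.IsCharacter.eq_zero_of_apply_one hc (by simpa using hn)]
    rfl
  have hn' : (n : ℂ) ≠ 0 := by exact_mod_cast hn0
  have hcc := H28.Cfsg.IsIrrCharacter.center_le_charCenter h1 hzz
  have e1 := apply_mul_of_mem_charCenter (by rwa [hn]) hcc ⟨z, hzE⟩
  rw [show (⟨z, hzE⟩ : E) * ⟨z, hzE⟩ = 1 from Subtype.ext hz2, hn] at e1
  rw [H28.Cfsg.IsCharacter.mem_charKer hc, hn] at h2
  have e2 : θ ⟨z, hzE⟩ = -n := by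
    have : (θ ⟨z, hzE⟩ - n) * (θ ⟨z, hzE⟩ + n) = 0 := by
      field_simp at e1; linear_combination -e1
    rcases mul_eq_zero.1 this with e | e
    · exact absurd (sub_eq_zero.1 e) h2
    · exact eq_neg_of_add_eq_zero_left e
  have e3 := H28.Cfsg.IsIrrCharacter.degree_sq_le_index h1 (zpowers_le.2 hcc) hn
  have e4 := card_mul_index (zpowers (⟨z, hzE⟩ : E))
  rw [card_zp (Subtype.ext hz2) (fun e => hz1 (congrArg Subtype.val e))] at e4
  obtain ⟨χ, h3, h4⟩ := exists_ch hc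
  exact ⟨χ, n, h3, Nat.pos_of_ne_zero hn0, (h4 1).trans hn, (h4 ⟨z, hzE⟩).trans e2, by omega⟩

/-- the tensor product of characters over a central product -/
theorem tensor [Finite G] {U W : Subgroup G} {χ₁ χ₂ : G → ℂ} (hUW : U ≤ Cent W) (hU : S ≤ Nrm U)
    (hW : S ≤ Nrm W) (hd : (U ⊔ W) ⊓ S = ⊥) (h1 : Ch (U ⊔ S) χ₁) (h2 : Ch (W ⊔ S) χ₂)
    (hk : ∀ a ∈ U ⊓ W, χ₁ a * χ₂ a⁻¹ = χ₁ 1 * χ₂ 1) :
    ∃ χ : G → ℂ, Ch (U ⊔ W ⊔ S) χ ∧ ∀ a ∈ U, ∀ b ∈ W, ∀ h ∈ S, χ (a * b * h) = χ₁ (a * h) * χ₂ (b * h) := by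
  have hc : ∀ a ∈ U, ∀ b ∈ W, b * a = a * b := fun a ha b hb => mem_cent.1 (hUW ha) b hb
  let P : Subgroup (G × G × G) :=
    { carrier := {p | ∃ a ∈ U, ∃ b ∈ W, ∃ h ∈ S, p = (a * h, b * h, a * b * h)}
      one_mem' := ⟨1, one_mem _, 1, one_mem _, 1, one_mem _, by simp [Prod.ext_iff]⟩
      mul_mem' := by
        rintro _ _ ⟨a, ha, b, hb, h, hh, rfl⟩ ⟨a', ha', b', hb', h', hh', rfl⟩
        have ha2 := conj_mem_of_mem_nrm (hU hh) ha'
        refine ⟨a * (h * a' * h⁻¹), mul_mem ha ha2, b * (h * b' * h⁻¹),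
          mul_mem hb (conj_mem_of_mem_nrm (hW hh) hb'), h * h', mul_mem hh hh', ?_⟩
        simp only [Prod.mk_mul_mk, Prod.mk.injEq]
        refine ⟨by group, by group, ?_⟩
        calc a * b * h * (a' * b' * h') = a * (b * (h * a' * h⁻¹)) * (h * b' * h') := by group
          _ = _ := by rw [hc _ ha2 b hb]; group
      inv_mem' := by
        rintro _ ⟨a, ha, b, hb, h, hh, rfl⟩
        refine ⟨h⁻¹ * a⁻¹ * h, conj_mem_of_mem_nrm' (hU hh) (inv_mem ha), h⁻¹ * b⁻¹ * h,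
          conj_mem_of_mem_nrm' (hW hh) (inv_mem hb), h⁻¹, inv_mem hh, ?_⟩
        simp only [Prod.inv_mk, Prod.mk.injEq]
        refine ⟨by group, by group, ?_⟩
        rw [← hc a ha b hb]; group }
  let p1 : P →* G := (MonoidHom.fst _ _).comp P.subtype
  let p2 : P →* G := (MonoidHom.fst _ _).comp ((MonoidHom.snd _ _).comp P.subtype)
  let p3 : P →* G := (MonoidHom.snd _ _).comp ((MonoidHom.snd _ _).comp P.subtype)
  have m1 : ∀ x, p1 x ∈ U ⊔ S := by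
    rintro ⟨_, a, ha, b, hb, h, hh, rfl⟩
    exact mul_mem (mem_sup_left ha) (mem_sup_right hh)
  have m2 : ∀ x, p2 x ∈ W ⊔ S := by
    rintro ⟨_, a, ha, b, hb, h, hh, rfl⟩
    exact mul_mem (mem_sup_left hb) (mem_sup_right hh)
  have m3 : ∀ x, p3 x ∈ U ⊔ W ⊔ S := by
    rintro ⟨_, a, ha, b, hb, h, hh, rfl⟩
    exact mul_mem (mul_mem (mem_sup_left (mem_sup_left ha)) (mem_sup_left (mem_sup_right hb))) (mem_sup_right hh)
  have hψ := H28.Cfsg.IsCharacter.mul (h1.comp p1 m1) (h2.comp p2 m2)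
  obtain ⟨η, hη, e⟩ := H28.Cfsg.IsCharacter.exists_descend hψ (p3.codRestrict _ m3) (by
      rintro ⟨x, hx⟩
      obtain ⟨y, hy, h, hh, rfl⟩ := (mem_sup_of_nrm (nrm_sup hU hW)).1 hx
      obtain ⟨a, ha, b, hb, rfl⟩ := (mem_sup_of_nrm (nrm_of_le_cent (le_cent_symm hUW))).1 hy
      exact ⟨⟨_, a, ha, b, hb, h, hh, rfl⟩, rfl⟩) (by
      rintro ⟨_, a, ha, b, hb, h, hh, rfl⟩ hx
      have hx' : a * b * h = 1 := congrArg Subtype.val hx
      have hh1 : h = 1 := by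
        have : h ∈ (U ⊔ W) ⊓ S := ⟨by
          rw [show h = (a * b)⁻¹ from (eq_inv_of_mul_eq_one_right hx')]
          exact (U ⊔ W).inv_mem (mul_mem (mem_sup_left ha) (mem_sup_right hb)), hh⟩
        rwa [hd, mem_bot] at this
      subst hh1
      have hb' : b = a⁻¹ := eq_inv_of_mul_eq_one_right (by simpa using hx')
      subst hb'
      rw [H28.Cfsg.IsCharacter.mem_charKer hψ]
      have := hk a ⟨ha, by simpa using inv_mem hb⟩
      simpa [p1, p2] using this)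
  obtain ⟨χ, h3, h4⟩ := exists_ch hη
  refine ⟨χ, h3, fun a ha b hb h hh => ?_⟩
  exact (h4 ⟨_, m3 ⟨_, a, ha, b, hb, h, hh, rfl⟩⟩).trans (e ⟨_, a, ha, b, hb, h, hh, rfl⟩)

end H72.Dade
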