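/- Job HR-U3 of `blueprints/HR.md`: the Bender frame of `PSU₃(2ⁿ)`. -/
import Cfsg.Agent.H82.HRKit
import Cfsg.Agent.H52.BgRK
import Cfsg.Agent.H21.BGFcd

set_option autoImplicit false
set_option linter.unusedSectionVars false

namespace H72.HRU

open Cfsg Subgroup H98 H15.BG H82.HR

variable {G : Type*} [Group G] [Finite G] {k K : Type} [Field k] [Field K] [Algebra k K] [Finite k]
  [Finite K] [CharP k 2] [CharP K 2] {d : Dat G k K} {A : Subgroup G} {w : G}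

theorem zz (h : UD d) : ZZ d.U = d.Z := by
  ext z
  exact ⟨fun e => h.mem_Z_of_sq e.1 e.2.1, fun e => ⟨h.ZU e, h.Z_sq e, fun _ hx => (h.Z_comm e hx).symm⟩⟩

theorem form (h : UD d) (α : MulAut d.U) (hα : ∀ z, z * z = 1 → α z = z) : ∃ l,
    (∀ y, d.π (α y) = l * d.π y) ∨ ∀ y, d.π (α y) = l * d.bar (d.π y) := by
  have fa := H52.BgF.fa d.toQE
  have fb := H52.BgF.fb d.toQE
  choose s s1 s2 using h.π_surj
  have add : ∀ x y : d.U, d.π (α (x * y)) = d.π (α x) + d.π (α y) := fun x y => by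
    rw [map_mul, coe_mul, h.π_mul _ (α x).2 _ (α y).2]
  have wd : ∀ y : d.U, d.π (α ⟨s (d.π y), s1 _⟩) = d.π (α y) := fun y => by
    have h1 := h.π_mul _ (s1 (d.π y)) _ y.2
    rw [s2, CharTwo.add_self_eq_zero] at h1
    rw [← CharTwo.add_eq_zero, ← add, hα _ (Subtype.ext (h.Z_sq ((h.ker _ (mul_mem (s1 _) y.2)).1 h1)))]
    exact h1
  have nn : ∀ y : d.U, d.N (d.π (α y)) = d.N (d.π y) := fun y => h.ι_inj (by
    rw [← h.sq _ (α y).2, ← h.sq _ y.2, ← coe_mul, ← map_mul, hα _ (Subtype.ext (by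
      rw [coe_mul, coe_mul, h.sq _ y.2]; exact h.Z_sq (h.ι_mem _))), coe_mul])
  let φ : K →+ K := AddMonoidHom.mk' (fun x => d.π (α ⟨s x, s1 x⟩)) fun x y => by
    rw [← add, ← wd (⟨s x, s1 x⟩ * ⟨s y, s1 y⟩)]
    simp only [coe_mul, h.π_mul _ (s1 x) _ (s1 y), s2]
  have n2 : ∀ x, d.N (φ x) = d.N x := fun x => (nn ⟨s x, s1 x⟩).trans (congrArg _ (s2 x))
  have i : Function.Injective φ := (injective_iff_map_eq_zero φ).2 fun x e => by
    have := n2 x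
    rw [e, d.N_zero, eq_comm, d.N_eq_zero] at this
    exact this
  obtain ⟨l, σ, -, e⟩ := (H21.BGF.fc d.toQE fa fb).aut
    (AddEquiv.ofBijective φ (Finite.injective_iff_bijective.1 i)) (AddMonoidHom.id k) n2
  replace e : ∀ x, φ x = l * σ x := e
  have n1 : d.N l = 1 := by simpa [e] using n2 1
  obtain ⟨τ, hτ⟩ := fb.res σ
  refine ⟨l, (fb.fixk σ fun a => ?_).imp (fun c y => ?_) fun c y => ?_⟩
  · have := n2 (algebraMap k K a)
    rw [e, d.N_mul, n1, one_mul, hτ, d.N_alg, d.N_alg] at this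
    rw [hτ, frobenius_inj k 2 this]
  · rw [← wd]; exact (e _).trans (by rw [c]; rfl)
  · rw [← wd]; exact (e _).trans (by rw [c])

theorem rot (h : UD d) (α : MulAut d.U) {l : K} (e : ∀ y, d.π (α y) = l * d.π y) (h4 : α ^ 4 = 1)
    (y : d.U) : α y * y⁻¹ * (α y * y⁻¹) = 1 := by
  obtain ⟨u, hu, e1⟩ := h.π_surj 1
  have h1 : d.π (α (α (α (α ⟨u, hu⟩)))) = d.π u := congrArg (fun β : MulAut d.U => d.π (β ⟨u, hu⟩)) h4
  rw [e, e, e, e, e1] at h1
  have l1 : l = 1 := frobenius_inj K 2 (frobenius_inj K 2 (by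
    simp only [frobenius_def]; linear_combination h1))
  refine Subtype.ext (h.Z_sq ((h.ker _ (α y * y⁻¹).2).1 ?_))
  rw [coe_mul, h.π_mul _ (α y).2 _ y⁻¹.2, coe_inv, h.π_inv y.2, e, l1, one_mul,
    CharTwo.add_self_eq_zero]

theorem q2 (h : UD d) : Q2 d.U := fun α β h1 h2 a4 b4 c4 => by
  obtain ⟨l, e | e⟩ := form h α h1
  · exact ⟨α, .inl rfl, rot h α e a4⟩
  obtain ⟨l', e' | e'⟩ := form h β h2
  · exact ⟨β, .inr (.inl rfl), rot h β e' b4⟩
  exact ⟨α * β, .inr (.inr rfl), rot h _ (l := l * d.bar l') (fun y => by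
    rw [MulAut.mul_apply, e, e', map_mul, d.bar_bar, mul_assoc]) c4⟩

theorem bf (r : RK d A w) (hs : IsSimpleGroup A) : BF A d.U (cj w d.U) (Nat.card k) := by
  have fa := H52.BgF.fa d.toQE
  have h := r.toUD
  have dd : DD A d.U (cj w d.U) = d.H :=
    le_antisymm r.opp fun x hx => ⟨⟨r.HA hx, (r.HN hx).1⟩, (r.HN hx).2⟩
  obtain ⟨u1, hu1, e1⟩ := h.π_surj 1
  have na : ∃ x ∈ d.U, ∃ y ∈ d.U, x * y ≠ y * x := by
    obtain ⟨b, hb⟩ := d.B_surj (one_ne_zero (α := K)) 1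
    obtain ⟨v, hv, rfl⟩ := h.π_surj b
    exact ⟨u1, hu1, v, hv, fun c => by
      rw [h.comm u1 hu1 v hv, e1, hb, mul_eq_left, h.ι_eq_one] at c
      exact one_ne_zero c⟩
  refine ⟨hs, d.four, r.sylU, r.sylU.cj_of_mem r.wA, eq_bot_iff.2 fun u hu => ?_,
    fun g hg => (r.bru g hg).imp_right fun ⟨u, hu, e⟩ => ⟨u, hu, by rw [cj_cj, e]⟩,
    fun z hz e => zz h ▸ h.mem_Z_of_sq hz e, ?_, fun x hx => by rw [zz h, h.sq x hx]; exact h.ι_mem _,
    .inr na, ?_, ?_, fun X h1 h2 h3 => ?_, q2 h⟩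
  · obtain ⟨i, hi⟩ := isPGroup_iff_forall.1 r.sylU.isPGroup u hu.1
    exact orderOf_eq_one_iff.1 (Nat.eq_one_of_dvd_coprimes (Nat.coprime_two_left.2 r.oddH |>.pow_left i)
      (orderOf_dvd_of_pow_eq_one hi)
      (orderOf_dvd_natCard _ (r.opp ⟨⟨r.sylU.le hu.1, le_normalizer hu.1⟩, hu.2⟩)))
  · rw [zz h]
    exact (Nat.card_eq_of_bijective (fun a => (⟨d.ι a, h.ι_mem a⟩ : d.Z))
      ⟨fun a b e => h.ι_inj (congrArg Subtype.val e), fun z =>
        ((h.memZ z).1 z.2).imp fun _ e => Subtype.ext e⟩).symm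
  · rw [dd]
    have sc : ∀ x ∈ d.H, ∀ u ∈ d.U, d.π (x * u * x⁻¹) = d.π (x * u1 * x⁻¹) * d.π u := fun x hx u hu => by
      obtain ⟨l, hl⟩ := r.Hsc x hx
      rw [hl u hu, hl u1 hu1, e1, mul_one]
    let f : d.H →* K :=
      { toFun := fun x => d.π (x * u1 * (x : G)⁻¹)
        map_one' := by simpa using e1
        map_mul' := fun x y => by
          rw [← sc x x.2 _ (conj_mem_of_mem_normalizer (r.HN y.2).1 hu1)]
          simp [mul_assoc] }
    refine isCyclic_of_injective_ringHom f ((injective_iff_map_eq_one f).2 fun x e => ?_)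
    have c := r.faith x x.2 fun u hu => by rw [sc x x.2 u hu, show d.π _ = 1 from e, one_mul]
    have c1 : (⟨x, r.HA x.2⟩ : A) ∈ center A := mem_center_iff.2 fun y => Subtype.ext (c y y.2)
    rcases hs.eq_bot_or_eq_top_of_normal (center A) inferInstance with t | t
    · exact Subtype.ext (congrArg (Subtype.val : A → G) (mem_bot.1 (t.le c1)))
    · obtain ⟨a, ha, b, hb, n⟩ := na
      exact (n (congrArg Subtype.val (mem_center_iff.1 (t.ge (mem_top (⟨b, r.sylU.le hb⟩ : A)))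
        ⟨a, r.sylU.le ha⟩))).elim
  · rw [zz h, dd]
    intro y hy z hz y1 z1
    obtain ⟨a, rfl⟩ := (h.memZ y).1 hy
    obtain ⟨b, rfl⟩ := (h.memZ z).1 hz
    have a0 := mt h.ι_eq_one.2 y1
    obtain ⟨l, hl⟩ := fa.N_surj (b / a)
    have l0 : l ≠ 0 := fun c => div_ne_zero (mt h.ι_eq_one.2 z1) a0 (by rw [← hl, c, d.N_zero])
    obtain ⟨x, hx, e⟩ := r.Hlam l l0
    obtain ⟨c, rfl⟩ := fa.N_surj a
    obtain ⟨u, hu, rfl⟩ := h.π_surj c
    refine ⟨x, hx, ?_⟩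
    rw [← h.sq u hu, ← conj_mul, h.sq _ (conj_mem_of_mem_normalizer (r.HN hx).1 hu), e u hu, d.N_mul,
      d.N_lam l0, hl, div_mul_cancel₀ _ a0]
  · rw [zz h] at h1 ⊢
    rw [dd] at h3
    let M : AddSubgroup K :=
      { carrier := {a | ∃ x ∈ X, d.π x = a}
        zero_mem' := ⟨1, one_mem _, h.π_one⟩
        add_mem' := by
          rintro _ _ ⟨x, hx, rfl⟩ ⟨y, hy, rfl⟩
          exact ⟨_, mul_mem hx hy, h.π_mul x (h2 hx) y (h2 hy)⟩
        neg_mem' := fun e => by rwa [CharTwo.neg_eq] }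
    refine (fa.span M ?_).imp (fun e => le_antisymm (fun x hx => (h.ker x (h2 hx)).1
      (AddSubgroup.mem_bot.1 (e.le ⟨x, hx, rfl⟩))) h1) fun e => le_antisymm h2 fun u hu => ?_
    · rintro l hl _ ⟨x, hx, rfl⟩
      obtain ⟨g, hg, e⟩ := r.Hlam l hl
      exact ⟨_, conj_mem_of_mem_normalizer (h3 hg) hx, e x (h2 hx)⟩
    · obtain ⟨x, hx, e1⟩ := e.ge (AddSubgroup.mem_top (d.π u))
      refine (mul_mem_cancel_left hx).1 (h1 ((h.ker _ (mul_mem (h2 hx) hu)).1 ?_))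
      rw [h.π_mul x (h2 hx) u hu, e1, CharTwo.add_self_eq_zero]

theorem jobU3 : JobU3 := fun F _ _ n hn hF => by
  have h4 : 4 ≤ 2 ^ n := Nat.pow_le_pow_right two_pos hn
  obtain ⟨k, K, _, _, _, _, _, _, _, d, w, -, c, r⟩ := H52.BgRK.jobRK (PSU 3 F (2 ^ n)) ⊤ 1 F n hn
    (by rw [hF, ← pow_mul, mul_comm, pow_mul]; rfl) (.inl ⟨topEquiv⟩)
  have := H59.isSimpleGroup_PSU hF (n := 3) le_rfl (by omega)
  exact ⟨_, _, c ▸ bf r topEquiv.isSimpleGroup⟩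

end H72.HRU
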