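/- STD-H, section 9: the step OC (the case `T ∩ G₀ = N_T(E₁F₁)`). -/
import Cfsg.Agent.H99.WrOBase

set_option autoImplicit false

open Subgroup Cfsg H98 H99.Wr
open H1.Gold hiding mem_cen1

universe u

namespace H72.Wr

variable {G : Type u} [Group G]

theorem cj_sq {g x : G} (h : x * x = 1) : g * x * g⁻¹ * (g * x * g⁻¹) = 1 := by
  calc _ = g * (x * x) * g⁻¹ := by group
    _ = 1 := by rw [h]; group

theorem cj_cen1 {g a x : G} (h : x ∈ cen1 a) : g * x * g⁻¹ ∈ cen1 (g * a * g⁻¹) :=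
  mem_cen1.2 (by
    calc _ = g * (x * a) * g⁻¹ := by group
      _ = _ := by rw [mem_cen1.1 h]; group)

theorem cj_cen {g x : G} {A : Subgroup G} (h : x ∈ cen A) : g * x * g⁻¹ ∈ cen (cj g A) :=
  (cj_centralizer g A).le (conj_mem_cj h)

theorem Blk.symm {n : G} {A B : Subgroup G} (h : Blk n A B) : Blk n B A :=
  h.imp And.symm And.symm

/-- the hypotheses of step OC -/
structure Oc (t f σ z : G) (L O S E E' E₁ F₁ Y₁ S₁ T G₀ : Subgroup G) (P : G → Subgroup G) :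
    Prop where
  sw : JobSW.{u}
  am : JobA7Max.{u}
  h : Ct t f L O S E E' E₁ F₁ Y₁ S₁ P
  q : Sq t σ E₁ F₁ S₁ T
  fu : Fu t E₁ F₁ S₁ T
  nm : G₀.Normal
  rs : res 2 ⊤ ≤ G₀
  eq : T ⊓ G₀ = T ⊓ nor (E₁ ⊔ F₁)
  zZ : z ∈ E₁ ⊓ F₁
  z1 : z ≠ 1
  zc : T ⊓ nor (E₁ ⊔ F₁) ≤ cen1 z

namespace Oc

variable [Finite G] {t f σ z : G} {L O S E E' E₁ F₁ Y₁ S₁ T G₀ : Subgroup G} {P : G → Subgroup G}
  (o : Oc t f σ z L O S E E' E₁ F₁ Y₁ S₁ T G₀ P)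
include o

omit [Finite G] in
theorem nG (g : G) : g ∈ nor G₀ := by
  have := o.nm
  simp [normalizer_eq_top]

omit [Finite G] in
theorem cG {g : G} (hg : g ∈ G₀) (a : G) : a * g * a⁻¹ ∈ G₀ := o.nm.conj_mem g hg a

theorem syl : IsSyl 2 (T ⊓ nor (E₁ ⊔ F₁)) G₀ :=
  o.eq ▸ o.q.syl.inf_of_le_normalizer le_top fun g _ => o.nG g

theorem T0G : S₁ ⊔ cj t S₁ ≤ G₀ := (o.q.T0_star o.h).trans o.syl.le

theorem σG : σ ∈ G₀ := o.syl.le o.q.σ_star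

theorem YG : Y₁ ≤ G₀ := o.h.Y_le.trans o.rs

omit [Finite G] in
theorem star {x : G} (hx : x ∈ T) (hG : x ∈ G₀) : x ∈ T ⊓ nor (E₁ ⊔ F₁) := o.eq ▸ ⟨hx, hG⟩

theorem dec (g : G) : g ∈ G₀ ∨ g * t ∈ G₀ := by
  obtain ⟨τ, hτ, r, hr, rfl⟩ := o.q.syl.exists_mul_res (mem_top g)
  refine (o.q.star_or o.h hτ).imp (fun e => mul_mem (o.syl.le e) (o.rs hr)) fun e => ?_
  have := mul_mem (o.syl.le e) (o.cG (o.rs hr) t⁻¹)
  rwa [show τ * t * (t⁻¹ * r * t⁻¹⁻¹) = τ * r * t by group] at this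

omit [Finite G] in
theorem bot {x : G} (h1 : x ∈ S₁) (h2 : x ∈ cj t S₁) : x = 1 := o.h.w.bot.le ⟨h1, h2⟩

theorem tS {x : G} (hx : x ∈ T ⊓ nor (E₁ ⊔ F₁)) : t * x * t⁻¹ ∈ T ⊓ nor (E₁ ⊔ F₁) :=
  conj_mem_of_mem_normalizer (o.q.T_nor_star o.h o.q.tT) hx

theorem sylz : IsSyl 2 (T ⊓ nor (E₁ ⊔ F₁)) (G₀ ⊓ cen1 (t * z * t⁻¹)) :=
  o.syl.of_le (le_inf o.syl.le fun x hx => by
    have := cj_cen1 (g := t) (o.zc (o.tS hx))
    rwa [tt_conj o.h.c.tt] at this) inf_le_left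

theorem norJ {n : G} (hn : n ∈ nor (T ⊓ nor (E₁ ⊔ F₁))) :
    n ∈ nor (E₁ ⊔ F₁ ⊔ cj t (E₁ ⊔ F₁)) := by
  have s := o.h.sy₁
  have k : ∀ A ≤ S₁ ⊔ cj t S₁, El A → Nat.card A = 256 → cj n A ≤ E₁ ⊔ F₁ ⊔ cj t (E₁ ⊔ F₁) := by
    intro A hA he hc
    obtain ⟨K, M, hK, hM, e⟩ := o.h.big (o.q.big _ ((cj_le_of_le (hA.trans (o.q.T0_star o.h)) hn).trans
      inf_le_left) (he.cj n) (by rw [card_cj, hc])) (he.cj n) (by rw [card_cj, hc])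
    rw [e]
    exact sup_le_sup (by rcases hK with rfl | rfl <;> simp)
      (cj_mono t (by rcases hM with rfl | rfl <;> simp))
  have a := k (E₁ ⊔ cj t E₁) (sup_le_sup s.ES (cj_mono t s.ES))
    (o.h.w.el_pair s.ES s.ES s.el s.el) (by rw [o.h.w.card_pair s.ES s.ES, s.cE])
  have b := k (F₁ ⊔ cj t F₁) (sup_le_sup s.E'S (cj_mono t s.E'S))
    (o.h.w.el_pair s.E'S s.E'S s.el' s.el') (by rw [o.h.w.card_pair s.E'S s.E'S, s.cE'])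
  rw [cj_sup, sup_le_iff] at a b
  refine mem_normalizer_of_cj_le ?_
  rw [cj_sup n, cj_sup n, cj_sup t E₁ F₁, cj_sup n, ← cj_sup t E₁ F₁]
  exact sup_le (sup_le a.1 b.1) (sup_le a.2 b.2)

/-- (a) `z` and `z^t` are not fused in `G₀` -/
theorem na {g : G} (hg : g ∈ G₀) : g * z * g⁻¹ ≠ t * z * t⁻¹ := fun e => by
  have s := o.h.sy₁
  have t2 : IsSyl 2 (cj g (T ⊓ nor (E₁ ⊔ F₁))) (G₀ ⊓ cen1 (t * z * t⁻¹)) :=
    (o.syl.cj_of_mem hg).of_le (le_inf (o.syl.cj_of_mem hg).le (by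
      rintro _ ⟨x, hx, rfl⟩
      exact e ▸ cj_cen1 (o.zc hx))) inf_le_left
  obtain ⟨c, hc, ec⟩ := t2.exists_cj_eq o.sylz
  rw [cj_cj, cj_eq_self_iff] at ec
  have en : c * g * z * (c * g)⁻¹ = t * z * t⁻¹ := by
    rw [← cj_of_comm (mem_cen1.1 hc.2), ← e]; group
  have hn := mul_mem hc.1 hg
  generalize c * g = n at ec en hn
  have k : n ∉ nor (E₁ ⊔ F₁) := fun a => o.z1 (conj_eq_one_iff.1 (o.bot
    (s.J_le (en ▸ conj_mem_of_mem_normalizer a (mem_sup_left o.zZ.1)))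
    (conj_mem_cj (s.ES o.zZ.1))))
  obtain ⟨b1, b2⟩ := (o.q.blk o.h (o.norJ ec)).resolve_left fun a => k a.1.nor
  have n2 : n * n ∈ nor (E₁ ⊔ F₁) := by
    have e1 := cj_eq_self b1.nor
    have e2 := cj_eq_self b2.nor
    rw [← cj_cj] at e1
    rw [← cj_sup, ← cj_cj, cj_tt o.h.c.tt] at e2
    rw [← cj_eq_self_iff, ← cj_cj, e2, e1]
  obtain ⟨m, ⟨j, rfl⟩, i, hi⟩ := exists_odd_pow n
  have := o.syl.le_of_le_normalizer' (Q := zpowers (n ^ (2 * j + 1)))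
    (isPGroup_zpowers hi) (zpowers_le.2 (pow_mem hn _)) (zpowers_le.2 (pow_mem ec _))
    (mem_zpowers _)
  rw [pow_succ, pow_mul, pow_two] at this
  exact k (by simpa using mul_mem (inv_mem (pow_mem n2 j)) this.2)

/-- the involutions of `S₁` are conjugate to `z` in `G₀` -/
theorem c1 {x : G} (hx : x ∈ S₁) (h2 : x * x = 1) (h1 : x ≠ 1) : ∃ k ∈ G₀, k * z * k⁻¹ = x := by
  have k : ∀ a ∈ G₀, a * x * a⁻¹ ∈ E₁ → ∃ k ∈ G₀, k * z * k⁻¹ = x := fun a ha e => by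
    obtain ⟨y, hy, e'⟩ := o.h.tr₁ o.zZ.1 e o.z1 fun e => h1 (conj_eq_one_iff.1 e)
    exact ⟨a⁻¹ * y, mul_mem (inv_mem ha) (o.YG hy), by
      rw [show a⁻¹ * y * z * (a⁻¹ * y)⁻¹ = a⁻¹ * (y * z * y⁻¹) * a by group, e']; group⟩
  obtain ⟨y, hy, e | e⟩ := o.h.inv_J hx h2
  · exact k y (o.YG hy) e
  · refine k (σ * y) (mul_mem o.σG (o.YG hy)) ?_
    rw [← o.q.σF, show σ * y * x * (σ * y)⁻¹ = σ * (y * x * y⁻¹) * σ⁻¹ by group]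
    exact conj_mem_cj e

theorem c2 {x : G} (hx : x ∈ cj t S₁) (h2 : x * x = 1) (h1 : x ≠ 1) :
    ∃ k ∈ G₀, k * (t * z * t⁻¹) * k⁻¹ = x := by
  obtain ⟨k, hk, e⟩ := o.c1 ((mem_cj_t o.h.c.tt).1 hx) (cj_sq h2) fun e => h1 (conj_eq_one_iff.1 e)
  exact ⟨_, o.cG hk t, by rw [← tt_conj o.h.c.tt x, ← e]; group⟩

omit [Finite G] in
theorem zz : z * z = 1 := o.h.s1.dbl.el z o.zZ.1

theorem p1 {k : G} (hk : k ∈ G₀) (hT : k * z * k⁻¹ ∈ S₁ ⊔ cj t S₁) : k * z * k⁻¹ ∈ S₁ :=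
  (o.fu.pure z o.zZ.1 k hT).resolve_right fun e => by
    obtain ⟨k', hk', e'⟩ := o.c2 e (cj_sq o.zz) fun e => o.z1 (conj_eq_one_iff.1 e)
    exact o.na (mul_mem (inv_mem hk') hk) (by
      rw [show k'⁻¹ * k * z * (k'⁻¹ * k)⁻¹ = k'⁻¹ * (k * z * k⁻¹) * k' by group, ← e']; group)

theorem p2 {k : G} (hk : k ∈ G₀) (hT : k * (t * z * t⁻¹) * k⁻¹ ∈ S₁ ⊔ cj t S₁) :
    k * (t * z * t⁻¹) * k⁻¹ ∈ cj t S₁ := by
  have e : t⁻¹ * k * t⁻¹⁻¹ * z * (t⁻¹ * k * t⁻¹⁻¹)⁻¹ = t⁻¹ * (k * (t * z * t⁻¹) * k⁻¹) * t := by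
    group
  have := o.p1 (o.cG hk t⁻¹) (e ▸ conj_mem_of_mem_normalizer' (t_mem_nor o.h.c.tt S₁) hT)
  rwa [e, ← mem_cj] at this

/-- (b) -/
theorem nb {k : G} (hk : k ∈ G₀) (hT : k * (t * z * t⁻¹) * k⁻¹ ∈ T ⊓ nor (E₁ ⊔ F₁)) :
    k * (t * z * t⁻¹) * k⁻¹ ∈ nor E₁ := by
  by_contra hn
  have s := o.h.sy₁
  have ev : k⁻¹ * (k * (t * z * t⁻¹) * k⁻¹) * k⁻¹⁻¹ = t * z * t⁻¹ := by group
  have v2 := cj_sq (g := k) (cj_sq (g := t) o.zz)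
  generalize k * (t * z * t⁻¹) * k⁻¹ = v at hT hn ev v2
  obtain ⟨e1, e2⟩ := (o.q.star o.h hT).1.swap hn
  obtain ⟨y, hy, c, y1, y2, x, hx, e⟩ := (o.sw G S₁ E₁ F₁ v s e1 e2).2 (o.fu.norS hT).1 v2
  have SG : S₁ ≤ G₀ := le_sup_left.trans o.T0G
  obtain ⟨d, hd, e3⟩ := o.sylz.exists_cj_le (Q := cj k⁻¹ (zpowers y))
    (isPGroup_cj _ (s.two.to_le (zpowers_le.2 hy))) (by
      rintro _ ⟨x, hx, rfl⟩
      exact ⟨o.cG (zpowers_le.2 (SG hy) hx) _, ev ▸ cj_cen1 (zpowers_le.2 (mem_cen1.2 c) hx)⟩)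
  have hg := G₀.mul_mem hd.1 (G₀.inv_mem hk)
  have eg : d * k⁻¹ * v * (d * k⁻¹)⁻¹ = t * z * t⁻¹ := by
    rw [← cj_of_comm (mem_cen1.1 hd.2), ← ev]; group
  rw [cj_cj] at e3
  generalize d * k⁻¹ = g at hg eg e3
  have a1 := o.q.sq_mem o.h (e3 (conj_mem_cj (mem_zpowers y)))
  rw [show g * y * g⁻¹ * (g * y * g⁻¹) = g * (y * y) * g⁻¹ by group] at a1
  obtain ⟨j, hj, ej⟩ := o.c1 (s.ES y1.1) (s.el _ y1.1) y2
  have e4 : g * (y * y) * g⁻¹ = g * j * z * (g * j)⁻¹ := by rw [← ej]; group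
  have a2 : g * (y * y) * g⁻¹ ∈ S₁ := e4 ▸ o.p1 (mul_mem hg hj) (e4 ▸ a1)
  have z2 : t * z * t⁻¹ ∈ cj t S₁ := conj_mem_cj (s.ES o.zZ.1)
  have e5 : g * x * g⁻¹ * (t * z * t⁻¹) * (g * x * g⁻¹)⁻¹ = g * (y * y) * g⁻¹ * (t * z * t⁻¹) := by
    rw [← eg, show g * x * g⁻¹ * (g * v * g⁻¹) * (g * x * g⁻¹)⁻¹ = g * (x * v * x⁻¹) * g⁻¹ by group,
      e]; group
  have a3 := o.p2 (o.cG (SG (s.J_le hx)) g) (e5 ▸ mul_mem a1 (mem_sup_right z2))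
  rw [e5] at a3
  exact y2 (conj_eq_one_iff.1 (o.bot a2 ((mul_mem_cancel_right z2).1 a3)))

/-- (c) -/
theorem nc {k : G} (hk : k ∈ G₀) (hT : cj k (cj t E₁) ≤ T ⊓ nor (E₁ ⊔ F₁)) :
    cj k (cj t E₁) = cj t E₁ ∨ cj k (cj t E₁) = cj t F₁ := by
  have s := o.h.sy₂
  have a : ∀ x ∈ cj k (cj t E₁), x ∈ nor E₁ ∧ (x ∈ S₁ ⊔ cj t S₁ → x ∈ cj t S₁) := by
    rintro _ ⟨x, hx, rfl⟩
    by_cases h1 : x = 1
    · simp [h1, one_mem]
    · obtain ⟨j, hj, rfl⟩ := o.c2 (s.ES hx) (s.el x hx) h1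
      have e : (MulAut.conj k).toMonoidHom (j * (t * z * t⁻¹) * j⁻¹) =
          k * j * (t * z * t⁻¹) * (k * j)⁻¹ := by simp [mul_assoc]
      have m := hT ⟨_, hx, rfl⟩
      rw [e] at m ⊢
      exact ⟨o.nb (mul_mem hk hj) m, o.p2 (mul_mem hk hj)⟩
  have el := s.el.cj k
  have cA : Nat.card (cj k (cj t E₁)) = 16 := (card_cj _ _).trans s.cE
  generalize cj k (cj t E₁) = A at *
  have b : A ⊓ nor (cj t E₁) ≤ cj t S₁ := fun x hx =>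
    (a x hx.1).2 (o.q.ker x (hT hx.1).1 (a x hx.1).1 hx.2)
  by_cases c : A ≤ nor (cj t E₁)
  · exact o.h.two₂ ((le_inf le_rfl c).trans b) el cA.ge
  obtain ⟨v, hv, v1⟩ := SetLike.not_le_iff_exists.1 c
  obtain ⟨e1, e2⟩ := (o.q.star o.h (hT hv)).2.swap v1
  have c1 := (o.sw G _ _ _ v s e1 e2).1 _ b (el.mono inf_le_left)
    fun x hx => mem_cen1.2 (el.comm hx.1 hv)
  have c2 : ((nor (cj t E₁)).subgroupOf A).index = 2 :=
    index_eq_two_iff.2 ⟨⟨v, hv⟩, fun x => by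
      simp only [mem_subgroupOf, coe_mul]
      by_cases e : (x : G) ∈ nor (cj t E₁)
      · exact Or.inr ⟨e, fun e' => v1 (by simpa using mul_mem (inv_mem e) e')⟩
      · exact Or.inl ⟨(o.q.star o.h (hT x.2)).2.mul (o.q.star o.h (hT hv)).2 e v1, e⟩⟩
  have c3 := ((nor (cj t E₁)).subgroupOf A).card_mul_index
  rw [c2, cA, ← inf_subgroupOf_left, Nat.card_congr (subgroupOfEquivOfLe inf_le_left).toEquiv] at c3
  omega

/-- a conjugate of `E₂` inside `T` is one of the four groups -/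
theorem fam {k : G} (hT : cj k (cj t E₁) ≤ T) : Fam t E₁ F₁ (cj k (cj t E₁)) := by
  have tt := o.h.c.tt
  have h1 : cj k (cj t E₁) ≤ T ⊓ nor (E₁ ⊔ F₁) := fun x hx => o.star (hT hx)
    (cj_le_of_le (o.h.sy₂.ES.trans (le_sup_right.trans o.T0G)) (o.nG k) hx)
  rcases o.dec k with hk | hk
  · exact Or.inr (Or.inr (o.nc hk h1))
  · have e : cj (t * (k * t) * t⁻¹) (cj t E₁) = cj t (cj k (cj t E₁)) := by
      simp only [cj_cj]; congr 1; group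
    have := o.nc (o.cG hk t) (e ▸ cj_le_of_le h1 (o.q.T_nor_star o.h o.q.tT))
    rw [e, cj_inj, cj_inj] at this
    exact this.imp_right Or.inl

/-- (d) -/
theorem nd (g : G) : ¬ cj g (cj t E₁) ≤ cen1 σ := fun hA => by
  have tt := o.h.c.tt
  obtain ⟨Q, hQ, h1⟩ := exists_isSyl_le (p := 2) (Q := zpowers t ⊔ zpowers σ) (H := cen1 σ)
    (o.q.syl.isPGroup.to_le (sup_le (zpowers_le.2 o.q.tT) (zpowers_le.2 o.q.σT)))
    (sup_le (zpowers_le.2 (mem_cen1.2 o.q.σt.symm)) (zpowers_le.2 (mem_cen1.2 rfl)))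
  obtain ⟨c, hc, h2⟩ := hQ.exists_cj_le (o.h.sy₂.el.cj g).two hA
  obtain ⟨d, -, h3⟩ := o.q.syl.exists_cj_le hQ.isPGroup le_top
  have hA' : cj (d * c * g) (cj t E₁) ≤ T := by
    rw [← cj_cj (d * c), ← cj_cj d]; exact (cj_mono d h2).trans h3
  have cA : d * σ * d⁻¹ ∈ cen (cj (d * c * g) (cj t E₁)) := by
    rw [← cj_cj (d * c), ← cj_cj d]
    exact cj_cen (mem_cen.2 fun a ha => mem_cen1.1 (hQ.le (h2 ha)))
  have ht : d * t * d⁻¹ ∈ T := h3 (conj_mem_cj (h1 (mem_sup_left (mem_zpowers t))))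
  have hu : d * σ * d⁻¹ ∈ T ⊓ nor (E₁ ⊔ F₁) :=
    o.star (h3 (conj_mem_cj (h1 (mem_sup_right (mem_zpowers σ))))) (o.cG o.σG d)
  have cm : d * σ * d⁻¹ * (d * t * d⁻¹) = d * t * d⁻¹ * (d * σ * d⁻¹) :=
    mem_cen1.1 (cj_cen1 (mem_cen1.2 o.q.σt))
  have n1 := centralizer_le_normalizer _ cA
  have n2 := mem_nor_cj cm n1
  obtain ⟨b1, b2⟩ := o.q.star o.h ((o.q.star_or o.h ht).resolve_left (o.fu.tn d))
  obtain ⟨u1, u2⟩ := o.q.star o.h hu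
  have fa := o.fam hA'
  have e : ∀ A, cj (d * t * d⁻¹) A = cj (d * t * d⁻¹ * t) (cj t A) := fun A => by
    rw [cj_cj, mul_assoc _ t t, tt, mul_one]
  rw [e] at n2
  have k1 : ∀ {A}, A = E₁ ∨ A = F₁ → d * σ * d⁻¹ ∈ nor A → d * σ * d⁻¹ ∈ nor E₁ := by
    rintro _ (rfl | rfl) a
    exacts [a, (Blk.symm u1).fix a]
  have k2 : ∀ {A}, A = cj t E₁ ∨ A = cj t F₁ → d * σ * d⁻¹ ∈ nor A →
      d * σ * d⁻¹ ∈ nor (cj t E₁) := by
    rintro _ (rfl | rfl) a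
    exacts [a, (Blk.symm u2).fix a]
  refine o.fu.out σ o.q.σt o.q.σσ (by rw [cj_sup, o.q.σcj, o.q.σE]) d ?_
  generalize cj (d * c * g) (cj t E₁) = A at *
  rcases fa with rfl | rfl | rfl | rfl
  · exact o.q.ker _ hu.1 n1 (k2 (b2.imp And.left And.left) n2)
  · exact o.q.ker _ hu.1 (k1 (Or.inr rfl) n1) (k2 (b2.imp And.right And.right).symm n2)
  · rw [cj_tt tt] at n2
    exact o.q.ker _ hu.1 (k1 (b1.imp And.left And.left) n2) n1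
  · rw [cj_tt tt] at n2
    exact o.q.ker _ hu.1 (k1 (b1.imp And.right And.right).symm n2) (k2 (Or.inr rfl) n1)

theorem T0R : S₁ ⊔ cj t S₁ ≤ T ⊓ nor (E₁ ⊔ F₁) ⊓ nor (cj t E₁) :=
  le_inf (o.q.T0_star o.h) fun _ hx => (o.h.T0_nor hx).2.1

theorem sylR : IsSyl 2 (T ⊓ nor (E₁ ⊔ F₁) ⊓ nor (cj t E₁)) (G₀ ⊓ nor (cj t E₁)) := by
  have l := inf_le_inf_right (nor (cj t E₁)) o.syl.le
  obtain ⟨R, hR, h1⟩ := exists_isSyl_le (o.syl.isPGroup.to_le inf_le_left) l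
  have hE : cj t E₁ ≤ R := (o.h.sy₂.ES.trans (le_sup_right.trans o.T0R)).trans h1
  have k : ∀ k, cj k R ≤ T ⊓ nor (E₁ ⊔ F₁) → cj k (cj t E₁) = cj t E₁ →
      Nat.card R ≤ Nat.card ↥(T ⊓ nor (E₁ ⊔ F₁) ⊓ nor (cj t E₁)) := fun k a b => by
    rw [← card_cj k]
    refine card_le_of_le (le_inf a ((cj_mono k (hR.le.trans inf_le_right)).trans ?_))
    rw [cj_normalizer, b]
  refine hR.of_card_ge (o.syl.isPGroup.to_le inf_le_left) l ?_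
  obtain ⟨g, hg, h2⟩ := o.syl.exists_cj_le hR.isPGroup (hR.le.trans inf_le_left)
  rcases o.nc hg ((cj_mono g hE).trans h2) with e | e
  · exact k g h2 e
  · refine k (σ * g) ?_ ?_
    · rw [← cj_cj]; exact cj_le_of_le_of_mem h2 o.q.σ_star
    · rw [← cj_cj σ g, e, o.q.σcj, o.q.σF]

/-- `N_{T*}(E₂)` acts on `E₂` as `S₂` -/
theorem act {τ : G} (hτ : τ ∈ T ⊓ nor (E₁ ⊔ F₁) ⊓ nor (cj t E₁)) :
    ∃ b ∈ cj t S₁, b⁻¹ * τ ∈ cen (cj t E₁) := by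
  have s := o.h.sy₂
  have w := o.h.w
  have hN := o.h.s1.N_le₂ o.h.c
  have idx : (cen (cj t E₁)).relIndex (L ⊓ nor E) = 2520 := by
    rw [← o.h.o.idx, relIndex, relIndex]
    congr 1
    ext n
    simp only [mem_subgroupOf]
    refine ⟨fun a => mem_cen.2 fun e he => ?_, fun a =>
      centralizer_anti le_sup_right (o.h.s1.cenE_le o.h.c ⟨n.2.1, a⟩)⟩
    have b := mem_cen_cj (o.h.c.cL n.2.1) a
    rw [cj_tt w.tt] at b
    exact mem_cen.1 ((centralizer_sup _ _).ge ⟨b, a⟩) e (o.h.s1.dbl.E_le he)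
  have hM : G₀ ⊓ nor (cj t E₁) ≤ L ⊓ nor E ⊔ cen (cj t E₁) := by
    refine (o.am G _ _ _ s.el s.cE (le_inf (inf_le_left.trans (o.h.L_le o.T0G o.rs)) hN)
      inf_le_right idx).resolve_right fun d => ?_
    have a : S₁ ⊔ cj t E₁ ≤ S₁ ⊔ cj t S₁ := sup_le_sup_left s.ES _
    have b := d.trans (relIndex_dvd_of_le_left (G₀ ⊓ nor (cj t E₁)) (H := S₁ ⊔ cj t E₁)
      (sup_le (w.le_cen₁.trans (centralizer_anti s.ES)) s.el.le_cen))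
    rw [← relIndex_mul_relIndex _ _ _ (a.trans o.T0R) o.sylR.le,
      ← relIndex_mul_relIndex _ _ _ a o.T0R] at b
    have c1 : (S₁ ⊔ cj t E₁).relIndex (S₁ ⊔ cj t S₁) = 8 := by
      have := ((S₁ ⊔ cj t E₁).subgroupOf (S₁ ⊔ cj t S₁)).card_mul_index
      rw [Nat.card_congr (subgroupOfEquivOfLe a).toEquiv, w.card_pair le_rfl o.h.sy₁.ES,
        w.card_pair le_rfl le_rfl, o.h.sy₁.cS, o.h.sy₁.cE] at this
      rw [relIndex]; omega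
    have c2 : (S₁ ⊔ cj t S₁).relIndex (T ⊓ nor (E₁ ⊔ F₁) ⊓ nor (cj t E₁)) ∣ 2 := by
      by_cases e : T ⊓ nor (E₁ ⊔ F₁) ⊓ nor (cj t E₁) ≤ S₁ ⊔ cj t S₁
      · rw [relIndex_eq_one.2 e]; exact one_dvd _
      obtain ⟨v, hv, v1⟩ := SetLike.not_le_iff_exists.1 e
      refine (index_eq_two_iff.2 ⟨⟨v, hv⟩, fun x => ?_⟩).dvd
      simp only [mem_subgroupOf, coe_mul]
      by_cases e : (x : G) ∈ S₁ ⊔ cj t S₁
      · exact Or.inr ⟨e, fun e' => v1 (by simpa using mul_mem (inv_mem e) e')⟩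
      · exact Or.inl ⟨o.q.ker _ (mul_mem x.2 hv).1.1 ((o.q.star o.h x.2.1).1.mul
          (o.q.star o.h hv.1).1 (fun a => e (o.q.ker _ x.2.1.1 a x.2.2))
          fun a => v1 (o.q.ker _ hv.1.1 a hv.2)) (mul_mem x.2 hv).2, e⟩
    have c3 := (Nat.Coprime.pow_left 6 ((Nat.Prime.coprime_iff_not_dvd Nat.prime_two).2
      o.sylR.not_dvd_relIndex)).dvd_of_dvd_mul_right b
    rw [c1] at c3
    exact absurd (c3.trans (Nat.mul_dvd_mul_left 8 c2)) (by decide)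
  have := (o.h.d.syl.of_le (le_inf o.h.d.syl.le o.h.d.SN) inf_le_left).le_sup_of_normal
    (le_normalizer_centralizer hN) o.sylR.isPGroup (w.B_le.trans o.T0R) (o.sylR.le.trans hM) hτ
  obtain ⟨_, hs, c, hc, rfl⟩ := (mem_sup_left_norm (le_normalizer_centralizer
    ((le_inf o.h.d.syl.le o.h.d.SN).trans hN))).1 this
  obtain ⟨a, ha, rfl⟩ := (w.diag _).1 hs
  refine ⟨_, conj_mem_cj ha, ?_⟩
  rw [dg, w.c' ha ha, mul_assoc _ a c, inv_mul_cancel_left]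
  exact mul_mem (centralizer_anti s.ES (w.le_cen₁ ha)) hc

theorem act' {τ : G} (hτ : τ ∈ T ⊓ nor (E₁ ⊔ F₁) ⊓ nor (cj t E₁)) :
    ∃ b ∈ cj t S₁, b⁻¹ * τ ∈ cen (cj t F₁) := by
  have e : cj σ (cj t F₁) = cj t E₁ := by rw [o.q.σcj, o.q.σF]
  obtain ⟨b, hb, h1⟩ := o.act (τ := σ * τ * σ⁻¹)
    ⟨conj_mem_of_mem_normalizer (le_normalizer o.q.σ_star) hτ.1,
      e ▸ (cj_normalizer _ _).le (conj_mem_cj ((o.q.star o.h hτ.1).2.fix hτ.2))⟩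
  refine ⟨_, conj_mem_of_mem_normalizer' (o.fu.norS o.q.σ_star).2 hb, ?_⟩
  have := cj_cen (g := σ⁻¹) h1
  rwa [← e, cj_inv_cj, show σ⁻¹ * (b⁻¹ * (σ * τ * σ⁻¹)) * σ⁻¹⁻¹ = (σ⁻¹ * b * σ)⁻¹ * τ by group] at this

theorem R_nor {A : Subgroup G} (hA : cj t E₁ ⊔ cj t F₁ = A) :
    T ⊓ nor (E₁ ⊔ F₁) ⊓ nor (cj t E₁) ≤ nor A := fun _ hx => hA ▸ (o.q.star o.h hx.1).2.nor

/-- the Frattini argument for `ρ` -/
theorem sqc {c : G} (hc : c ∈ T ⊓ nor (E₁ ⊔ F₁)) (h1 : c ∈ cen (cj t E₁ ⊔ cj t F₁))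
    (h2 : c * c ∈ cj t E₁ ⊓ cj t F₁) : c * c = 1 := by
  have s := o.h.sy₂
  have w := o.h.w
  have cE : cen (cj t E₁ ⊔ cj t F₁) ≤ nor (cj t E₁) :=
    le_normalizer_of_le_centralizer (centralizer_anti le_sup_left)
  have dc : ∀ x ∈ S₁ ⊔ cj t S₁, x ∈ cen (cj t E₁ ⊔ cj t F₁) → x ∈ S₁ ⊔ (cj t E₁ ⊓ cj t F₁) := by
    intro x hx h
    obtain ⟨a, ha, b, hb, rfl⟩ := w.mem_T.1 hx
    have hb' := conj_mem_cj (g := t) hb
    have : t * b * t⁻¹ ∈ cen (cj t E₁ ⊔ cj t F₁) := by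
      simpa using mul_mem (inv_mem (centralizer_anti s.J_le (w.le_cen₁ ha))) h
    exact mul_mem (mem_sup_left ha) (mem_sup_right
      ⟨s.cen_S hb' (centralizer_anti le_sup_left this),
        s.symm.cen_S hb' (centralizer_anti le_sup_right this)⟩)
  have dd : ∀ x ∈ S₁ ⊔ (cj t E₁ ⊓ cj t F₁), ∃ a ∈ S₁, ∃ b ∈ cj t E₁ ⊓ cj t F₁, x = a * b :=
    fun x => (mem_sup_left_norm (le_normalizer_of_le_centralizer
      (w.le_cen₁.trans (centralizer_anti (inf_le_left.trans s.ES))))).1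
  have sq : ∀ x ∈ cen (cj t E₁ ⊔ cj t F₁), ∀ b ∈ cj t E₁ ⊓ cj t F₁, x * b * (x * b) = x * x :=
    fun x hx b hb => by
      rw [mul_assoc, ← mul_assoc b, mem_cen.1 hx b (mem_sup_left hb.1), mul_assoc x b,
        s.el b hb.1, mul_one]
  by_cases hT : c ∈ S₁ ⊔ cj t S₁
  · obtain ⟨a, ha, b, hb, rfl⟩ := dd _ (dc c hT h1)
    rw [sq a (centralizer_anti s.J_le (w.le_cen₁ ha)) b hb] at h2 ⊢
    exact o.bot (mul_mem ha ha) (s.ES h2.1)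
  obtain ⟨y, hy, yE, yF, yc⟩ := o.h.rho₁
  have r1 : t * y * t⁻¹ ∈ nor (cj t E₁) := (cj_normalizer _ _).le (conj_mem_cj yE)
  have r2 : t * y * t⁻¹ ∈ nor (cj t F₁) := (cj_normalizer _ _).le (conj_mem_cj yF)
  have r3 : t * y * t⁻¹ ∈ nor S₁ := centralizer_le_normalizer _ (o.h.s4.Y₂_cen (conj_mem_cj hy))
  have nK : ∀ {A : Subgroup G}, A ≤ nor (cj t E₁ ⊔ cj t F₁) → A ≤ nor S₁ →
      A ≤ nor (G₀ ⊓ (cen (cj t E₁ ⊔ cj t F₁) ⊓ nor S₁)) := fun a b =>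
    le_normalizer_inf (fun g _ => o.nG g)
      (le_normalizer_inf (le_normalizer_centralizer a) (le_normalizer_normalizer b))
  obtain ⟨n, hn, k, hk, e⟩ := (o.sylR.inf_of_le_normalizer
    (inf_le_inf_left _ (inf_le_left.trans cE))
    (nK (o.R_nor rfl) fun _ hx => (o.fu.norS hx.1).1)).frattini_mem
    (nK (le_normalizer_sup (zpowers_le.2 r1) (zpowers_le.2 r2)) (zpowers_le.2 r3) (mem_zpowers _))
  have en : n = t * y * t⁻¹ * k⁻¹ := by rw [e, mul_inv_cancel_right]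
  have n1 : n ∈ nor (S₁ ⊔ (cj t E₁ ⊓ cj t F₁)) := by
    have kc := Subgroup.inv_mem _ hk.2.1
    refine le_normalizer_sup (H := zpowers n) (zpowers_le.2 ?_)
      (le_normalizer_inf (zpowers_le.2 ?_) (zpowers_le.2 ?_)) (mem_zpowers n) <;> rw [en]
    exacts [mul_mem r3 (Subgroup.inv_mem _ hk.2.2), mul_mem r1 (cE kc), mul_mem r2
      (le_normalizer_of_le_centralizer (centralizer_anti le_sup_right) kc)]
  have c' := conj_mem_of_mem_normalizer hn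
    (x := c) ⟨⟨hc, cE h1⟩, o.syl.le hc, h1, (o.fu.norS hc).1⟩
  have l : S₁ ⊔ (cj t E₁ ⊓ cj t F₁) ≤ S₁ ⊔ cj t S₁ := sup_le_sup_left (inf_le_left.trans s.ES) _
  have hT' : n * c * n⁻¹ ∉ S₁ ⊔ cj t S₁ := fun a => hT (l (by
    simpa [mul_assoc] using conj_mem_of_mem_normalizer' n1 (dc _ a c'.2.2.1)))
  have ci := inv_mem hc
  obtain ⟨a, ha, b, hb, e1⟩ := dd _ (dc _ (o.q.ker _ (mul_mem ci c'.1.1).1
    ((o.q.star o.h ci).1.mul (o.q.star o.h c'.1.1).1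
      (fun a => hT (o.q.ker _ hc.1 (by simpa using inv_mem a) (cE h1)))
      fun a => hT' (o.q.ker _ c'.1.1.1 a c'.1.2))
    (mul_mem (inv_mem (cE h1)) c'.1.2)) (mul_mem (inv_mem h1) c'.2.2.1))
  have e2 : n * (c * c) * n⁻¹ = c * c * (c⁻¹ * a * c * a) := by
    calc _ = c * (c⁻¹ * (n * c * n⁻¹)) * (c * (c⁻¹ * (n * c * n⁻¹))) := by group
      _ = c * a * (c * a) := by
        rw [e1, ← mul_assoc c a, sq _ (mul_mem h1 (centralizer_anti s.J_le (w.le_cen₁ ha))) b hb]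
      _ = _ := by group
  have e3 : n * (c * c) * n⁻¹ = t * y * t⁻¹ * (c * c) * (t * y * t⁻¹)⁻¹ := by
    rw [e, show n * k * (c * c) * (n * k)⁻¹ = n * (k * (c * c) * k⁻¹) * n⁻¹ by group,
      cj_of_comm (mem_cen.1 hk.2.1 _ (mem_sup_left h2.1)).symm]
  have e4 : c⁻¹ * a * c * a = 1 :=
    o.bot (mul_mem (conj_mem_of_mem_normalizer' (o.fu.norS hc).1 ha) ha) (s.ES
      ((Subgroup.mul_mem_cancel_left _ h2.1).1 (e2 ▸ e3 ▸ conj_mem_of_mem_normalizer r1 h2.1)))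
  rw [e3, e4, mul_one] at e2
  have := yc 0 (t⁻¹ * (c * c) * t) (mem_sup_left (mem_cj.1 h2.1)) (by
    rw [pow_zero, pow_one]
    calc _ = t⁻¹ * (t * y * t⁻¹ * (c * c) * (t * y * t⁻¹)⁻¹) * t * y := by group
      _ = _ := by rw [e2])
  exact conj_eq_one_iff.1 (show t⁻¹ * (c * c) * t⁻¹⁻¹ = 1 by rwa [inv_inv])

/-- (e) -/
theorem main (g : G) (hu : g * σ * g⁻¹ ∈ T ⊓ nor (E₁ ⊔ F₁)) : g * σ * g⁻¹ ∉ nor (cj t E₁) := by
  intro hn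
  have s := o.h.sy₂
  have tt := o.h.c.tt
  obtain ⟨b, hb, h1⟩ := o.act ⟨hu, hn⟩
  have u2 := cj_sq (g := g) o.q.σσ
  have b2 : b * b ∈ cj t E₁ := s.cen_S (mul_mem hb hb) (by
    have := inv_mem (mul_mem h1 (conj_mem_of_mem_normalizer
      (normalizer_le_normalizer_centralizer _ hn) h1))
    rwa [show (b⁻¹ * (g * σ * g⁻¹) * (g * σ * g⁻¹ * (b⁻¹ * (g * σ * g⁻¹)) * (g * σ * g⁻¹)⁻¹))⁻¹ =
      b * (g * σ * g⁻¹ * (g * σ * g⁻¹))⁻¹ * b by group, u2, inv_one, mul_one] at this)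
  obtain ⟨y, hy, h2⟩ := o.h.sq₁ (mem_cj.1 hb) (by
    rw [show t⁻¹ * b * t * (t⁻¹ * b * t) = t⁻¹ * (b * b) * t by group]; exact mem_cj.1 b2)
  have r1 : t * y * t⁻¹ ∈ nor (cj t E₁) := (cj_normalizer _ _).le (conj_mem_cj (o.h.s4.norE hy))
  have h3 : t * y * t⁻¹ * b * (t * y * t⁻¹)⁻¹ ∈ cj t E₁ ⊔ cj t F₁ := by
    rw [← cj_sup, show t * y * t⁻¹ * b * (t * y * t⁻¹)⁻¹ = t * (y * (t⁻¹ * b * t) * y⁻¹) * t⁻¹ by
      group]
    exact conj_mem_cj h2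
  have JG : cj t E₁ ⊔ cj t F₁ ≤ G₀ := s.J_le.trans (le_sup_right.trans o.T0G)
  have JN : cj t E₁ ⊔ cj t F₁ ≤ nor (cj t E₁) := s.J_le.trans s.SN
  have nC : nor (cj t E₁) ≤ nor (G₀ ⊓ cen (cj t E₁)) :=
    le_normalizer_inf (fun g _ => o.nG g) (normalizer_le_normalizer_centralizer _)
  generalize t * y * t⁻¹ = r at r1 h3
  have h4 : r * g * σ * (r * g)⁻¹ ∈ cj t E₁ ⊔ cj t F₁ ⊔ G₀ ⊓ cen (cj t E₁) := by
    have := mul_mem (mem_sup_left h3) (mem_sup_right (conj_mem_of_mem_normalizer (nC r1)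
      ⟨G₀.mul_mem (G₀.inv_mem (o.T0G (mem_sup_right hb))) (o.syl.le hu), h1⟩))
    rwa [show r * b * r⁻¹ * (r * (b⁻¹ * (g * σ * g⁻¹)) * r⁻¹) = r * g * σ * (r * g)⁻¹ by group]
      at this
  obtain ⟨c, hc, h5⟩ := (o.sylR.inf_of_le_normalizer
    (N := cj t E₁ ⊔ cj t F₁ ⊔ G₀ ⊓ cen (cj t E₁))
    (sup_le (le_inf JG JN) (inf_le_inf_left _ (centralizer_le_normalizer _)))
    (le_normalizer_sup (o.R_nor rfl) (inf_le_right.trans nC))).exists_cj_le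
    (el_zpowers (cj_sq (g := r * g) o.q.σσ)).two (zpowers_le.2 h4)
  have h6 := h5 (conj_mem_cj (mem_zpowers _))
  rw [show c * (r * g * σ * (r * g)⁻¹) * c⁻¹ = c * r * g * σ * (c * r * g)⁻¹ by group] at h6
  generalize c * r * g = k at h6
  obtain ⟨j, hj, p, hp, e⟩ := (mem_sup_left_norm (JN.trans nC)).1 h6.2
  have JR : cj t E₁ ⊔ cj t F₁ ≤ _ := s.J_le.trans (le_sup_right.trans o.T0R)
  have hp' : p ∈ T ⊓ nor (E₁ ⊔ F₁) ⊓ nor (cj t E₁) := by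
    simpa [e] using mul_mem (inv_mem (JR hj)) h6.1
  obtain ⟨d, hd, h7⟩ := o.act' hp'
  obtain ⟨a, ha, a', ha', rfl⟩ := s.mem_J.1 (s.cenZ ⟨hd, by
    have := mul_mem (centralizer_anti (inf_le_left (b := cj t F₁)) hp.2)
      (inv_mem (centralizer_anti inf_le_right h7))
    rwa [mul_inv_rev, inv_inv, mul_inv_cancel_left] at this⟩)
  have h8 : a⁻¹ * p ∈ cen (cj t E₁ ⊔ cj t F₁) := (centralizer_sup _ _).ge
    ⟨Subgroup.mul_mem _ (Subgroup.inv_mem _ (s.el.le_cen ha)) hp.2, by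
      have := mul_mem (s.el'.le_cen ha') h7
      rwa [mul_inv_rev, mul_assoc, mul_inv_cancel_left] at this⟩
  have h9 := (mul_mem (inv_mem (JR (mem_sup_left ha))) hp').1
  have hx := mul_mem hj (mem_sup_left ha)
  have e' : k * σ * k⁻¹ = j * a * (a⁻¹ * p) := by rw [e]; group
  generalize j * a = x at hx e'
  generalize a⁻¹ * p = c at h8 h9 e'
  have e2 : x * x * (c * c) = 1 := by
    rw [← cj_sq (g := k) o.q.σσ, e', mul_assoc x c, ← mul_assoc c x, ← mem_cen.1 h8 x hx]; group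
  have x2 : x * x ∈ cj t E₁ ⊓ cj t F₁ := by
    obtain ⟨e, he, e', he', rfl⟩ := s.mem_J.1 hx
    exact s.comm_mem he he'
  rw [o.sqc h9 h8 (eq_inv_of_mul_eq_one_right e2 ▸ inv_mem x2), mul_one] at e2
  have fin : ∀ m, k * σ * k⁻¹ ∉ cen (cj m (cj t E₁)) := fun m a => o.nd (k⁻¹ * m) fun v hv => by
    have := cj_cen (g := k⁻¹) a
    rw [cj_cj k⁻¹, show k⁻¹ * (k * σ * k⁻¹) * k⁻¹⁻¹ = σ by group] at this
    exact mem_cen1.2 (mem_cen.1 this v hv)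
  rcases s.inv_J hx e2 with a | a
  · refine fin 1 ?_
    rw [cj_one, e']
    exact mul_mem (s.el.le_cen a) (centralizer_anti le_sup_left h8)
  · refine fin σ ?_
    rw [o.q.σcj, o.q.σE, e']
    exact mul_mem (s.el'.le_cen a) (centralizer_anti le_sup_right h8)

end Oc

theorem jobOC : JobOC.{u} := by
  intro sw am G _ _ t f σ L O S E E' E₁ F₁ Y₁ S₁ T G₀ P h q fu nm rs eq
  obtain ⟨z, zZ, z1, zc, -⟩ := fu.cls
  exact Oc.main ⟨sw, am, h, q, fu, nm, rs, eq, zZ, z1, zc⟩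

end H72.Wr
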