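import Cfsg.Agent.H48.DNASpec

/-! The preimage of the component `L₃(2)`. -/

set_option autoImplicit false

namespace H72.DnS5

open Subgroup Cfsg H98 H48.DP H48.DP2 H98.DP0C
open scoped commutatorElement

universe u

theorem jobS5 : JS5.{u} := by
  rintro G Γ _ _ _ _ M Q P X π y r L hO pj QX XM PM yX y3 yL ⟨e⟩ XL c4 PL rL
  have ker : ∀ g : M, π g = 1 ↔ (g : G) ∈ Q := fun g => by
    rw [← MonoidHom.mem_ker, pj.ker, hO, mem_subgroupOf]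
  set L' : Subgroup G := (L.comap π).map M.subtype with hL'
  have LM : L' ≤ M := map_subtype_le _
  have mem : ∀ g : M, (g : G) ∈ L' ↔ π g ∈ L := fun g =>
    ⟨fun ⟨x, hx, h⟩ => (Subtype.ext h : x = g) ▸ hx, fun h => ⟨g, h, rfl⟩⟩
  let f₀ : L' →* L := (π.comp (inclusion LM)).codRestrict L fun x => (mem ⟨x, LM x.2⟩).1 x.2
  have f0 : ∀ x : L', (f₀ x : Γ) = π ⟨x, LM x.2⟩ := fun _ => rfl
  have XL' : X ≤ L' := fun x hx => (mem ⟨x, XM hx⟩).2 (XL ⟨⟨x, XM hx⟩, hx, rfl⟩)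
  have com : ∀ p : M, π p ∈ Ce L → ∀ l ∈ L', ⁅(p : G), l⁆ ∈ Q := fun p hp l hl => by
    have h := (ker ⁅p, (⟨l, LM hl⟩ : M)⁆).1 (by
      rw [map_commutatorElement, commutatorElement_eq_one_iff_mul_comm]
      exact (hp _ ((mem ⟨l, LM hl⟩).1 hl)).symm)
    exact h
  refine ⟨L', QX, XL', LM, ⟨e.toMonoidHom.comp f₀, ⟨y, (mem y).2 yL⟩, ?_, ?_, rfl, ?_, ?_⟩, yX,
    fun p hp => com ⟨p, PM hp⟩ (PL ⟨⟨p, PM hp⟩, hp, rfl⟩), com r rL⟩
  · refine e.surjective.comp fun l => ?_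
    obtain ⟨g, hg⟩ := pj.surj l
    exact ⟨⟨g, (mem g).2 (hg ▸ l.2)⟩, Subtype.ext hg⟩
  · ext x
    rw [MonoidHom.mem_ker, mem_subgroupOf, ← ker ⟨x, LM x.2⟩, ← f0]
    simp
  · have h : (X.subgroupOf L').map f₀ = (bar π X).subgroupOf L := by
      ext l
      constructor
      · rintro ⟨x, hx, rfl⟩
        exact ⟨⟨x, LM x.2⟩, hx, rfl⟩
      · rintro ⟨x, hx, h⟩
        exact ⟨⟨x, XL' hx⟩, hx, Subtype.ext h⟩
    rw [← map_map, card_map_of_injective e.injective, h, ← c4]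
    exact Nat.card_congr (subgroupOfEquivOfLe XL).toEquiv
  · change orderOf (e (f₀ _)) = 3
    rw [MulEquiv.orderOf_eq, ← orderOf_coe, f0, y3]

end H72.DnS5
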