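import Cfsg.Agent.H57.U2CSpec

/-! # S3275, slot DPV-MD: the section `U / ⟨z⟩` of the normal closure is a module for `T F` -/

set_option autoImplicit false

namespace H72.DpvMD

open Subgroup Cfsg H98 H96 H97 H48.DP H57.DPC H48.DP2 H96.U2I H57.U2C
open scoped commutatorElement

universe u

variable {G : Type u} [Group G]

theorem no_zp {x z : G} (h : x ∈ C1 z) : x ∈ No (zpowers z) := by
  have hc : z * x = x * z := (mem_centralizer_iff.mp h) z (Set.mem_singleton z)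
  have key : ∀ y ∈ zpowers z, x * y * x⁻¹ = y := by
    intro y hy
    obtain ⟨n, rfl⟩ := mem_zpowers_iff.mp hy
    have : Commute x (z ^ n) := (Commute.symm hc).zpow_right n
    rw [this.eq, mul_inv_cancel_right]
  rw [mem_normalizer_iff]
  intro y
  constructor
  · intro hy
    have hy' : y ∈ zpowers z := hy
    show x * y * x⁻¹ ∈ zpowers z
    rw [key y hy']; exact hy'
  · intro hy
    have hy' : x * y * x⁻¹ ∈ zpowers z := hy
    have h1 := key _ hy'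
    have h2 : x * y * x⁻¹ = y := by
      have : x * (x * y * x⁻¹) * x⁻¹ = x * y * x⁻¹ := h1
      exact mul_left_cancel (mul_right_cancel this)
    show y ∈ zpowers z
    rw [← h2]; exact hy'

theorem crit {K D Z : Subgroup G} {x : G} (hK : K ≤ No Z) (hU : ncl K D ≤ No Z) (hx : x ∈ K)
    (h : ∀ k ∈ K, k⁻¹ * x * k ∈ stab D Z) : x ∈ stab (ncl K D) Z := by
  have h1 : ∀ g : K, ⁅zpowers x, cj (g : G) D⁆ ≤ Z := by
    intro g
    rw [commutator_comm]
    refine (le_stab_iff.mp (zpowers_le.mpr ⟨hK hx, fun c hc => ?_⟩)).2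
    have h2 := (h g g.2).2 _ (mem_cj.mp hc)
    have h3 := conj_mem_of_mem_normalizer (hK g.2) h2
    rw [conjugate_commutatorElement] at h3
    simpa [mul_assoc] using h3
  have h2 : ⁅zpowers x, ncl K D⁆ ≤ Z :=
    commutator_iSup_right_le (fun g : K => (cj_le_ncl g.2).trans hU) h1
  rw [commutator_comm] at h2
  exact ⟨hK hx, fun c hc => h2 (commutator_mem_commutator hc (mem_zpowers x))⟩

theorem jobMD : JobMD.{u} := by
  intro hKK G _ _ T Q₀ F D z hq he hea hz hKz hD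
  obtain ⟨hdec, hsyl, -, -, -, -, hφ⟩ := hKK G T Q₀ F hq
  have hzU : z ∈ ncl (T ⊔ F) D := le_ncl _ _ hz
  have hKZ : T ⊔ F ≤ No (zpowers z) := fun x hx => no_zp (hKz hx)
  have hUZ : ncl (T ⊔ F) D ≤ No (zpowers z) := by
    intro x hx
    refine no_zp (mem_centralizer_iff.mpr ?_)
    rintro y rfl
    exact congrArg Subtype.val
      (hea.1.is_comm.comm (⟨y, hzU⟩ : ncl (T ⊔ F) D) (⟨x, hx⟩ : ncl (T ⊔ F) D))
  have hKU : T ⊔ F ≤ No (ncl (T ⊔ F) D) := le_normalizer_ncl _ _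
  have hKS : T ⊔ F ≤ No (St (ncl (T ⊔ F) D) z) := le_normalizer_stab hKU hKZ
  have hKQ : T ⊔ F ≤ No Q₀ := sup_le hq.TQ hq.FQ
  have hTD : T ≤ stab D (zpowers z) := fun t ht =>
    ⟨hKZ (mem_sup_left ht), fun d hd => by
      rw [← commutatorElement_inv]; exact inv_mem (hD d hd t ht)⟩
  have hSD : St (ncl (T ⊔ F) D) z ≤ stab D (zpowers z) := fun s hs =>
    ⟨hs.1, fun d hd => hs.2 d (le_ncl _ _ hd)⟩
  have hQS : Q₀ ≤ St (ncl (T ⊔ F) D) z := fun q hq' =>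
    crit hKZ hUZ (mem_sup_left (hq.le hq')) fun k hk =>
      hTD (hq.le (conj_mem_of_mem_normalizer' (hKQ hk) hq'))
  have hnF : ∀ k ∈ T ⊔ F, ∀ f ∈ F, ∃ f' ∈ F,
      f'⁻¹ * (k * f * k⁻¹) ∈ St (ncl (T ⊔ F) D) z := by
    intro k hk f hf
    obtain ⟨f0, hf0, t, ht, rfl⟩ := hdec k hk
    obtain ⟨φ, hφ'⟩ := hφ t ht
    refine ⟨f0 * ((φ ⟨f, hf⟩ : F) : G) * f0⁻¹,
      mul_mem (mul_mem hf0 (φ ⟨f, hf⟩).2) (inv_mem hf0), hQS ?_⟩
    have h1 := conj_mem_of_mem_normalizer (hq.FQ hf0) (hφ' ⟨f, hf⟩)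
    have h2 : (f0 * ((φ ⟨f, hf⟩ : F) : G) * f0⁻¹)⁻¹ * (f0 * t * f * (f0 * t)⁻¹) =
        f0 * (((φ ⟨f, hf⟩ : F) : G)⁻¹ * (t * f * t⁻¹)) * f0⁻¹ := by group
    rw [h2]; exact h1
  refine ⟨⟨hea, hzU, hKU, hKz, le_sup_right, hq.F3, he, hnF, ?_⟩, hQS⟩
  intro t ht h2 hc
  have : Fact (Nat.Prime 2) := ⟨Nat.prime_two⟩
  obtain ⟨g, hg, hgT⟩ := hsyl.exists_cj_le h2 (zpowers_le.mpr ht)
  have ht' : g * t * g⁻¹ ∈ T := hgT (conj_mem_cj (mem_zpowers t))
  have hc' : ∀ f ∈ F, ⁅f, g * t * g⁻¹⁆ ∈ St (ncl (T ⊔ F) D) z := by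
    intro f hf
    obtain ⟨f', hf', hs⟩ := hnF g⁻¹ (inv_mem hg) f hf
    have h3 := conj_mem_of_mem_normalizer (hKS ht) (inv_mem hs)
    have h4 := conj_mem_of_mem_normalizer (hKS (mem_sup_right hf')) (mul_mem hs h3)
    have h5 := conj_mem_of_mem_normalizer (hKS hg) (mul_mem h4 (hc f' hf'))
    convert h5 using 1
    simp only [commutatorElement_def]
    group
  have h6 : g * t * g⁻¹ ∈ St (ncl (T ⊔ F) D) z := by
    refine crit hKZ hUZ (mem_sup_left ht') fun k hk => ?_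
    obtain ⟨f, hf, t0, ht0, rfl⟩ := hdec k hk
    have h7 := hSD (conj_mem_of_mem_normalizer' (hKS (mem_sup_left ht0)) (hc' f⁻¹ (inv_mem hf)))
    have h8 := hTD (mul_mem (mul_mem (inv_mem ht0) ht') ht0)
    convert mul_mem h7 h8 using 1
    simp only [commutatorElement_def]
    group
  have h9 := conj_mem_of_mem_normalizer' (hKS hg) h6
  simpa [mul_assoc] using h9

end H72.DpvMD
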