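import Cfsg.Agent.H63.A8F0
import Cfsg.Agent.H67.SANF
import Cfsg.Agent.H67.SAFA

/-! A8S: `J8NF`, `J8EF` (clones of the STD-A proofs for `SL₄(2)`). -/

set_option autoImplicit false
set_option linter.unusedSectionVars false

namespace H72.A8N

open H64.SG (O2 Syl Cz Cs Ns cjs Is2 Inv2 UF IsO2 fx mem_Cs mem_Cz mem_fx is2_of_sq
  isPGroup_iff_is2)
open H67.SA H57 H98 Subgroup
open Matrix (SpecialLinearGroup)

universe u

variable {n : ℕ} {F : Type} [Field F] [Finite F] [CharP F 2] {G : Type u} [Group G] [Finite G]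
  {e : SLn n F →* G} {g t : G} {K : Type} [Field K] [Finite K] [CharP K 2] {ι : F →+* K}
  {σ : RingAut K} {Φ Φ' : SLn n K →* G}

theorem nf_core8 (h8 : 3 ≤ n) (A : FA n K) (C : FC n K) (E : FE n K) (c : CF e t ι σ Φ)
    (f : EG e t Φ.range) (hk : Φ'.ker ≤ center (SLn n K)) (h1 : (Er n K).map Φ' = (Er n K).map Φ)
    (h2 : (Ec n K).map Φ' = (Ec n K).map Φ) : Φ'.range ≤ Φ.range := by
  have hn : 2 ≤ n := by omega
  obtain ⟨θ, θ1, θ2⟩ := exists_QA c.ker hk h1 h2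
  have q := isPGroup_iff_is2.1 (isP_QQ (n := n) (F := K))
  have cu : ∀ l, 1 ≤ l → l ≤ n → Cs ((Ml n K l).map Φ) ≤ Ns Φ.range := fun l l1 l2 =>
    (centralizer_anti (c.map_le _)).trans (f.cu l l1 l2)
  have st : ∀ S, t ∈ Ns ((Pat n K S).map Φ) := fun S => c.act.mem_Ns_map
    (mem_St_Pat fun i j _ hs a => by rw [slField_x]; exact x_mem_Pat hs _)
  have h3 : N2 ((QQ n K).map Φ) ((ZZ n K).map Φ) ≤ Ns Φ.range := N2_le f.uf
    (by rintro _ ⟨z, hz, rfl⟩; rw [← map_mul, sq_ZZ hz, map_one]) (QQ_eq (n := n) (F := K) ▸ st _)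
    (st _) ((centralizer_anti (map_mono (Ml_one (n := n) (F := K) ▸ Er_le_QQ))).trans
      (cu 1 le_rfl (by omega)))
  have h4 : (ZZ n K).map Φ' = (ZZ n K).map Φ := by
    rw [← Er_inf_Ec, map_inf2 hk isP_Er isP_Ec, map_inf2 c.ker isP_Er isP_Ec, h1, h2]
  obtain ⟨s1, s2⟩ := E.sem (Or.inr h8) θ θ1 fun p hp p' hp' h => by
    have n1 : ∀ p ∈ Cs (ZZ n K), p ∈ Ns (QQ n K) := fun p hp =>
      conj_mem_St.1 (A.nz _ (conj_mem_St.2 (H64.SG.Cs_le_Ns _ hp))).1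
    have k1 : ∀ u ∈ QQ n K, Φ' p * (Φ p')⁻¹ * Φ (p' * θ u * p'⁻¹) * (Φ' p * (Φ p')⁻¹)⁻¹ =
        Φ (θ (p * u * p⁻¹)) := fun u hu => by
      rw [θ2 _ (conj_mem_of_mem_normalizer (n1 p hp) hu)]
      simp only [map_mul, map_inv, θ2 u hu]; group
    have k2 : ∀ v ∈ QQ n K, ∃ u ∈ QQ n K, v = p' * θ u * p'⁻¹ := fun v hv => by
      obtain ⟨u, u1, u2⟩ := θ1.bij.2.2 (conj_mem_of_mem_normalizer (inv_mem (n1 p' hp')) hv)
      exact ⟨u, u1, by rw [u2]; group⟩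
    have k3 : Φ' p * (Φ p')⁻¹ ∈ N2 ((QQ n K).map Φ) ((ZZ n K).map Φ) :=
      ⟨mul_mem (h4 ▸ map_mem_Cs hp) (inv_mem (map_mem_Cs hp')), by
        rintro _ ⟨v, hv, rfl⟩
        obtain ⟨u, u1, rfl⟩ := k2 v hv
        exact ⟨_, h u u1, by rw [cm, k1 u u1, map_mul, map_inv]⟩⟩
    obtain ⟨β, i⟩ := exists_ind hn c.ker (h3 k3)
    have k4 : ∀ v ∈ QQ n K, Is2 (β v * v⁻¹) := fun v hv => by
      obtain ⟨u, u1, rfl⟩ := k2 v hv
      have u2 := θ1.bij.1 (conj_mem_of_mem_normalizer (n1 p hp) u1)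
      rw [(i.eq_iff c.ker (q _ hv) (q _ u2)).1 (k1 u u1)]
      exact q _ (mul_mem u2 (inv_mem hv))
    obtain ⟨ζ, z1, rfl⟩ := mem_cI.1 (A.n2 β (fun v hv => (mem_map2 c.ker isP_ZZ (k4 v hv)).1 (by
      rw [map_mul, ← i, map_inv]; exact k3.2 _ ⟨v, hv, rfl⟩)) (i.fix c.ker isP_ZZ k3.1))
    refine ⟨ζ, z1, fun u hu => ?_⟩
    have u1 := conj_mem_of_mem_normalizer (n1 p' hp') (θ1.bij.1 hu)
    exact ((i.eq_iff c.ker (q _ u1) (q _ (θ1.bij.1 (conj_mem_of_mem_normalizer (n1 p hp) hu)))).1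
      (k1 u hu)).symm
  have key : ∀ l, 1 ≤ l → l ≤ n → Ml n K l ≤ QQ n K → (Ml n K l).map Φ' = (Ml n K l).map Φ →
      ∀ p p', p * p = 1 → p ∈ Ns (Ml n K l) → (∀ u ∈ Ml n K l, θ (p * u * p⁻¹) = p' * θ u * p'⁻¹) →
      Φ' p ∈ Φ.range := fun l l1 l2 l3 l4 p p' p1 p2 h => by
    have k1 : (Φ p')⁻¹ * Φ' p ∈ Cs ((Ml n K l).map Φ) := by
      rw [← l4]
      rintro _ ⟨u, hu, rfl⟩
      have := θ2 _ (l3 (conj_mem_of_mem_normalizer p2 hu))
      rw [h u hu] at this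
      simp only [map_mul, map_inv, θ2 u (l3 hu)] at this
      calc _ = (Φ p')⁻¹ * (Φ p' * Φ' u * (Φ p')⁻¹) * Φ' p := by group
        _ = _ := by rw [this]; group
    obtain ⟨β, i⟩ := exists_ind hn c.ker (cu l l1 l2 k1)
    obtain ⟨ζ, -, rfl⟩ := mem_cI.1 (A.ctM l l1 l2 β (i.fix_Pat c.ker k1))
    have k2 := ind_conj_iff.1 i
    have k3 : Φ' p = Φ (p' * ζ) * ((Φ p')⁻¹ * Φ' p * (Φ ζ)⁻¹) := by
      rw [map_mul, mul_assoc, k2 _ ⟨ζ, rfl⟩]; group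
    rw [k3]
    exact mem_of_sq_odd f.odd ⟨_, rfl⟩ k2 (by rw [← k3, ← map_mul, p1, map_one])
  rw [MonoidHom.range_eq_map Φ', ← C.top, Subgroup.map_sup]
  refine sup_le (map_Pat_le.2 fun i j _ hs a => ?_) (map_Pat_le.2 fun i j _ hs a => ?_)
  · obtain ⟨p', -, h⟩ := s1 (x i j a) (x_mem_Pat (S := fun _ b => b ≠ 0) hs a)
    rw [← Ml_one] at h h1
    exact key 1 le_rfl (by omega) (Ml_one (n := n) (F := K) ▸ Er_le_QQ) h1 _ p' (x_mul_self ..)
      (Ml_one (n := n) (F := K) ▸ Pr_le_Ns (x_mem_Pat (S := fun _ b => b ≠ 0) hs a)) h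
  · obtain ⟨p', -, h⟩ := s2 (x i j a) (x_mem_Pat (S := fun a _ => a ≠ la n) hs a)
    rw [← Ml_n] at h h2
    exact key n (by omega) le_rfl (Ml_n (n := n) (F := K) ▸ Ec_le_QQ) h2 _ p' (x_mul_self ..)
      (Ml_n (n := n) (F := K) ▸ Pc_le_Ns (x_mem_Pat (S := fun a _ => a ≠ la n) hs a)) h

theorem jobNF : H63.A8.J8NF.{u} := by
  intro n F _ _ _ hp G _ _ e t K _ _ _ ι σ Φ h c f g hg
  have hn := hp.two_le
  have h8 : 3 ≤ n := hp.three.ge
  have hA : JobFA := H67.SA.jobFA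
  have hB : JobFB := H76.SAFB.jobFB
  have hC : JobFC := H3.SA.jobFC hA
  have hE : JobFE := H3.SA.jobFE
  have A := hA n K (hp.par c.card)
  have C := hC n K (hp.par c.card)
  have g1 := C.mem_Ns_QQ hn A c.ker hg
  have key : ∀ E ≤ QQ n K, (∀ u ∈ E, u = 1 ∨ Root u) → Nat.card E = Nat.card K ^ n →
      E.map (cje g Φ) = (Er n K).map Φ ∨ E.map (cje g Φ) = (Ec n K).map Φ := fun E e1 e2 e3 => by
    have p := isP_QQ.to_le e1
    have k1 : E.map (cje g Φ) ≤ (QQ n K).map Φ := by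
      rw [map_cje]; exact (cj_mono g (map_mono e1)).trans (cj_eq_self g1).le
    obtain ⟨E', a1, a2, a3⟩ := exists_pre c.ker (p.map (cje g Φ))
    rw [inf_eq_left.2 (k1.trans (map_le_range _ _))] at a2
    refine (C.tv E' ((map_le_map2 c.ker a1 isP_QQ).1 (a2 ▸ k1)) (fun u hu => ?_) (by
      rw [← card_map2 c.ker a1, a2, card_map2 (ker_cje (g := g) (e := Φ) ▸ c.ker) p, e3])).imp
      (fun h => by rw [← a2, h]) fun h => by rw [← a2, h]
    obtain ⟨u1, r, r1, r2⟩ := (a3 u).1 hu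
    refine (e2 r r1).imp (fun h => eq_one2 c.ker u1 (by rw [← r2, h, map_one])) fun r3 =>
      nf_root hn (hB n K (hp.par c.card)) c h.toB1 f.uf r3 (sq_of_e c.ker u1 ?_) r2
    rw [← r2, ← map_mul, r3.sq, map_one]
  have hk : (cje g Φ).ker ≤ center (SLn n K) := ker_cje (g := g) (e := Φ) ▸ c.ker
  have ne : (Er n K).map (cje g Φ) ≠ (Ec n K).map (cje g Φ) := fun h => Er_ne_Ec hn (le_antisymm
    ((map_le_map2 hk isP_Er isP_Ec).1 h.le) ((map_le_map2 hk isP_Ec isP_Er).1 h.ge))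
  refine mem_normalizer_of_cj_le (range_cje.ge.trans ?_)
  rcases key _ Er_le_QQ (fun _ => C.root_Er hn) card_Er with h1 | h1 <;>
    rcases key _ Ec_le_QQ (fun _ => C.root_Ec hn) card_Ec with h2 | h2
  · exact absurd (h1.trans h2.symm) ne
  · exact nf_core8 h8 A C (hE n K (hp.par c.card)) c f.toEG hk h1 h2
  · exact range_twe.ge.trans (nf_core8 h8 A C (hE n K (hp.par c.card)) c f.toEG (ker_twe (β := gam n K) hk)
      ((map_twe_of_Sw gam_Er).trans h2) ((map_twe_of_Sw gam_Er.symm).trans h1))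
  · exact absurd (h1.trans h2.symm) ne

/-- `d` of order `4` in `G₁ t`. -/
def J8DF : Prop := H63.A8.AllF8.{u} fun n _ _ _ _ K _ _ e t σ Φ => GF e t Φ →
  ∀ y, (Φ y * t) ^ 4 = 1 → (Φ y * t) ^ 2 ≠ 1 →
    (∃ s ∈ Ns Φ.range, IsConj t s ∧ s * (Φ y * t) * s⁻¹ = (Φ y * t)⁻¹) ∧
    ((∀ m, Is2 m → ∀ β, Ind Φ m β → out n K β = 1 ∨ out n K β = (σ, 1)) →
      Ns (Subgroup.zpowers (Φ y * t)) ≤ Ns Φ.range)

theorem jobDF : J8DF.{u} := by
  intro n F _ _ _ hp G _ _ e t K _ _ _ ι σ Φ h c f y d4 d0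
  have hn := hp.two_le
  have B := H76.SAFB.jobFB n K (hp.par c.card)
  obtain ⟨η, h1, h2⟩ := c.exists_eta0
  have i := (ind_conj y).mul c.act
  obtain ⟨g, g1, d2⟩ := exists_sq_range c.ker (g := (Φ y * t) ^ 2) ⟨y * slField _ K σ y, by
    rw [map_mul, ← c.act, h.inv_eq, pow_two]; group⟩ (by rw [← pow_add, d4])
  obtain ⟨d, hd⟩ : ∃ d, d = Φ y * t := ⟨_, rfl⟩
  rw [← hd] at d4 d0 d2 i ⊢
  have g2 := (i.comm_iff c.ker (is2_of_sq g1)).1 (by rw [d2, ← pow_succ, ← pow_succ'])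
  have w1 := i (sc η g)
  rw [B.lin _ _ _ g1, g2, map_mul, out_conj hn, out_slField hn, one_mul] at w1
  have w2 : Φ (sc η g) * Φ (sc η g) = 1 := by rw [← map_mul, sc_sq g1, map_one]
  have w3 : Φ (sc η g) * d * Φ (sc η g) = d⁻¹ := by
    rw [mul_assoc, eq_mul_of_mul_inv_eq w1, ← mul_assoc, ← map_mul, ← sc_add g1, h1, sc_one g1, d2,
      eq_inv_iff_mul_eq_one, ← d4]; group
  have w0 : Φ (y * slField _ K σ (sc η g)) * t = d * Φ (sc η g) := by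
    rw [map_mul, ← c.act, hd]; group
  obtain ⟨l, hl⟩ := f.fi (y * slField _ K σ (sc η g)) (by
    rw [w0, mul_assoc, ← mul_assoc (Φ _), w3, mul_inv_cancel])
  rw [w0] at hl
  have l1 : Φ l ∈ Ns Φ.range := le_normalizer ⟨l, rfl⟩
  have w4 : d * Φ (sc η g) * d * (d * Φ (sc η g))⁻¹ = d⁻¹ := by
    rw [_root_.mul_inv_rev, inv_eq_of_mul_eq_one_right w2, mul_assoc d, mul_assoc d, ← mul_assoc _ _ d⁻¹,
      w3, mul_inv_cancel_left]
  refine ⟨⟨_, hl ▸ mul_mem (mul_mem l1 f.uf.mem) (inv_mem l1), isConj_iff.2 ⟨_, hl.symm⟩, w4⟩,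
    fun h3 => ?_⟩
  obtain ⟨u, hu⟩ := c.exists_map (v := l⁻¹ * g * l) ((c.act.comm_iff c.ker
    (by simpa using (is2_of_sq g1).conj l⁻¹)).1 (by
      have : d * Φ (sc η g) * d ^ 2 * (d * Φ (sc η g))⁻¹ = d ^ 2 := by
        rw [← conj_pow, w4, inv_pow, inv_eq_iff_mul_eq_one, ← pow_add, d4]
      rw [hl, ← d2] at this
      rw [map_mul, map_mul, map_inv]
      nth_rewrite 2 [← this]
      group))
  have u1 : Inv2 u := ⟨map_inj ι (by rw [map_mul, hu, map_one]; simp [mul_assoc, ← mul_assoc g, g1]),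
    by rintro rfl; exact d0 (by rw [← d2, show g = l * (l⁻¹ * g * l) * l⁻¹ by group, ← hu]; simp)⟩
  obtain ⟨p, k, k1, k2, k3⟩ := (H63.A8.jobFB n F hp).ic u u1
  refine Ns_le_of_cj (mul_mem (le_normalizer (c.le ⟨p, rfl⟩)) (inv_mem l1)) ?_
  convert c.df_core hn B h.toB1 f h1 h2 h3 k1 k2 using 3
  have u2 := sc_conj g1 η (SpecialLinearGroup.map ι p * l⁻¹)
  rw [_root_.mul_inv_rev, inv_inv, show SpecialLinearGroup.map ι p * l⁻¹ * g *
    (l * (SpecialLinearGroup.map ι p)⁻¹) = SpecialLinearGroup.map ι p * (l⁻¹ * g * l) *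
    (SpecialLinearGroup.map ι p)⁻¹ by group, ← hu, ← map_inv, ← map_mul, ← map_mul, k3, map_xk] at u2
  rw [← u2, ← h.conj_t p, eq_mul_inv_of_mul_eq hl, inv_eq_of_mul_eq_one_right w2]
  simp only [map_mul, map_inv, c.res]
  group

theorem jobEF : H63.A8.J8EF.{u} := by
  intro n F _ _ _ hp G _ _ e t K _ _ _ ι σ Φ h c f hN gen
  have hn := hp.two_le
  by_contra hM
  let _ : CommGroup (RingAut K × Multiplicative (ZMod 2)) :=
    { (inferInstance : Group _) with mul_comm := out_comm }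
  let lam := (out n K).comp (indH hn c.ker)
  have l0 : ∀ {m β} (i : Ind Φ m β), lam ⟨m, i.mem_Ns⟩ = out n K β := fun i =>
    congrArg (out n K) (i.indH_eq hn c.ker)
  have l1 : lam ⟨t, f.uf.mem⟩ = (σ, 1) := (l0 c.act).trans (out_slField hn σ)
  have s2 : ((σ, 1) : RingAut K × Multiplicative (ZMod 2)) * (σ, 1) = 1 := Prod.ext c.sq rfl
  have h3 : ∀ m, Is2 m → ∀ β, Ind Φ m β → out n K β = 1 ∨ out n K β = (σ, 1) := by
    obtain ⟨V, hV⟩ := H9.UF.jobK3 f.uf ((QuotientGroup.mk' (powMonoidHom 2 : lam.range →* _).range).comp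
      lam.rangeRestrict)
    have hV' := fun x hx e => hV x hx t (IsConj.refl t) f.uf.mem e (Or.inr fun y => by
      obtain ⟨y, rfl⟩ := QuotientGroup.mk_surjective y
      exact (QuotientGroup.eq_one_iff (y * y)).2 ⟨y, pow_two y⟩)
    have k1 : ∀ r ∈ lam.range, ∃ a ∈ lam.range, r = a ^ 2 ∨ r = a ^ 2 * (σ, 1) := by
      rintro _ ⟨m, rfl⟩
      obtain ⟨m', m1, ⟨β, i, i'⟩, m2⟩ := f.ft _ (mul_mem (mul_mem m.2 f.uf.mem) (inv_mem m.2))
        (isConj_iff.2 ⟨_, rfl⟩)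
      have e1 : lam m = lam ⟨m'⁻¹ * m, mul_mem (inv_mem m1) m.2⟩ := by
        change _ = lam ((⟨m', m1⟩ : Ns Φ.range)⁻¹ * m)
        rw [map_mul, map_inv, l0 i, i', inv_one, one_mul]
      have e2 := hV' _ (mul_mem (inv_mem m1) m.2) (by
        calc _ = m'⁻¹ * (m' * t * m'⁻¹) * m := by group
          _ = _ := by rw [← m2]; group)
      rcases gen _ V (m'⁻¹ * m) with e3 | e3
      · obtain ⟨a, ha⟩ := (QuotientGroup.eq_one_iff _).1 (e2.symm.trans e3)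
        exact ⟨a, a.2, Or.inl (e1.trans (congrArg Subtype.val ha).symm)⟩
      · obtain ⟨a, ha⟩ := QuotientGroup.eq.1 ((hV' t f.uf.mem rfl).symm.trans (e3.symm.trans e2))
        have := congrArg Subtype.val ha
        change a.1 ^ 2 = (lam _)⁻¹ * lam _ at this
        exact ⟨a, a.2, Or.inr (by rw [this, ← e1, l1, mul_comm, mul_inv_cancel_left])⟩
    have : Finite (RingAut K) := Finite.of_injective _ DFunLike.coe_injective
    let R : Subgroup (RingAut K × Multiplicative (ZMod 2)) :=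
      { carrier := {a | Is2 a}
        one_mem' := H64.SG.is2_one
        mul_mem' := fun a b => a.mul b (mul_comm _ _)
        inv_mem' := fun a => a.inv }
    obtain ⟨N, hN⟩ := (isPGroup_iff_is2.2 fun _ h => h : IsPGroup 2 R).exists_card_eq
    have k2 : ∀ k, ∀ r ∈ lam.range, r ∈ R → ∃ a ∈ lam.range, a ∈ R ∧
        (r = a ^ 2 ^ (k + 1) ∨ r = a ^ 2 ^ (k + 1) * (σ, 1)) := fun k => by
      have k3 : ∀ r ∈ lam.range, r ∈ R → ∃ a ∈ lam.range, a ∈ R ∧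
          (r = a ^ 2 ∨ r = a ^ 2 * (σ, 1)) := fun r r1 r2 => by
        obtain ⟨a, a1, a2⟩ := k1 r r1
        refine ⟨a, a1, Is2.of_pow (k := 1) ?_, a2⟩
        rcases a2 with rfl | rfl
        · exact r2
        · exact (mul_mem_cancel_right (is2_of_sq s2 : _ ∈ R)).1 r2
      induction k with
      | zero => exact k3
      | succ k ih =>
        intro r r1 r2
        obtain ⟨a, a1, a2, a3⟩ := ih r r1 r2
        obtain ⟨b, b1, b2, b3⟩ := k3 a a1 a2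
        have : a ^ 2 ^ (k + 1) = b ^ 2 ^ (k + 1 + 1) := by
          rcases b3 with rfl | rfl
          · rw [← pow_mul, ← pow_succ']
          · rw [mul_pow, ← pow_mul, ← pow_succ', pow_succ' 2 k, pow_mul (σ, 1), pow_two, s2, one_pow,
              mul_one]
        exact ⟨b, b1, b2, this ▸ a3⟩
    intro m m2 β i
    obtain ⟨a, -, a1, a2⟩ := k2 N _ ⟨_, l0 i⟩ ((i.is2 hn c.ker m2).map (out n K))
    have : a ^ 2 ^ (N + 1) = 1 := by
      rw [pow_succ, pow_mul, ← hN, show a ^ Nat.card R = 1 from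
        congrArg Subtype.val (pow_card_eq_one' (x := (⟨a, a1⟩ : R))), one_pow]
    simpa [this] using a2
  have st : ∀ S, slField _ K σ ∈ St (Pat n K S) := fun S => mem_St_Pat fun i j _ hs a => by
    rw [slField_x]; exact x_mem_Pat hs _
  have t1 : t ∈ Ns ((UU n K).map Φ) := c.act.mem_Ns_map (st _)
  have S1 : IsSyl 2 ((UU n K).map Φ ⊔ zpowers t) (Ns Φ.range) := by
    refine ⟨sup_le ((map_le_range _ _).trans le_normalizer) (zpowers_le.2 f.uf.mem),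
      H64.SG.isPGroup_sup_zpowers (isP_UU.map Φ) t1 (is2_of_sq h.inv.1),
      fun P p1 p2 p3 => le_antisymm (fun a ha => ?_) p2⟩
    have h2 := (H64.SG.syl_iff.1 syl_map_UU).eq_of_le (p1.to_le inf_le_left)
      (le_inf (le_sup_left.trans p2) (map_le_range _ _)) inf_le_right
    have key : ∀ a ∈ P, ∀ β, Ind Φ a β → out n K β = 1 → a ∈ P ⊓ Φ.range := fun a ha β i i' => by
      obtain ⟨y, -, -, k, k1, k2, k3, -⟩ := i.inner hn c.ker i' (isPGroup_iff_is2.1 p1 a ha)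
      rw [k2.eq_one (H64.SG.odd_orderOf_of_mem f.odd k1), one_mul] at k3
      exact ⟨ha, y, k3.symm⟩
    rw [mem_sup_zp t1 h.inv.1, ← h2]
    obtain ⟨β, i⟩ := exists_ind hn c.ker (p3 ha)
    exact (h3 a (isPGroup_iff_is2.1 p1 a ha) β i).imp (key a ha β i) fun i' =>
      key _ (mul_mem ha (p2 (mem_sup_right (mem_zpowers t)))) _ (i.mul c.act)
        (by rw [map_mul, i', out_slField hn, s2])
  obtain ⟨V, hV⟩ := H9.UF.jobK3 f.uf lam
  have v1 : V t ≠ 1 := by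
    rw [hV t f.uf.mem t (IsConj.refl t) f.uf.mem rfl (Or.inl h.inv.1), l1]
    exact fun e => c.ne (congrArg Prod.fst e)
  have v2 : ∀ y, V (Φ y) = 1 := hom_eq_one hn (V.comp Φ) fun _ _ => mul_comm _ _
  have v3 : ∀ a ∈ (UU n K).map Φ ⊔ zpowers t, V a ≠ 1 → ∃ y, a = Φ y * t := fun a a1 a2 => by
    rcases (mem_sup_zp t1 h.inv.1).1 a1 with ⟨y, -, rfl⟩ | ⟨y, -, hy⟩
    · exact absurd (v2 y) a2
    · exact ⟨y, by rw [hy, mul_assoc, h.inv.1, mul_one]⟩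
  obtain ⟨W, a, b, w1, -, a1, -, -, b2, b3, -, w2, -, w3, -⟩ := H9.UF.jobK4 f.uf hM _
    (H64.SG.syl_iff.2 S1)
  by_cases hU : (UU n K).map Φ ≤ W
  · refine b3 (hN (le_antisymm hU (fun w hw => ?_) ▸ b2))
    exact ((mem_sup_zp t1 h.inv.1).1 (w1 hw)).resolve_right fun h4 =>
      w2 t ((mul_mem_cancel_left hw).1 (hU h4)) (IsConj.refl t)
  obtain ⟨l, hl⟩ : ∃ l, ¬ (Ml n K l).map Φ ≤ W := by
    by_contra h4
    push Not at h4
    exact hU ((map_mono UU_le_iSup).trans (by rw [Subgroup.map_iSup]; exact iSup_le fun l => h4 _))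
  have B1 : (UU n K).map Φ ⊔ zpowers t ≤ Ns ((Ml n K l).map Φ) := sup_le (by
    rintro _ ⟨u, hu, rfl⟩; exact map_mem_Ns (UU_le_Ns_Ml l hu)) (zpowers_le.2 (c.act.mem_Ns_map (st _)))
  have B2 : (Ml n K l).map Φ ≤ (UU n K).map Φ ⊔ zpowers t := (map_mono (Ml_le_UU l)).trans le_sup_left
  have B3 : ∀ u ∈ (Ml n K l).map Φ, u * u = 1 := by
    rintro _ ⟨u, hu, rfl⟩; rw [← map_mul, sq_Ml hu, map_one]
  obtain ⟨s, ⟨s1, s2⟩, s3⟩ := SetLike.exists_of_lt (lt_inf_normalizer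
    (S1.isPGroup.to_le (sup_le w1 B2)) (left_lt_sup.2 hl))
  obtain ⟨w, hw, u, hu, rfl⟩ := (mem_sup_left_norm (w1.trans B1)).1 s1
  obtain ⟨d, d1, m, -, d2⟩ := w3 u ((mul_mem_cancel_left (le_normalizer hw)).1 s2)
    (fun h => s3 (mul_mem hw h)) (B3 u hu ▸ one_mem W)
  have c1 : IsConj t (u * d) := d2 ▸ a1.trans (isConj_iff.2 ⟨m, rfl⟩)
  have d3 : V d ≠ 1 := by
    obtain ⟨r, hr⟩ := isConj_iff.1 c1
    obtain ⟨u, -, rfl⟩ := hu
    have := congrArg V hr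
    rw [map_mul, map_mul, map_mul, v2, one_mul, map_inv, mul_inv_cancel_comm] at this
    exact this ▸ v1
  have d4 : d ^ 4 = 1 := by
    have k1 := (H9.UF.inv2_conj h.inv c1).1
    have k2 : d * d = u * (u * d * u * (u * d)⁻¹) := by
      rw [inv_eq_of_mul_eq_one_right k1, ← mul_assoc u, ← mul_assoc u, ← mul_assoc u, B3 u hu, one_mul,
        mul_assoc d, ← mul_assoc u, B3 u hu, one_mul]
    have := B3 _ (k2 ▸ mul_mem hu (conj_mem_of_mem_normalizer (B1 (mul_mem (B2 hu) (w1 d1))) hu))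
    rw [← this, show 4 = 2 + 2 from rfl, pow_add, pow_two]
  have key : ∀ d ∈ W, V d ≠ 1 → d ^ 4 = 1 → (∃ s ∈ Ns Φ.range, IsConj t s ∧ s ∈ Ns (zpowers d)) ∧
      Ns (zpowers d) ≤ Ns Φ.range := fun d d1 d3 d4 => by
    obtain ⟨y, rfl⟩ := v3 d (w1 d1) d3
    obtain ⟨⟨s, s1, s2, s3⟩, k⟩ := jobDF n F hp G e t K ι σ Φ h c f y d4 fun d5 => by
      obtain ⟨r, hr⟩ := f.fi y (pow_two (Φ y * t) ▸ d5)
      exact w2 _ d1 (isConj_iff.2 ⟨_, hr.symm⟩)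
    exact ⟨⟨s, s1, s2, H9.UF.mem_nor_zp s3⟩, k h3⟩
  obtain ⟨⟨s, s1, s2, s3⟩, k1⟩ := key d d1 d3 d4
  obtain ⟨⟨s', s4, s5, s6⟩, -⟩ := key _ (conj_mem_of_mem_normalizer b2 d1)
    (by rwa [map_mul, map_mul, map_inv, mul_inv_cancel_comm]) (by rw [conj_pow, d4]; simp)
  obtain ⟨m, m1, r, r1, rfl⟩ := (H9.UF.jobK2 f.uf s2 s1).2 (zpowers d) b s' s3 s5 s4
    (by rwa [cjs, MonoidHom.map_zpowers])
  exact b3 (mul_mem m1 (k1 r1))

end H72.A8N
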