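import Cfsg.Agent.H63.KgvSpec

/-! # k(GV), slot KGV-JH2: integrality and divisibility of the Gauss sums -/

set_option autoImplicit false

namespace H72.KgvH2

open Polynomial Finset Cfsg H63.Kgv

theorem int_of_pow {z : ℂ} {n : ℕ} (hn : 0 < n) (h : z ^ n = 1) : IsIntegral ℤ z :=
  IsIntegral.of_pow hn (h ▸ isIntegral_one)

theorem ee_pow (p : ℕ) [Fact p.Prime] (c : ZMod p) : ee p c ^ p = 1 := by
  rw [← AddChar.map_nsmul_eq_pow, nsmul_eq_mul, ZMod.natCast_self, zero_mul, AddChar.map_zero_eq_one]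

theorem rad {R : Type*} [CommRing R] {p : ℕ} (hp : p.Prime) {e : R} (he : e ^ p = 1) :
    1 - e ∈ (Ideal.span {(p : R)}).radical := by
  obtain ⟨r, hr⟩ := exists_add_pow_prime_eq hp (1 - e) e
  rw [sub_add_cancel, one_pow, he] at hr
  refine ⟨p, Ideal.mem_span_singleton.2 ⟨-((1 - e) * e * r), ?_⟩⟩
  linear_combination -hr

theorem job : JH2 := by
  intro lf p hp M K _ _ _ g θ s
  have hp' : p.Prime := hp.out
  have hN : 0 < p ^ M - 1 := Nat.sub_pos_of_lt (Nat.one_lt_pow s.pos.ne' hp'.one_lt)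
  have h1 : ∀ x : Kˣ, x ^ (p ^ M - 1) = 1 := fun x => by
    classical
    rw [← s.card, ← Fintype.card_units, pow_card_eq_one]
  have h2 : ∀ x : Kˣ, x ^ p ^ M = x := fun x => by
    rw [show p ^ M = (p ^ M - 1) + 1 by omega, pow_succ, h1, one_mul]
  have h3 : ∀ x : Kˣ, (θ x : ℂ) ^ (p ^ M - 1) = 1 := fun x => by
    rw [← Units.val_pow_eq_pow_val, ← map_pow, h1, map_one, Units.val_one]
  have ie : ∀ c : ZMod p, IsIntegral ℤ (ee p c) := fun c => int_of_pow hp'.pos (ee_pow p c)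
  have iu : ∀ x : Kˣ, IsIntegral ℤ (θ x : ℂ) := fun x => int_of_pow hN (h3 x)
  refine ⟨fun t x ht => IsIntegral.of_pow s.pos ?_, fun t x ht hx => ?_⟩
  · rw [lf p M K g θ s t M x ht dvd_rfl (h2 x)]
    exact (IsIntegral.sum _ fun j _ => (ie _).mul ((iu x).pow j)).neg
  · let O := integralClosure ℤ ℂ
    let e : ℕ → O := fun j => ⟨ee p (t * tr p M g M j), ie _⟩
    let u : O := ⟨θ x, iu x⟩
    have he : ∀ j, e j ^ p = 1 := fun j => Subtype.ext (ee_pow p _)
    have hm : ∑ j ∈ range (p ^ M - 1), (1 - e j) * u ^ j ∈ (Ideal.span {(p : O)}).radical :=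
      Ideal.sum_mem _ fun j _ => Ideal.mul_mem_right _ _ (rad hp' (he j))
    obtain ⟨k, hk⟩ := hm
    obtain ⟨v, hv⟩ := Ideal.mem_span_singleton.1 hk
    have hu : (θ x : ℂ) ≠ 1 := fun r => hx (s.inj (by rw [map_one]; exact Units.ext r))
    have h0 : ∑ j ∈ range (p ^ M - 1), (θ x : ℂ) ^ j = 0 := by
      rw [geom_sum_eq hu, h3, sub_self, zero_div]
    refine ⟨M * k, v, v.2, ?_⟩
    have h4 := congrArg (fun z : O => (z : ℂ)) hv
    simp only [SubmonoidClass.coe_pow, MulMemClass.coe_mul, AddSubmonoidClass.coe_finset_sum,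
      AddSubgroupClass.coe_sub, OneMemClass.coe_one, SubringClass.coe_natCast] at h4
    rw [pow_mul, lf p M K g θ s t M x ht dvd_rfl (h2 x), ← h4]
    congr 1
    simp only [GG, sub_mul, one_mul, sum_sub_distrib]
    rw [show ∑ j ∈ range (p ^ M - 1), (u : ℂ) ^ j = 0 from h0, zero_sub]

end H72.KgvH2
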