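/- Tower STD-SP, endgame, slot SR: `O₂(C c)` is strongly closed in `C(c)`. -/
import Cfsg.Agent.H64.YESpec
import Cfsg.Agent.H9.UfK1

set_option autoImplicit false

namespace H72.YESR

open H64.SG H64.YE Subgroup
open H59.SO (Ind ind_conj)

universe u

/-- Fusion inside a subgroup `N`. -/
theorem fl0 {G : Type u} [Group G] [Finite G] {M : Subgroup G} {t a d g : G} (h : UF M t)
    (ha : IsConj t a) (aM : a ∈ M) (hd : IsConj t d) (dM : d ∈ M) (N : Subgroup G) (aN : a ∈ N)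
    (dN : g⁻¹ * d * g ∈ N) : ∃ m ∈ M, ∃ n ∈ N, g = m * n := by
  obtain ⟨n, h1, h2⟩ := (H9.UF.jobK2 h ha aM).1 (g⁻¹ * d * g)
    (hd.trans (isConj_iff.2 ⟨g⁻¹, by rw [inv_inv]⟩))
  refine ⟨_, inv_mem ((H9.UF.jobK1 h hd dM).1 (n * g⁻¹) (by simpa [mul_assoc] using h2)), n,
    (closure_le N).2 (by rintro _ (rfl | rfl) <;> assumption) h1, by group⟩

variable {Y : Type} [Group Y] [Finite Y] [QS Y] {G : Type u} [Group G] [Finite G] {τ : MulAut Y}
  {t : G} {Φ : Y →* G}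

omit [Finite Y] [QS Y] [Finite G] in
theorem ind_tw (h : Ind Φ t τ) (w : Y) : Ind Φ (Φ w * t * (Φ w)⁻¹) (tw τ w) :=
  (ind_conj w).conj h

omit [Finite Y] [QS Y] in
theorem fl1 (h : Ind Φ t τ) (uf : UF (Ns Φ.range) t) (w w' : Y) {g : G} (N : Subgroup G)
    (aN : Φ w * t * (Φ w)⁻¹ ∈ N) (dN : g⁻¹ * (Φ w' * t * (Φ w')⁻¹) * g ∈ N) :
    ∃ m ∈ Ns Φ.range, ∃ n ∈ N, g = m * n :=
  fl0 uf (isConj_iff.2 ⟨_, rfl⟩) (ind_tw h w).mem_Ns (isConj_iff.2 ⟨_, rfl⟩) (ind_tw h w').mem_Ns N aN dN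

/-- Fusion of elements fixed by conjugates of `τ`. -/
theorem ac_of (hk : Φ.ker ≤ center Y) (h : Ind Φ t τ) (uf : UF (Ns Φ.range) t) {x y w w' : Y} {g : G}
    (hx : Is2 x) (hy : Is2 y) (h1 : tw τ w x = x) (h2 : tw τ w' y = y) (e : g * Φ x * g⁻¹ = Φ y) :
    Ac x y := by
  obtain ⟨m, hm, n, hn, rfl⟩ := fl1 h uf w w' (g := g) (Cz (Φ x))
    (mem_Cz.2 ((ind_tw h w).comm h1).symm) (mem_Cz.2 (by
      have h3 := (ind_tw h w').comm h2
      generalize Φ w' * t * (Φ w')⁻¹ = d at h3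
      rw [← e] at h3
      calc _ = g⁻¹ * (g * Φ x * g⁻¹ * d) * g := by group
        _ = _ := by rw [← h3]; group))
  obtain ⟨β, hβ⟩ := exists_ind hk hm
  refine ⟨β, (ind_eq_iff hk hβ hx hy).1 ?_⟩
  rw [← e, mul_assoc m n, ← mem_Cz.1 hn]; group

theorem mem_nor {k X C : G} (hC : C * C = 1) (h1 : C * k = k * C)
    (h2 : k * X * k⁻¹ = X ∨ k * X * k⁻¹ = X * C) : k ∈ Cz C ⊓ normalizer {X, X * C} := by
  refine ⟨mem_Cz.2 h1, mem_normalizer_fintype ?_⟩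
  have h3 : k * (X * C) * k⁻¹ = k * X * k⁻¹ * C := by
    rw [mul_assoc (k * X), ← (Commute.inv_right h1).eq]; group
  rintro _ (rfl | rfl)
  · exact h2
  · rw [h3]
    rcases h2 with e | e <;> rw [e]
    · exact .inr rfl
    · exact .inl (by rw [mul_assoc, hC, mul_one])

theorem jobSR : JobSR.{u} := by
  intro n F _ _ _ _ _ _ G _ _ e t Y _ _ _ ι τ Gd Go U Φ K₀ H c R hc os x hx h hh ⟨u0, hu0⟩
  have hk := H.ker
  have hh' := mem_Cz.1 hh
  obtain ⟨u, u2, hu⟩ := exists_sq_range hk ⟨u0, hu0⟩ (show h * Φ x * h⁻¹ * (h * Φ x * h⁻¹) = 1 by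
    rw [conj_mul, ← map_mul, os.el x hx, map_one, mul_one, mul_inv_cancel])
  have hxc : x * c = c * x := by
    rw [← inv_eq_of_mul_eq_one_right (os.el _ (mul_mem hx os.cr)), mul_inv_rev,
      inv_eq_of_mul_eq_one_right hc.1, inv_eq_of_mul_eq_one_right (os.el x hx)]
  have h1 : h * Φ (x * c) * h⁻¹ = Φ u * Φ c := by
    rw [hu, map_mul, mul_assoc _ h⁻¹, ← (Commute.inv_right hh').eq]; group
  have huc : u * c = c * u := (e_comm_iff hk (is2_of_sq hc.1)).1 (by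
    rw [← h1, hxc, hu, map_mul, ← mul_assoc, ← hh']; group)
  have key : ∀ y ∈ R, ∀ v, v * v = 1 → h * Φ y * h⁻¹ = Φ v → ¬ MI ι v ∨ ∃ z ∈ R, Ac z v :=
    fun y hy v v2 e => or_iff_not_imp_left.2 fun hv => by
      obtain ⟨w', a, rfl⟩ := not_not.1 hv
      obtain ⟨w, -, hw⟩ := os.sr y hy
      exact ⟨y, hy, ac_of hk H.act H.uf (w' := w') (is2_of_sq (os.el y hy)) (is2_of_sq v2) hw
        (by simp [tw, mul_assoc, (H.fix _).2 ⟨a, rfl⟩]) e⟩
  obtain ⟨w', h2, h3⟩ := os.scr u u2 huc (key x hx u u2 hu.symm) (key _ (mul_mem hx os.cr) _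
    (by rw [mul_assoc, ← mul_assoc c, ← huc, mul_assoc, hc.1, mul_one, u2]) (by rw [h1, map_mul]))
  obtain ⟨w, h4, h5⟩ := os.sr x hx
  have hC : Φ c * Φ c = 1 := by rw [← map_mul, hc.1, map_one]
  obtain ⟨m, hm, k, ⟨k1, k2⟩, rfl⟩ := fl1 H.act H.uf w w' (g := h) _
    (mem_nor (X := Φ x) hC ((ind_tw H.act w).comm h4).symm (.inl (by rw [ind_tw H.act w, h5])))
    (mem_nor hC (by
      have := ((ind_tw H.act w').comm h2).symm
      exact ((Commute.inv_right hh').mul_right this).mul_right hh') (by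
      have h6 := ind_tw H.act w' u
      generalize Φ w' * t * (Φ w')⁻¹ = d at h6
      have h7 : h⁻¹ * d * h * Φ x * (h⁻¹ * d * h)⁻¹ = h⁻¹ * (d * Φ u * d⁻¹) * h := by rw [hu]; group
      rw [h7, h6]
      refine h3.imp (fun e => ?_) fun e => ?_
      · rw [e, hu]; group
      · rw [e, map_mul Φ u, ← h1, map_mul]; group))
  obtain ⟨β, hβ⟩ := exists_ind hk hm
  have h8 : β c = c := (ind_comm_iff hk hβ (is2_of_sq hc.1)).1 (by
    have := (Commute.mul_right hh' (Commute.inv_right (mem_Cz.1 k1))).eq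
    rw [mul_inv_cancel_right] at this
    exact this.symm)
  have h9 : k * Φ x * k⁻¹ ∈ R.map Φ := by
    rcases (k2 (Φ x)).1 (.inl rfl) with e | e <;> rw [e]
    · exact ⟨x, hx, rfl⟩
    · exact ⟨_, mul_mem hx os.cr, map_mul _ _ _⟩
  have := H98.conj_mem_of_mem_normalizer (hβ.mem_Ns_map (os.st β h8)) h9
  simpa only [mul_assoc, mul_inv_rev] using this

end H72.YESR
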