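import Cfsg.Agent.H68.EaSpec

/-! Tower EA (S4546, S4577): the slot `HZ`. -/

set_option autoImplicit false

namespace H72.EaH

open Cfsg H34 H35 H39 H24.KB Subgroup H68.EA Finset

universe u

theorem num {ι : Type*} {I : Finset ι} {h : ι → ℕ} {q : ℤ} {A : ι → ι → ℤ} (hA : Maj I h q A)
    (hq : (I.card : ℤ) = q) (ht : ∑ i ∈ I, A i i ≤ 3 * q) : ∀ i ∈ I, h i = 0 := by
  intro j hj
  by_contra hne
  have p4 : ∀ i ∈ I, h i ≠ 0 → 4 ≤ A i i := fun i hi h0 => by
    refine le_trans ?_ (hA.le hi h0)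
    calc (4 : ℤ) = 2 ^ 2 := by norm_num
      _ ≤ _ := pow_le_pow_right₀ (by norm_num) (by omega)
  by_cases h1 : ∃ i ∈ I, A i i = 1
  · obtain ⟨i, hi, h1⟩ := h1
    have h0 : h i = 0 := by
      by_contra h0
      have := p4 i hi h0
      omega
    have h2 := hA.row hi h0
    have h3 : ∑ _i ∈ I, (1 : ℤ) < ∑ i ∈ I, 4 ^ h i :=
      sum_lt_sum (fun i _ => one_le_pow₀ (by norm_num)) ⟨j, hj, one_lt_pow₀ (by norm_num) hne⟩
    rw [sum_const, nsmul_eq_mul, mul_one, hq] at h3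
    rw [h1] at h2
    linarith
  · push Not at h1
    have h3 : ∑ _i ∈ I, (3 : ℤ) < ∑ i ∈ I, A i i := by
      refine sum_lt_sum (fun i hi => ?_) ⟨j, hj, by have := p4 j hj hne; omega⟩
      by_cases h0 : h i = 0
      · have h4 := mt (hA.dvd_iff i hi i hi).1 (not_not.2 h0)
        rw [h0, zero_add, pow_one] at h4
        have := hA.pos i hi
        have := h1 i hi
        omega
      · have := p4 i hi h0
        omega
    rw [sum_const, nsmul_eq_mul, hq] at h3
    linarith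

theorem jobHZ : JobHZ.{u} := by
  intro G _ _ M _ B D e h v hv h2 h3 hk χ hχ
  obtain ⟨A, -, hA, ht⟩ := h.exists_maj hv h2
  refine num hA (by rw [card_bF, hk, h.card_eq]; push_cast; rfl) ?_ χ (mem_bF.2 hχ)
  rw [ht, mul_comm]
  exact mul_le_mul_of_nonneg_right (by exact_mod_cast h3) (by positivity)

end H72.EaH
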