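/- Quasisimple generalized Fitting subgroups of permutation groups containing a Sylow 3-subgroup. -/
import Cfsg.Agent.H14.FStar
import Cfsg.Agent.S4337
import Cfsg.Agent.H98.Sylow

set_option autoImplicit false

namespace H72.A3

open Subgroup MulAction Equiv Equiv.Perm
open scoped Pointwise commutatorElement

theorem prim3 {β : Type*} [Fintype β] [DecidableEq β] {D : Set (Perm β)}
    (hD : ∀ d ∈ D, IsThreeCycle d) {t : Perm β} (ht : t ∈ D)
    (htr : IsPretransitive (closure D) β) : closure D = alternatingGroup β := by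
  refine le_antisymm ((closure_le _).2 fun d h => (hD d h).mem_alternatingGroup)
    (alternatingGroup_le_of_isPreprimitive_of_isThreeCycle_mem ⟨fun {B} hB => ?_⟩ (hD t ht)
      (subset_closure ht))
  by_cases h : B.Subsingleton
  · exact Or.inl h
  obtain ⟨a, ha, b, hb, ab⟩ := Set.not_subsingleton_iff.1 h
  have : closure D ≤ stabilizer (Perm β) B := (closure_le _).2 fun d hd => by
    by_contra hc
    have dj : Disjoint (d • B) B := (isBlock_iff_smul_eq_or_disjoint.1 hB
      ⟨d, subset_closure hd⟩).resolve_left hc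
    have k : ∀ x ∈ B, ∀ y ∈ B, d x ≠ y := fun x hx y hy e =>
      Set.disjoint_left.1 dj (Set.smul_mem_smul_set hx) (show d x ∈ B from e ▸ hy)
    have s : ({a, b, d a, d b} : Finset β) ⊆ d.support := by
      simp only [Finset.insert_subset_iff, Finset.singleton_subset_iff, apply_mem_support,
        mem_support]
      exact ⟨k a ha a ha, k b hb b hb, d.injective.ne (k a ha a ha), d.injective.ne (k b hb b hb)⟩
    have c := Finset.card_le_card s
    rw [(hD d hd).card_support, Finset.card_eq_four.2 ⟨_, _, _, _, ab, (k a ha a ha).symm,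
      (k b hb a ha).symm, (k a ha b hb).symm, (k b hb b hb).symm, d.injective.ne ab, rfl⟩] at c
    omega
  refine Or.inr (Set.eq_univ_of_forall fun x => ?_)
  obtain ⟨g, rfl⟩ := htr.exists_smul_eq a x
  exact (mem_stabilizer_iff.1 (this g.2)) ▸ Set.smul_mem_smul_set ha

variable {α : Type*} [Fintype α] [DecidableEq α] {H L : Subgroup (Perm α)}

theorem not_cen (hq : Cfsg.IsQuasisimple L) {t : Perm α} (h3 : IsThreeCycle t) (ht : t ∈ L)
    (hc : ∀ l ∈ L, t * l = l * t) : False := by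
  obtain ⟨a, ha, hs⟩ := h3.isCycle
  have k : ∀ l ∈ L, ∃ i : ℤ, l a = (t ^ i) a := fun l hl => by
    obtain ⟨i, hi⟩ := hs (y := l a) fun e => ha (l.injective (by
      rw [← mul_apply, ← hc l hl, mul_apply, e]))
    exact ⟨i, hi.symm⟩
  have k2 : ∀ l ∈ L, ∀ m ∈ L, l (m a) = m (l a) := fun l hl m hm => by
    obtain ⟨i, hi⟩ := k l hl
    obtain ⟨j, hj⟩ := k m hm
    have c1 : l * t ^ j = t ^ j * l := (Commute.zpow_left (hc l hl) j).eq.symm
    have c2 : m * t ^ i = t ^ i * m := (Commute.zpow_left (hc m hm) i).eq.symm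
    rw [hi, hj, ← mul_apply, ← mul_apply m, c1, c2, mul_apply, mul_apply, hi, hj, ← mul_apply,
      ← mul_apply, zpow_mul_comm]
  have : ⁅L, L⁆ ≤ stabilizer (Perm α) a := commutator_le.2 fun l hl m hm => by
    show l (m (l⁻¹ (m⁻¹ a))) = a
    rw [k2 _ (inv_mem hl) _ (inv_mem hm)]; simp
  rw [H14.quasi_sub_perfect hq] at this
  exact ha (this ht)

theorem alt_of (hq : Cfsg.IsQuasisimple L) (hn : H ≤ normalizer (L : Set (Perm α))) (hLH : L ≤ H)
    (hC : ∀ h ∈ H, (∀ l ∈ L, h * l = l * h) → h ∈ L) {t : Perm α} (h3 : IsThreeCycle t)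
    (ht : t ∈ H) : ∃ s : Finset α, 5 ≤ s.card ∧
      L = (alternatingGroup {x // x ∈ s}).map ofSubtype := by
  classical
  let D : Set (Perm α) := {d | ∃ l ∈ L, d = l * t * l⁻¹}
  have tD : t ∈ D := ⟨1, one_mem L, by simp⟩
  have D3 : ∀ d ∈ D, IsThreeCycle d := by
    rintro _ ⟨l, -, rfl⟩; exact (cycleType_conj (σ := t) (τ := l)).trans h3
  have KH : closure D ≤ H := (closure_le _).2 (by
    rintro _ ⟨l, hl, rfl⟩; exact mul_mem (mul_mem (hLH hl) ht) (inv_mem (hLH hl)))
  have LK : L ≤ closure D := by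
    refine (H14.quasi_sub_normalized hq (le_normalizer_closure_iff.2 ?_)).resolve_right fun h => ?_
    · rintro l hl _ ⟨m, hm, rfl⟩
      exact subset_closure ⟨l * m, mul_mem hl hm, by group⟩
    · have h1 : ⁅zpowers t, L⁆ ≤ closure D ⊓ L := by
        refine le_inf ((commutator_le.2 fun x hx l hl => ?_)) ?_
        · obtain ⟨i, rfl⟩ := hx
          have e : ⁅t ^ i, l⁆ = t ^ i * (l * t * l⁻¹) ^ (-i) := by
            rw [conj_zpow, commutatorElement_def]; group
          exact e ▸ mul_mem (zpow_mem (subset_closure tD) i)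
            (zpow_mem (subset_closure (show l * t * l⁻¹ ∈ D from ⟨l, hl, rfl⟩)) _)
        · exact commutator_le.2 fun x hx l hl => by
            rw [commutatorElement_def]
            exact mul_mem ((mem_normalizer_iff.1 (hn (zpowers_le.2 ht hx)) l).1 hl) (inv_mem hl)
      have h2 := H14.commutator_eq_bot_iff_comm.1 (H14.commutator_eq_bot_of_perfect
        (H14.quasi_sub_perfect hq) (H14.commutator_eq_bot_mono h h1 le_rfl)) t (mem_zpowers t)
      exact not_cen hq h3 (hC t ht h2) h2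
  let s : Finset α := Finset.univ.filter fun x => ∃ l ∈ L, l⁻¹ x ∈ t.support
  have Ds : ∀ d ∈ D, d.support ⊆ s := by
    rintro _ ⟨l, hl, rfl⟩ x hx
    rw [support_conj, Finset.mem_map] at hx
    obtain ⟨y, hy, rfl⟩ := hx
    exact Finset.mem_filter.2 ⟨Finset.mem_univ _, l, hl, by simpa using hy⟩
  have h5 : 5 ≤ s.card := by
    by_contra h
    exact H14.quasi_not_le_solvable hq (Cfsg.Agent.S4337.small s (by omega) D Ds) LK
  let D' : Set (Perm {x // x ∈ s}) := ofSubtype ⁻¹' D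
  have im : ofSubtype '' D' = D := Set.image_preimage_eq_of_subset fun d hd =>
    mem_range_ofSubtype_iff.2 fun x hx => Ds d hd hx
  have mp : (closure D').map ofSubtype = closure D := by rw [MonoidHom.map_closure, im]
  obtain ⟨t', ht', e⟩ := im.ge tD
  have al : closure D' = alternatingGroup _ := by
    refine prim3 (fun d hd => (cycleType_ofSubtype (g := d)).symm.trans (D3 _ hd)) ht' ?_
    obtain ⟨a, ha, hs⟩ := h3.isCycle
    have k : ∀ x ∈ s, ∃ g ∈ closure D, g a = x := fun x hx => by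
      obtain ⟨-, l, hl, h⟩ := Finset.mem_filter.1 hx
      obtain ⟨i, hi⟩ := hs (mem_support.1 h)
      exact ⟨l * t ^ i, mul_mem (LK hl) (zpow_mem (subset_closure tD) i), by
        rw [mul_apply, hi]; simp⟩
    refine ⟨fun x y => ?_⟩
    obtain ⟨g, hg, e1⟩ := k x x.2
    obtain ⟨g', hg', e2⟩ := k y y.2
    obtain ⟨c, hc, e3⟩ := mp.ge (mul_mem hg' (inv_mem hg))
    refine ⟨⟨c, hc⟩, Subtype.ext ?_⟩
    show (c x).1 = y
    rw [← ofSubtype_apply_coe, e3, mul_apply, ← e1, ← e2]; simp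
  rw [al] at mp
  refine ⟨s, h5, le_antisymm (mp ▸ LK) ?_⟩
  haveI := alternatingGroup.isSimpleGroup (α := {x // x ∈ s}) (by simpa using h5)
  let f := (ofSubtype : Perm {x // x ∈ s} →* Perm α).comp (alternatingGroup _).subtype
  have nm : (L.comap f).Normal := ⟨fun l hl g =>
    by
      rw [mem_comap, map_mul, map_mul, map_inv]
      exact (mem_normalizer_iff.1 (hn (KH (mp.le ⟨g, g.2, rfl⟩))) _).1 hl⟩
  rcases nm.eq_bot_or_eq_top with h | h
  · refine absurd (eq_bot_iff.2 fun l hl => ?_) (H14.quasi_sub_ne_bot hq)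
    obtain ⟨c, hc, rfl⟩ := mp.ge (LK hl)
    have : (⟨c, hc⟩ : alternatingGroup _) ∈ L.comap f := hl
    rw [h, mem_bot, Subtype.ext_iff] at this
    rw [show c = 1 from this, map_one]; exact one_mem _
  · rintro _ ⟨c, hc, rfl⟩
    exact (h ▸ mem_top _ : (⟨c, hc⟩ : alternatingGroup _) ∈ L.comap f)

theorem exists_three {s : Finset α} (h : 3 ≤ s.card) : ∃ c : Perm α, IsThreeCycle c ∧
    ∀ x ∉ s, c x = x := by
  obtain ⟨a, b, c, ha, hb, hc, ab, ac, bc⟩ := Finset.two_lt_card_iff.1 h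
  refine ⟨_, isThreeCycle_swap_mul_swap_same ab ac bc, fun x hx => ?_⟩
  rw [mul_apply, swap_apply_of_ne_of_ne, swap_apply_of_ne_of_ne] <;>
    first | (rintro rfl; contradiction) | skip
  all_goals rw [swap_apply_of_ne_of_ne] <;> (rintro rfl; contradiction)

theorem main (hq : Cfsg.IsQuasisimple L) (hn : H ≤ normalizer (L : Set (Perm α))) (hLH : L ≤ H)
    (hC : ∀ h ∈ H, (∀ l ∈ L, h * l = l * h) → h ∈ L) (P : Sylow 3 (Perm α)) (hP : P.1 ≤ H)
    (h3 : 3 ≤ Fintype.card α) : ∃ m, Fintype.card α ≤ m + 2 ∧ m ≤ Fintype.card α ∧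
      Nonempty (L ≃* alternatingGroup (Fin m)) := by
  haveI : Fact (Nat.Prime 3) := ⟨by decide⟩
  have pg : ∀ c : Perm α, IsThreeCycle c → IsPGroup 3 (zpowers c) := fun c hc =>
    IsPGroup.of_card (n := 1) (by rw [Nat.card_zpowers, hc.orderOf, pow_one])
  have cj : ∀ {M : Subgroup (Perm α)}, P.1 ≤ M → ∀ c ∈ M, IsThreeCycle c →
      ∃ g ∈ M, g * c * g⁻¹ ∈ H := fun hM c hc h => by
    obtain ⟨g, hg, e⟩ := (H98.isSyl_sylow_of_le P hM).exists_cj_le (pg c h) (zpowers_le.2 hc)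
    exact ⟨g, hg, hP (e ⟨c, mem_zpowers c, rfl⟩)⟩
  obtain ⟨c, hc, -⟩ := exists_three (s := (Finset.univ : Finset α)) h3
  obtain ⟨g, -, ht⟩ := cj le_top c trivial hc
  obtain ⟨s, h5, e⟩ := alt_of hq hn hLH hC ((cycleType_conj (σ := c) (τ := g)).trans hc) ht
  refine ⟨s.card, ?_, s.card_le_univ, ⟨(MulEquiv.subgroupCongr e).trans
    ((equivMapOfInjective _ _ ofSubtype_injective).symm.trans
      (Equiv.altCongrHom s.equivFin))⟩⟩
  by_contra hlt
  have out : ∀ l ∈ L, ∀ x ∉ s, l x = x := fun l hl x hx => by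
    obtain ⟨k, -, rfl⟩ := e.le hl
    exact ofSubtype_apply_of_not_mem k hx
  have ins : ∀ x ∈ s, ∃ l ∈ L, l x ≠ x := fun x hx => by
    obtain ⟨y, hy, ne⟩ := s.exists_mem_ne (by omega) x
    obtain ⟨k, hk⟩ := (alternatingGroup.isPretransitive_of_three_le_card {x // x ∈ s}
      (by simp; omega)).exists_smul_eq ⟨x, hx⟩ ⟨y, hy⟩
    refine ⟨ofSubtype k.1, e.ge ⟨k, k.2, rfl⟩, ?_⟩
    rw [ofSubtype_apply_of_mem _ hx, show k.1 ⟨x, hx⟩ = ⟨y, hy⟩ from hk]; exact ne
  have pres : ∀ h ∈ H, ∀ x ∈ s, h x ∈ s := fun h hh x hx => by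
    obtain ⟨l, hl, ne⟩ := ins x hx
    by_contra h1
    have := out _ ((mem_normalizer_iff.1 (hn hh) l).1 hl) _ h1
    exact ne (by simpa using this)
  let M : Subgroup (Perm α) :=
    { carrier := {g | ∀ x, g x ∈ s ↔ x ∈ s}
      one_mem' := fun _ => Iff.rfl
      mul_mem' := fun ha hb x => (ha _).trans (hb x)
      inv_mem' := fun {a} ha x => by rw [← ha]; simp }
  have HM : H ≤ M := fun h hh x =>
    ⟨fun hx => by simpa using pres _ (inv_mem hh) _ hx, pres h hh x⟩
  obtain ⟨c, hc, h1⟩ := exists_three (s := sᶜ) (by rw [Finset.card_compl]; omega)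
  have fx : ∀ x ∈ s, c x = x := fun x hx => h1 x (by simpa)
  obtain ⟨g, hg, ht⟩ := cj (hP.trans HM) c (fun x => ⟨fun hx => by
    rwa [c.injective (fx _ hx)] at hx, fun hx => by rwa [fx x hx]⟩) hc
  have cm : ∀ l ∈ L, g * c * g⁻¹ * l = l * (g * c * g⁻¹) := fun l hl =>
    Perm.Disjoint.commute fun x => by
      by_cases hx : x ∈ s
      · left; rw [mul_apply, mul_apply, fx _ ((M.inv_mem hg x).2 hx)]; simp
      · exact Or.inr (out l hl x hx)
  exact not_cen hq ((cycleType_conj (σ := c) (τ := g)).trans hc) (hC _ ht cm) cm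

end H72.A3
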