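/- D3 tower (row S5261), job Real: the triality group extended by field automorphisms. -/
import Cfsg.Agent.H90.D3Emb
import Cfsg.Agent.H68.TwGRD

set_option autoImplicit false
set_option linter.unusedSectionVars false
set_option linter.unusedSimpArgs false
set_option maxRecDepth 100000

open Subgroup H90.D3 H68 Cfsg.Lie SemidirectProduct

universe v

namespace H72.D3R

variable {K : Type v} [Field K] [Fintype K]

theorem map_wd (φ : K →+* K) (w : List (ℕ × K)) : Matrix.GeneralLinearGroup.map φ ((mat chevD4 K).wd w) =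
    (mat chevD4 K).wd (w.map fun p => (p.1, φ p.2)) := by
  induction w with
  | nil => simp
  | cons p w ih => rw [CM.wd_cons, map_mul, ih, List.map_cons, CM.wd_cons, mat_x, H68.map_xU]

theorem map_mem (q : ℕ) (φ : K →+* K) {g : GL chevD4.Idx K} (hg : g ∈ twistedD4 K q) :
    Matrix.GeneralLinearGroup.map φ g ∈ twistedD4 K q := by
  rw [twistedD4, mat_genSubgroup] at hg
  induction hg using closure_induction with
  | mem x hx =>
    obtain ⟨w, hw, rfl⟩ := hx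
    rw [map_wd]
    refine wd_mem_D4 (mem_d4Words.2 ?_)
    rcases mem_d4Words.1 hw with (⟨t, rfl⟩ | ⟨t, rfl⟩) | ⟨t, h, rfl⟩ | ⟨t, h, rfl⟩
    · exact .inl (.inl ⟨φ t, by simp⟩)
    · exact .inl (.inr ⟨φ t, by simp⟩)
    · exact .inr (.inl ⟨φ t, by rw [← map_pow, h], by simp⟩)
    · exact .inr (.inr ⟨φ t, by rw [← map_pow, h], by simp⟩)
  | one => rw [map_one]; exact one_mem _
  | mul x y _ _ hx hy => rw [map_mul]; exact mul_mem hx hy
  | inv x _ hx => rw [map_inv]; exact inv_mem hx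

/-- the field automorphisms of the triality group -/
def fA (q : ℕ) : RingAut K →* MulAut (twistedD4 K q) where
  toFun σ :=
    { toFun := fun g => ⟨_, map_mem q (σ : K →+* K) g.2⟩
      invFun := fun g => ⟨_, map_mem q (σ.symm : K →+* K) g.2⟩
      left_inv := fun _ => Subtype.ext (Units.ext (Matrix.ext fun _ _ => σ.symm_apply_apply _))
      right_inv := fun _ => Subtype.ext (Units.ext (Matrix.ext fun _ _ => σ.apply_symm_apply _))
      map_mul' := fun _ _ => Subtype.ext (map_mul _ _ _) }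
  map_one' := MulEquiv.ext fun _ => Subtype.ext (Units.ext (Matrix.ext fun _ _ => rfl))
  map_mul' _ _ := MulEquiv.ext fun _ => Subtype.ext (Units.ext (Matrix.ext fun _ _ => rfl))

theorem fA_val (q : ℕ) (σ : RingAut K) (g : twistedD4 K q) : (fA q σ g : GL chevD4.Idx K) =
    Matrix.GeneralLinearGroup.map (σ : K →+* K) g := rfl

variable {T : CF K}

theorem map_wd_fa (φ : RingAut K) (u : Co T) :
    Matrix.GeneralLinearGroup.map (φ : K →+* K) (wd u) = wd (fa T φ u) := by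
  rw [wd_def, wd_def, map_wd]
  simp [fa, T.comm]

theorem chis (a b c d : Kˣ) :
    (CM.chi (tl chevD4 [a, b, c, d]) 18 : K) = a ^ 2 / b ∧ (CM.chi (tl chevD4 [a, b, c, d]) 13 : K) = c ^ 2 / b ∧
    (CM.chi (tl chevD4 [a, b, c, d]) 12 : K) = d ^ 2 / b ∧
    (CM.chi (tl chevD4 [a, b, c, d]) 14 : K) = b ^ 2 / (a * c * d) ∧
    (CM.chi (tl chevD4 [a, b, c, d]) 19 : K) = a * b / (c * d) ∧
    (CM.chi (tl chevD4 [a, b, c, d]) 16 : K) = c * b / (a * d) ∧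
    (CM.chi (tl chevD4 [a, b, c, d]) 15 : K) = d * b / (a * c) ∧
    (CM.chi (tl chevD4 [a, b, c, d]) 17 : K) = c * d / a ∧
    (CM.chi (tl chevD4 [a, b, c, d]) 20 : K) = a * d / c ∧
    (CM.chi (tl chevD4 [a, b, c, d]) 21 : K) = a * c / d ∧
    (CM.chi (tl chevD4 [a, b, c, d]) 22 : K) = a * c * d / b ∧
    (CM.chi (tl chevD4 [a, b, c, d]) 23 : K) = b := by
  rw [chi_tl _ rfl (z := [2, -1, 0, 0]) (by decide), chi_tl _ rfl (z := [0, -1, 2, 0]) (by decide),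
    chi_tl _ rfl (z := [0, -1, 0, 2]) (by decide), chi_tl _ rfl (z := [-1, 2, -1, -1]) (by decide),
    chi_tl _ rfl (z := [1, 1, -1, -1]) (by decide), chi_tl _ rfl (z := [-1, 1, 1, -1]) (by decide),
    chi_tl _ rfl (z := [-1, 1, -1, 1]) (by decide), chi_tl _ rfl (z := [-1, 0, 1, 1]) (by decide),
    chi_tl _ rfl (z := [1, 0, -1, 1]) (by decide), chi_tl _ rfl (z := [1, 0, 1, -1]) (by decide),
    chi_tl _ rfl (z := [1, -1, 1, 1]) (by decide), chi_tl _ rfl (z := [0, 1, 0, 0]) (by decide)]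
  simp [div_eq_mul_inv, mul_comm, mul_left_comm, mul_assoc, zpow_ofNat]

theorem tor_wd {a b c d : Kˣ} (hb : T.σ b = b) (hc : (c : K) = T.σ a) (hd : (d : K) = T.σ (T.σ a)) {x : K} {y : T.k}
    (hx : x = a ^ 2 / b) (hy : (y : K) = b ^ 2 / T.nm a) (u : Co T) :
    (mat chevD4 K).tor (tl chevD4 [a, b, c, d]) * wd u * ((mat chevD4 K).tor (tl chevD4 [a, b, c, d]))⁻¹ =
      wd (dg T x y u) := by
  obtain ⟨c1, c2, c3, c4, c5, c6, c7, c8, c9, c10, c11, c12⟩ := chis a b c d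
  have h1 : (a : K) ≠ 0 := a.ne_zero
  have h2 : (b : K) ≠ 0 := b.ne_zero
  have h3 : T.σ a ≠ 0 := hc ▸ c.ne_zero
  have h4 : T.σ (T.σ a) ≠ 0 := hd ▸ d.ne_zero
  rw [wd_def, wd_def, CM.tor_conj_wd _ _ (by simp; decide)]
  refine congrArg _ ?_
  simp only [List.map_cons, List.map_nil, List.cons.injEq, Prod.mk.injEq, true_and, and_true, c1, c2, c3, c4, c5,
    c6, c7, c8, c9, c10, c11, c12, dg, hx, hy, hc, hd, CF.sh, CF.nm, map_mul, map_div₀, map_pow, hb, T.cube]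
  refine ⟨?_, ?_, ?_, ?_, ?_, ?_, ?_, ?_⟩ <;> field_simp

theorem exists_ab {x : K} {y : T.k} (hx : x ≠ 0) (hy : (y : K) ≠ 0) :
    ∃ a b : K, a ≠ 0 ∧ b ≠ 0 ∧ T.σ b = b ∧ x = a ^ 2 / b ∧ (y : K) = b ^ 2 / T.nm a := by
  have hn : ∀ a : K, a ≠ 0 → T.nm a ≠ 0 := fun a ha => by simp [CF.nm, ha]
  let f : {a : K // a ≠ 0} × {b : K // b ≠ 0 ∧ T.σ b = b} → {a : K // a ≠ 0} × {b : K // b ≠ 0 ∧ T.σ b = b} :=
    fun p => (⟨p.1.1 ^ 2 / p.2.1, div_ne_zero (pow_ne_zero _ p.1.2) p.2.2.1⟩,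
      ⟨p.2.1 ^ 2 / T.nm p.1.1, div_ne_zero (pow_ne_zero _ p.2.2.1) (hn _ p.1.2), by simp [p.2.2.2]⟩)
  have hf : Function.Injective f := by
    rintro ⟨⟨a, ha⟩, ⟨b, hb, hb'⟩⟩ ⟨⟨a', ha'⟩, ⟨b', hc, hc'⟩⟩ e
    have e1 : a ^ 2 / b = a' ^ 2 / b' := congrArg (·.1.1) e
    have e2 : b ^ 2 / T.nm a = b' ^ 2 / T.nm a' := congrArg (·.2.1) e
    obtain ⟨r, rfl⟩ : ∃ r, a = r * a' := ⟨a / a', by field_simp⟩
    obtain ⟨s, rfl⟩ : ∃ s, b = s * b' := ⟨b / b', by field_simp⟩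
    have hr : r ≠ 0 := left_ne_zero_of_mul ha
    have hs : s ≠ 0 := left_ne_zero_of_mul hb
    have hs' : T.σ s = s := by
      rw [map_mul, hc'] at hb'
      exact mul_right_cancel₀ hc hb'
    have n1 := hn a' ha'
    have n2 := hn r hr
    rw [T.nm_mul] at e2
    have e3 : r ^ 2 = s := by field_simp at e1; exact e1
    have e4 : s ^ 2 = T.nm r := by field_simp at e2; exact e2
    have e5 : T.σ r = r := by
      have : T.σ r ^ 2 = r ^ 2 := by rw [← map_pow, e3, hs']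
      rcases sq_eq_sq_iff_eq_or_eq_neg.1 this with e | e
      · exact e
      · have := T.cube r
        rw [e, map_neg, e, neg_neg, e] at this
        rw [e, this]
    have e6 : r = 1 := by
      rw [← e3, CF.nm, e5, e5] at e4
      exact mul_left_cancel₀ (pow_ne_zero 3 hr) (by linear_combination e4)
    subst e6
    obtain rfl : s = 1 := by rw [← e3, one_pow]
    simp
  obtain ⟨⟨⟨a, ha⟩, ⟨b, hb, hb'⟩⟩, e⟩ := Finite.surjective_of_injective hf (⟨x, hx⟩, ⟨y, hy, y.2⟩)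
  exact ⟨a, b, ha, hb, hb', (congrArg (·.1.1) e).symm, (congrArg (·.2.1) e).symm⟩

theorem neg_one_q : (-1 : K) ^ T.q = -1 := by rw [← T.pw]; simp

/-- the word of `n₁` -/
def w1 : List (ℕ × K) := [(18, 1), (13, 1), (12, 1), (5, -1), (10, -1), (11, -1), (18, 1), (13, 1), (12, 1)]
/-- the word of `n₂` -/
def w2 : List (ℕ × K) := [(14, 1), (9, -1), (14, 1)]

theorem w1_mem : (mat chevD4 K).wd w1 ∈ twistedD4 K T.q := by
  have h1 : (mat chevD4 K).wd [(18, 1), (13, 1), (12, 1)] ∈ twistedD4 K T.q :=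
    wd_mem_D4 (mem_d4Words.2 (.inl (.inl ⟨1, by simp⟩)))
  have h2 : (mat chevD4 K).wd [(5, -1), (10, -1), (11, -1)] ∈ twistedD4 K T.q :=
    wd_mem_D4 (mem_d4Words.2 (.inl (.inr ⟨-1, by simp only [pow_two, pow_mul, neg_one_q]⟩)))
  have := mul_mem (mul_mem h1 h2) h1
  rwa [← CM.wd_append, ← CM.wd_append] at this

theorem w2_mem : (mat chevD4 K).wd w2 ∈ twistedD4 K T.q := by
  have h1 : (mat chevD4 K).wd [(14, 1)] ∈ twistedD4 K T.q :=
    wd_mem_D4 (mem_d4Words.2 (.inr (.inl ⟨1, by simp, rfl⟩)))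
  have h2 : (mat chevD4 K).wd [(9, -1)] ∈ twistedD4 K T.q :=
    wd_mem_D4 (mem_d4Words.2 (.inr (.inr ⟨-1, neg_one_q, rfl⟩)))
  have := mul_mem (mul_mem h1 h2) h1
  rwa [← CM.wd_append, ← CM.wd_append] at this

theorem n1_eng (b c c' c'' d d' d'' e g : K) :
    (mat chevD4 K).wd w1 * (mat chevD4 K).wd [(14, b), (19, c), (16, -c'), (15, -c''), (17, d), (20, -d'), (21, -d''),
      (22, e), (23, g)] = (mat chevD4 K).wd [(14, e), (19, -d), (16, d'), (15, d''), (17, c), (20, -c'), (21, -c''),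
      (22, -b), (23, g + b * e - (c * d + c' * d' + c'' * d''))] * (mat chevD4 K).wd w1 := by
  simp only [← CM.wd_append]
  refine (congrArg _ ?_).trans ((engD4 [b, c, c', c'', d, d', d'', e, g] (by simp)
    [(18, [(1, [])]), (13, [(1, [])]), (12, [(1, [])]), (5, [(-1, [])]), (10, [(-1, [])]), (11, [(-1, [])]),
      (18, [(1, [])]), (13, [(1, [])]), (12, [(1, [])]),
      (14, [(1, [0])]), (19, [(1, [1])]), (16, [(-1, [2])]), (15, [(-1, [3])]), (17, [(1, [4])]), (20, [(-1, [5])]),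
      (21, [(-1, [6])]), (22, [(1, [7])]), (23, [(1, [8])])]
    [(14, [(1, [7])]), (19, [(-1, [4])]), (16, [(1, [5])]), (15, [(1, [6])]), (17, [(1, [1])]), (20, [(-1, [2])]),
      (21, [(-1, [3])]), (22, [(-1, [0])]), (23, [(1, [8]), (1, [0, 7]), (-1, [1, 4]), (-1, [2, 5]), (-1, [3, 6])]),
      (18, [(1, [])]), (13, [(1, [])]), (12, [(1, [])]), (5, [(-1, [])]), (10, [(-1, [])]), (11, [(-1, [])]),
      (18, [(1, [])]), (13, [(1, [])]), (12, [(1, [])])]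
    (by decide +kernel)).trans (congrArg _ ?_)) <;> simp [evPW, w1]
  ring

theorem n2_eng (a a' a'' c c' c'' d d' d'' e g : K) :
    (mat chevD4 K).wd w2 * (mat chevD4 K).wd [(18, a), (13, a'), (12, a''), (19, c), (16, -c'), (15, -c''), (17, d),
      (20, -d'), (21, -d''), (22, e), (23, g)] = (mat chevD4 K).wd [(18, -c), (13, -c'), (12, -c''), (19, a),
      (16, -a'), (15, -a''), (17, d - (a' * c'' + a'' * c')), (20, -(d' - (a'' * c + a * c''))),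
      (21, -(d'' - (a * c' + a' * c))), (22, a * (c' * c'') + a' * (c'' * c) + a'' * (c * c') - g),
      (23, e - (a' * a'' * c + a'' * a * c' + a * a' * c''))] * (mat chevD4 K).wd w2 := by
  simp only [← CM.wd_append]
  refine (congrArg _ ?_).trans ((engD4 [a, a', a'', c, c', c'', d, d', d'', e, g] (by simp)
    [(14, [(1, [])]), (9, [(-1, [])]), (14, [(1, [])]),
      (18, [(1, [0])]), (13, [(1, [1])]), (12, [(1, [2])]), (19, [(1, [3])]), (16, [(-1, [4])]), (15, [(-1, [5])]),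
      (17, [(1, [6])]), (20, [(-1, [7])]), (21, [(-1, [8])]), (22, [(1, [9])]), (23, [(1, [10])])]
    [(18, [(-1, [3])]), (13, [(-1, [4])]), (12, [(-1, [5])]), (19, [(1, [0])]), (16, [(-1, [1])]), (15, [(-1, [2])]),
      (17, [(1, [6]), (-1, [1, 5]), (-1, [2, 4])]), (20, [(-1, [7]), (1, [2, 3]), (1, [0, 5])]),
      (21, [(-1, [8]), (1, [0, 4]), (1, [1, 3])]), (22, [(1, [0, 4, 5]), (1, [1, 5, 3]), (1, [2, 3, 4]), (-1, [10])]),
      (23, [(1, [9]), (-1, [1, 2, 3]), (-1, [2, 0, 4]), (-1, [0, 1, 5])]),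
      (14, [(1, [])]), (9, [(-1, [])]), (14, [(1, [])])]
    (by decide +kernel)).trans (congrArg _ ?_)) <;> simp [evPW, w2]
  refine ⟨?_, ?_, ?_, ?_, ?_⟩ <;> ring

theorem n1_wd {u : Co T} (hu : u ∈ sQ1 T) : (mat chevD4 K).wd w1 * wd u = wd u.nu1 * (mat chevD4 K).wd w1 := by
  have := n1_eng u.b u.c (T.σ u.c) (T.σ (T.σ u.c)) u.d (T.σ u.d) (T.σ (T.σ u.d)) u.e u.g
  rw [wd_def, wd_def]
  simpa [(mem_sQ1 T).1 hu, Co.nu1, CF.tr] using this

theorem n2_wd {u : Co T} (hu : u ∈ sQ2 T) : (mat chevD4 K).wd w2 * wd u = wd u.nu2 * (mat chevD4 K).wd w2 := by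
  have := n2_eng u.a (T.σ u.a) (T.σ (T.σ u.a)) u.c (T.σ u.c) (T.σ (T.σ u.c)) u.d (T.σ u.d) (T.σ (T.σ u.d)) u.e u.g
  rw [wd_def, wd_def]
  simpa [(mem_sQ2 T).1 hu, Co.nu2, CF.tr, CF.sh, CF.cr, T.cube] using this

section fin

theorem hK : Fintype.card K = T.q ^ 3 := by rw [← Nat.card_eq_fintype_card, T.card]

theorem exists_tor_dg {x : K} {y : T.k} (hx : x ≠ 0) (hy : (y : K) ≠ 0) :
    ∃ t ∈ twistedD4 K T.q, ∀ u, t * wd u * t⁻¹ = wd (dg T x y u) := by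
  obtain ⟨a, b, ha, hb, hb', e1, e2⟩ := exists_ab hx hy
  refine ⟨_, tor_mem_D4 T.pp hK ((tl_mem_F_D4 T.pp hK (a := Units.mk0 a ha) (b := Units.mk0 b hb)).2
    ⟨Units.ext (by simpa [T.pw] using hb'), rfl, rfl⟩), tor_wd hb' ?_ ?_ e1 e2⟩
  · simp [T.pw]
  · simp [T.pw, pow_two, pow_mul]

theorem dg_of_H {t : GL chevD4.Idx K} (h1 : t ∈ (mat chevD4 K).T.H) (h2 : t ∈ twistedD4 K T.q) :
    ∃ (x : K) (y : T.k), x ≠ 0 ∧ (y : K) ≠ 0 ∧ ∀ u, t * wd u * t⁻¹ = wd (dg T x y u) := by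
  rw [twistedD4_eq_Fix T.pp hK] at h2
  obtain ⟨c, hc, rfl⟩ := (H_inf_Fix_D4 T.pp hK).le ⟨h1, h2⟩
  obtain ⟨l, hl, rfl⟩ := exists_tl c
  obtain ⟨a, b, c, d, rfl⟩ := List.length_eq_four.1 hl
  obtain ⟨h, rfl, rfl⟩ := (tl_mem_F_D4 T.pp hK).1 hc
  have hb : T.σ b = b := by rw [T.pw, ← Units.val_pow_eq_pow_val, h]
  refine ⟨a ^ 2 / b, ⟨b ^ 2 / T.nm a, by simp [CF.mem_k, hb]⟩, by simp, by simp [CF.nm], tor_wd hb ?_ ?_ rfl rfl⟩
  · simp [T.pw]
  · simp [T.pw, pow_two, pow_mul]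

variable (T) in
/-- the embedding facts -/
def Emb : Prop := (∀ u w : Co T, wd (u * w) = wd u * wd w) ∧ Function.Injective (wd (T := T)) ∧
  ∀ g, g ∈ (mat chevD4 K).T.U ⊓ twistedD4 K T.q ↔ ∃ u : Co T, g = wd u

/-- the embedding -/
noncomputable def ι0 (E : Emb T) : Co T →* twistedD4 K T.q :=
  MonoidHom.mk' (fun u => ⟨wd u, ((E.2.2 _).2 ⟨u, rfl⟩).2⟩) fun u w => Subtype.ext (E.1 u w)

theorem ι0_val (E : Emb T) (u : Co T) : (ι0 E u : GL chevD4.Idx K) = wd u := rfl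

theorem nor_dec (E : Emb T) {M : twistedD4 K T.q} (h : ∀ u, ∃ w, M * ι0 E u * M⁻¹ = ι0 E w) :
    ∃ (s : Co T) (x : K) (y : T.k), x ≠ 0 ∧ (y : K) ≠ 0 ∧ ∀ u, M * ι0 E u * M⁻¹ = ι0 E (s * dg T x y u * s⁻¹) := by
  have hA := isTw_D4 T.pp (hK (T := T))
  have h1 : M ∈ hA.grdK.B := hA.grdK.mem_B_of_conj_U (by rw [hA.grdK_Gp]; trivial) fun g hg => by
    obtain ⟨u, e⟩ := (E.2.2 g).1 ⟨hA.mem_grdK_U.1 hg, g.2⟩
    obtain ⟨w, e'⟩ := h u
    rw [show g = ι0 E u from Subtype.ext e, e']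
    exact mem_sup_left (hA.mem_grdK_U.2 ((E.2.2 _).2 ⟨w, rfl⟩).1)
  obtain ⟨g, hg, t, ht, rfl⟩ := hA.grdK.mem_B.1 h1
  obtain ⟨s, e⟩ := (E.2.2 g).1 ⟨hA.mem_grdK_U.1 hg, g.2⟩
  obtain ⟨x, y, hx, hy, e'⟩ := dg_of_H (hA.mem_grdK_H.1 ht) t.2
  refine ⟨s, x, y, hx, hy, fun u => ?_⟩
  have e2 : t * ι0 E u * t⁻¹ = ι0 E (dg T x y u) := Subtype.ext (e' u)
  rw [map_mul, map_mul, map_inv, ← e2, show g = ι0 E s from Subtype.ext e]
  group

variable (T) in
/-- the realizing group -/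
abbrev GG (Φ : Subgroup (RingAut K)) : Type v := twistedD4 K T.q ⋊[(fA T.q).comp Φ.subtype] Φ

theorem act (E : Emb T) {Φ : Subgroup (RingAut K)} (g : GG T Φ) (u : Co T) :
    g * inl (ι0 E u) * g⁻¹ = inl (g.left * ι0 E (fa T g.right u) * g.left⁻¹) := by
  have e : ι0 E (fa T g.right u) = ((fA T.q).comp Φ.subtype) g.right (ι0 E u) :=
    Subtype.ext (map_wd_fa _ u).symm
  rw [e, map_mul, map_mul, inl_aut, map_inv, map_inv]
  conv_lhs => rw [← inl_left_mul_inr_right g]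
  group

theorem card_Co (E : Emb T) : Nat.card (Co T) = T.q ^ 12 := by
  rw [← card_U_D4 T.pp hK]
  exact Nat.card_eq_of_bijective (fun u => ⟨wd u, (E.2.2 _).2 ⟨u, rfl⟩⟩)
    ⟨fun u w e => E.2.1 (congrArg Subtype.val e), fun g => let ⟨u, e⟩ := (E.2.2 _).1 g.2; ⟨u, Subtype.ext e.symm⟩⟩

theorem real (p : ℕ) [hp : Fact p.Prime] [CharP K p] (E : Emb T) (Φ : Subgroup (RingAut K))
    (hΦ : (Nat.card Φ).Coprime p) [Finite (GG T Φ)] : Rl T p Φ ((inl : _ →* GG T Φ).comp (ι0 E)) := by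
  have inj : Function.Injective ((inl : _ →* GG T Φ).comp (ι0 E)) := fun u w e =>
    E.2.1 (congrArg Subtype.val (inl_injective e))
  refine ⟨inj, ?_, fun g hg => ?_, fun δ hδ => ?_, ⟨inl ⟨_, w1_mem⟩, fun u hu => ?_⟩, ⟨inl ⟨_, w2_mem⟩, fun u hu => ?_⟩⟩
  · have h1 : IsPGroup p ((inl : _ →* GG T Φ).comp (ι0 E)).range :=
      (pgroup_Co p).of_surjective _ (MonoidHom.rangeRestrict_surjective _)
    have h2 := card_mul_index ((inl : _ →* GG T Φ).comp (ι0 E)).range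
    rw [← Nat.card_congr (MonoidHom.ofInjective inj).toEquiv, card_Co E, SemidirectProduct.card, card_D4 T.pp hK,
      mul_assoc, mul_assoc, mul_assoc] at h2
    have hq : T.q ≠ 0 := T.pp.ne_zero
    have h3 := Nat.eq_of_mul_eq_mul_left (by positivity) h2
    have h4 : p ∣ T.q := by
      obtain ⟨n, -, e⟩ := FiniteField.card K p
      exact hp.out.dvd_of_dvd_pow (hK (T := T) ▸ e ▸ dvd_pow_self p n.ne_zero)
    have h5 : ∀ n, n ≠ 0 → ¬ p ∣ T.q ^ n - 1 := fun n hn e => hp.out.not_dvd_one (by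
      have := Nat.dvd_sub (h4.trans (dvd_pow_self _ hn)) e
      rwa [Nat.sub_sub_self (Nat.one_le_pow _ _ (Nat.pos_of_ne_zero hq))] at this)
    have h6 : ¬ p ∣ T.q ^ 8 + T.q ^ 4 + 1 := fun e => hp.out.not_dvd_one
      ((Nat.dvd_add_right (dvd_add (h4.trans (dvd_pow_self _ (by decide))) (h4.trans (dvd_pow_self _ (by decide))))).1 e)
    refine ⟨h1.toSylow ?_, rfl⟩
    rw [h3, hp.out.dvd_mul, hp.out.dvd_mul, hp.out.dvd_mul]
    rintro (e | e | e | e)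
    exacts [h5 2 (by decide) e, h5 6 (by decide) e, h6 e, hp.out.coprime_iff_not_dvd.1 hΦ.symm e]
  · obtain ⟨s, x, y, hx, hy, e⟩ := nor_dec E (M := g.left) fun u => by
      obtain ⟨w, hw⟩ := (mem_normalizer_iff.1 hg _).1 ⟨fa T (g.right : RingAut K)⁻¹ u, rfl⟩
      refine ⟨w, inl_injective (φ := (fA T.q).comp Φ.subtype) ?_⟩
      have h2 : fa T g.right (fa T (g.right : RingAut K)⁻¹ u) = u := by
        ext <;> exact RingEquiv.apply_symm_apply _ _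
      rw [← h2, ← act E g]
      exact hw.symm
    exact ⟨s, ⟨x, y, g.right, hx, hy⟩, g.right.2, fun u => (act E g u).trans (congrArg _ (e _))⟩
  · obtain ⟨t, ht, e⟩ := exists_tor_dg δ.hx δ.hy
    exact ⟨⟨⟨t, ht⟩, ⟨δ.φ, hδ⟩⟩, fun u => (act E _ u).trans (congrArg _ (Subtype.ext (e _)))⟩
  · rw [MonoidHom.comp_apply, MonoidHom.comp_apply, ← map_inv, ← map_mul, ← map_mul]
    exact congrArg _ (Subtype.ext (mul_inv_eq_iff_eq_mul.2 (n1_wd hu)))
  · rw [MonoidHom.comp_apply, MonoidHom.comp_apply, ← map_inv, ← map_mul, ← map_mul]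
    exact congrArg _ (Subtype.ext (mul_inv_eq_iff_eq_mul.2 (n2_wd hu)))

end fin

theorem jobReal (h : JobEmb.{v}) : JobReal.{v} := fun p _ K _ _ _ T Φ hΦ => by
  have := Fintype.ofFinite K
  have : Finite (RingAut K) := Finite.of_injective (fun φ : RingAut K => (φ : K → K)) DFunLike.coe_injective
  have : Finite (GG T Φ) := Finite.of_equiv _ SemidirectProduct.equivProd.symm
  exact ⟨GG T Φ, inferInstance, this, _, real p (h p K T) Φ hΦ⟩

end H72.D3R
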