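/- Tower HM: the automizer of `Q = 4 ∘ Q₈`. -/
import Cfsg.Agent.H87.HMK2

set_option autoImplicit false
set_option linter.unusedSectionVars false
set_option maxRecDepth 100000

namespace H72.Q3
open Cfsg Cfsg.FusionSystem H92 H93 Subgroup H92.Es H87.HM
open Equiv (Perm swap)

universe u

/-- A model of the group `4 ∘ Q₈`. -/
def E4 : Type := ZMod 2 × ZMod 2 × ZMod 2 × ZMod 2

instance : DecidableEq E4 := inferInstanceAs (DecidableEq (ZMod 2 × ZMod 2 × ZMod 2 × ZMod 2))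
instance : Fintype E4 := inferInstanceAs (Fintype (ZMod 2 × ZMod 2 × ZMod 2 × ZMod 2))

def mk (a y w e : ZMod 2) : E4 := (a, y, w, e)

instance : Mul E4 := ⟨fun u v => mk (u.1 + v.1)
  (u.2.1 + ((1 + u.2.2.2) * v.2.1 + u.2.2.2 * (v.2.2.1 + v.1)) + u.1 * v.1)
  (u.2.2.1 + ((1 + u.2.2.2) * v.2.2.1 + u.2.2.2 * (v.2.1 + v.1)) + u.1 * v.1) (u.2.2.2 + v.2.2.2)⟩
instance : One E4 := ⟨mk 0 0 0 0⟩
instance : Inv E4 := ⟨fun u => u * u * u⟩
instance : Group E4 := Group.ofLeftAxioms (by decide +kernel) (by decide +kernel) (by decide +kernel)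

def e : Fin 3 → E4 := ![mk 0 1 0 0, mk 0 0 0 1, mk 1 0 0 1]
def zz : E4 := mk 0 1 1 0
def bb : E4 := mk 1 1 0 0
def xi (u : E4) : E4 := mk (u.1 + u.2.2.2) (u.2.1 + u.1 + u.2.2.2 + u.1 * u.2.2.2)
  (u.2.2.1 + u.1 + u.2.2.2 + u.1 * u.2.2.2) u.2.2.2

/-- The action on the three points. -/
def P (γ : E4 → E4) (π : Perm (Fin 3)) : Prop := ∀ i, γ (e i) = e (π i) ∨ γ (e i) = e (π i) * zz

instance (γ : E4 → E4) (π : Perm (Fin 3)) : Decidable (P γ π) := by unfold P; infer_instance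

theorem d1 : ∀ u0 u1 u2 : E4, u0 * u0 = 1 → u1 * u1 = 1 → u0 * u1 ≠ u1 * u0 → u2 * u2 = 1 →
    u0 * u2 ≠ u2 * u0 → u1 * u2 ≠ u2 * u1 → ∃ π : Perm (Fin 3), ∀ i, ![u0, u1, u2] i = e (π i) ∨
      ![u0, u1, u2] i = e (π i) * zz := by decide +kernel

theorem d2 : ∀ u : E4, u * u = 1 ∨ u * u = zz := by decide +kernel

theorem d3 : ∀ u : E4, (∀ v, u * v = v * u) → u * u ≠ 1 → u = bb ∨ u = bb⁻¹ := by decide +kernel

theorem d4 : ∀ u : E4, ∃ i j k l : Fin 2, u = e 0 ^ i.val * e 1 ^ j.val * e 2 ^ k.val * zz ^ l.val := by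
  decide +kernel

set_option synthInstance.maxSize 2000 in
set_option synthInstance.maxHeartbeats 200000 in
theorem d5 : ∀ u0 u1 u2 : E4, (u0 = e 0 ∨ u0 = e 0 * zz) → (u1 = e 1 ∨ u1 = e 1 * zz) →
    (u2 = e 2 ∨ u2 = e 2 * zz) → (∀ i j k l : Fin 2,
      (e 0 ^ i.val * e 1 ^ j.val * e 2 ^ k.val * zz ^ l.val)⁻¹ *
        (u0 ^ i.val * u1 ^ j.val * u2 ^ k.val * zz ^ l.val) ∈ ({1, zz} : Finset E4)) ∧
    (u2 * u1 * u0 = bb → ∃ q, ∀ i j k l : Fin 2, u0 ^ i.val * u1 ^ j.val * u2 ^ k.val * zz ^ l.val =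
      q * (e 0 ^ i.val * e 1 ^ j.val * e 2 ^ k.val * zz ^ l.val) * q⁻¹) := by decide +kernel

theorem d6 : ∀ i j, (e i = e j ∨ e i = e j * zz ∨ e i * zz = e j ∨ e i * zz = e j * zz) → i = j := by
  decide +kernel

theorem d7 : ∀ r π : Perm (Fin 3), r 0 ≠ 0 → π = 1 ∨ π = swap 1 2 ∨ π = r ∨ π = r * swap 1 2 ∨
    π = swap 1 2 * r ∨ π = swap 1 2 * r * swap 1 2 := by decide +kernel

theorem d8 : ∀ π : Perm (Fin 3), π * π * π ≠ 1 → π * swap 1 2 * (π * swap 1 2) * (π * swap 1 2) = 1 := by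
  decide +kernel

theorem d9 : ∀ q, P (fun u => q * u * q⁻¹) 1 ∧ q * bb * q⁻¹ = bb := by decide +kernel

theorem d10 : ∀ v : E4, v.1 = 0 → v.2.2.2 = 0 → v = 1 ∨ v = zz ∨ v = e 0 ∨ v = e 0 * zz := by
  decide +kernel

variable {γ δ ξ : MulAut E4} {π r : Perm (Fin 3)} {Γ Γ' : Subgroup (MulAut E4)}

theorem map_zz (γ : MulAut E4) : γ zz = zz := by
  have h : bb * bb = zz := by decide +kernel
  refine (d2 (γ bb)).elim (fun r => ?_) fun r => by rw [← h, map_mul, r, h]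
  rw [← map_mul, h, map_eq_one_iff γ γ.injective] at r
  exact absurd r (by decide +kernel)

theorem map_bb (γ : MulAut E4) : γ bb = bb ∨ γ bb = bb⁻¹ := d3 _ (fun v => by
    obtain ⟨v, rfl⟩ := γ.surjective v
    rw [← map_mul, ← map_mul, ← (mul_inv_eq_iff_eq_mul.1 (d9 v).2)]) (by
  rw [← map_mul, Ne, map_eq_one_iff γ γ.injective]; decide +kernel)

theorem exP (γ : MulAut E4) : ∃ π, P γ π := by
  have s : ∀ i, γ (e i) * γ (e i) = 1 := fun i => by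
    rw [← map_mul, map_eq_one_iff γ γ.injective]; revert i; decide +kernel
  have c : ∀ i j, i ≠ j → γ (e i) * γ (e j) ≠ γ (e j) * γ (e i) := fun i j => by
    rw [← map_mul, ← map_mul, γ.injective.ne_iff]; revert i j; decide +kernel
  obtain ⟨π, h⟩ := d1 _ _ _ (s 0) (s 1) (c 0 1 (by decide)) (s 2) (c 0 2 (by decide)) (c 1 2 (by decide))
  exact ⟨π, fun i => by have := h i; fin_cases i <;> exact this⟩

theorem P.mul (h : P γ π) (h' : P δ r) : P ⇑(γ * δ) (π * r) := fun i => by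
  have z : zz * zz = 1 := by decide +kernel
  simp only [MulAut.mul_apply, Equiv.Perm.mul_apply]
  rcases h' i with a | a <;> rcases h (r i) with b | b <;>
    simp [a, b, map_zz, mul_assoc, z]

theorem P.uniq {f : E4 → E4} (h : P f π) (h' : P f r) : π = r := Equiv.ext fun i => d6 _ _ (by
  rcases h i with a | a <;> rcases h' i with b | b <;> simp [← a, ← b])

theorem P.one (h : P γ 1) : (∀ u, u⁻¹ * γ u = 1 ∨ u⁻¹ * γ u = zz) ∧
    (γ bb = bb → ∃ q, γ = MulAut.conj q) := by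
  obtain ⟨h1, h2⟩ := d5 _ _ _ (h 0) (h 1) (h 2)
  refine ⟨fun u => ?_, fun r => ?_⟩
  · obtain ⟨i, j, k, l, rfl⟩ := d4 u
    simpa only [map_mul, map_pow, map_zz, Finset.mem_insert, Finset.mem_singleton] using h1 i j k l
  · obtain ⟨q, hq⟩ := h2 (by
      rw [← map_mul, ← map_mul, show e 2 * e 1 * e 0 = bb by decide +kernel, r])
    refine ⟨q, MulEquiv.ext fun u => ?_⟩
    obtain ⟨i, j, k, l, rfl⟩ := d4 u
    rw [MulAut.conj_apply, ← hq]
    simp only [map_mul, map_pow, map_zz]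

/-- What is known about an automizer. -/
structure Gd (ξ : MulAut E4) (Γ : Subgroup (MulAut E4)) : Prop where
  hx : ∀ u, ξ u = xi u
  xi : ξ ∈ Γ
  inn : ∀ q, MulAut.conj q ∈ Γ
  key : ∀ γ ∈ Γ, P γ 1 → γ bb = bb

theorem P_xi (h : ∀ u, ξ u = xi u) : P ξ (swap 1 2) := fun i => by
  rw [h]; revert i; decide +kernel

theorem Gd.cube (g : Gd ξ Γ) (hγ : γ ∈ Γ) (h : P γ π) (c : π * π * π = 1) : γ bb = bb := by
  have k := g.key _ (mul_mem (mul_mem hγ hγ) hγ) (c ▸ (h.mul h).mul h)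
  refine (map_bb γ).resolve_right fun r => ?_
  simp only [MulAut.mul_apply, r, map_inv, inv_inv] at k
  exact absurd k (by decide +kernel)

theorem Gd.sgn (g : Gd ξ Γ) (hγ : γ ∈ Γ) (h : P γ π) (c : π * π * π ≠ 1) : γ bb = bb⁻¹ := by
  have k := g.cube (mul_mem hγ g.xi) (h.mul (P_xi g.hx)) (d8 π c)
  rw [MulAut.mul_apply, g.hx, show Q3.xi bb = bb⁻¹ by decide +kernel, map_inv] at k
  exact inv_eq_iff_eq_inv.1 k

theorem Gd.le (g : Gd ξ Γ) (g' : Gd ξ Γ') (hδ : δ ∈ Γ') (h : P δ r) (h0 : r 0 ≠ 0) : Γ ≤ Γ' := by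
  intro γ hγ
  obtain ⟨π, hπ⟩ := exP γ
  have x := P_xi g.hx
  obtain ⟨η, h1, h2⟩ : ∃ η ∈ Γ', P η π := by
    rcases d7 r π h0 with rfl | rfl | rfl | rfl | rfl | rfl
    exacts [⟨1, one_mem _, fun i => Or.inl rfl⟩, ⟨ξ, g'.xi, x⟩, ⟨δ, hδ, h⟩,
      ⟨_, mul_mem hδ g'.xi, h.mul x⟩, ⟨_, mul_mem g'.xi hδ, x.mul h⟩,
      ⟨_, mul_mem (mul_mem g'.xi hδ) g'.xi, (x.mul h).mul x⟩]
  obtain ⟨π', h3⟩ := exP (η⁻¹ * γ)
  have h4 := h2.mul h3
  rw [mul_inv_cancel_left] at h4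
  obtain rfl : π' = 1 := mul_eq_left.1 (h4.uniq hπ)
  have h5 : η bb = γ bb := by
    by_cases c : π * π * π = 1
    · rw [g.cube hγ hπ c, g'.cube h1 h2 c]
    · rw [g.sgn hγ hπ c, g'.sgn h1 h2 c]
  obtain ⟨q, hq⟩ := h3.one.2 (by rw [MulAut.mul_apply, ← h5, MulAut.inv_apply_self])
  simpa [← hq] using mul_mem h1 (g'.inn q)

theorem P.mv (h : P γ r) {u : E4} (h1 : u.2.2.2 ≠ 0) (h2 : (γ u).1 = 0) (h3 : (γ u).2.2.2 = 0) :
    r 0 ≠ 0 := fun h0 => by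
  have z : zz * zz = 1 := by decide +kernel
  have k : ∀ v : E4, v.2.2.2 = 0 → γ u ≠ γ v := fun v hv r => h1 (γ.injective r ▸ hv)
  have a := h 0
  rw [h0] at a
  rcases d10 _ h2 h3 with b | b | b | b
  · exact k 1 rfl (by rw [b, map_one])
  · exact k zz rfl (by rw [b, map_zz])
  · exact a.elim (fun a => k (e 0) rfl (by rw [a, b])) fun a =>
      k (e 0 * zz) (by decide +kernel) (by rw [map_mul, a, b, map_zz, mul_assoc, z, mul_one])
  · exact a.elim (fun a => k (e 0 * zz) (by decide +kernel) (by rw [map_mul, a, b, map_zz])) fun a =>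
      k (e 0) rfl (by rw [a, b])

section amb
variable {Ω : Type u} [Group Ω] [Finite Ω] {S Q : Subgroup Ω} {W : E4 →* Ω} {g k x : Ω}

def Ac (W : E4 →* Ω) (g : Ω) (γ : MulAut E4) : Prop := ∀ u, g * W u * g⁻¹ = W (γ u)

theorem Ac.mul (h : Ac W g γ) (h' : Ac W k δ) : Ac W (g * k) (γ * δ) := fun u => by
  rw [MulAut.mul_apply, ← h, ← h']; group

theorem Ac.inv (h : Ac W g γ) : Ac W g⁻¹ γ⁻¹ := fun u => by
  have := h (γ⁻¹ u)
  rw [MulAut.apply_inv_self] at this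
  rw [← this]; group

theorem ac_conj (q : E4) : Ac W (W q) (MulAut.conj q) := fun u => by simp

/-- The image of an automizer. -/
def Im (W : E4 →* Ω) (H : Subgroup Ω) : Subgroup (MulAut E4) where
  carrier := {γ | ∃ g ∈ H, Ac W g γ}
  mul_mem' := fun ⟨_, a, b⟩ ⟨_, c, d⟩ => ⟨_, mul_mem a c, b.mul d⟩
  one_mem' := ⟨1, one_mem _, fun u => by simp⟩
  inv_mem' := fun ⟨_, a, b⟩ => ⟨_, inv_mem a, b.inv⟩

/-- The abstract situation. -/
structure Sit (S Q : Subgroup Ω) (W : E4 →* Ω) (x : Ω) : Prop where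
  inj : Function.Injective W
  rg : ∀ y, y ∈ Q ↔ ∃ u, W u = y
  QS : Q ≤ S
  xS : x ∈ S
  act : ∀ u, x * W u * x⁻¹ = W (xi u)
  idx : ∀ s ∈ S, s ∈ Q ∨ x * s ∈ Q

namespace Sit
variable (h : Sit S Q W x)
include h

theorem mem (u : E4) : W u ∈ Q := (h.rg _).2 ⟨u, rfl⟩

theorem exAc (hg : g ∈ Nm Q) : ∃ γ, Ac W g γ := by
  choose f hf using fun u => (h.rg _).1 (conj_mem_of_Nm hg (h.mem u))
  let φ : E4 →* E4 := MonoidHom.mk' f fun u v => h.inj (by rw [map_mul, hf, hf, hf, map_mul]; group)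
  have i : Function.Injective φ := fun u v r => h.inj (by
    have := (hf u).symm.trans ((congrArg W r).trans (hf v))
    simpa using this)
  exact ⟨MulEquiv.ofBijective φ (Finite.injective_iff_bijective.1 i), fun u => (hf u).symm⟩

theorem uniq (a : Ac W g γ) (b : Ac W g δ) : γ = δ := MulEquiv.ext fun u => h.inj ((a u).symm.trans (b u))

theorem x_Nm : x ∈ Nm Q := mem_Nm_of_conj fun y hy => by
  obtain ⟨u, rfl⟩ := (h.rg y).1 hy
  exact h.act u ▸ h.mem _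

theorem S_Nm : S ≤ Nm Q := fun s hs => (h.idx s hs).elim (fun r => le_Nm Q r) fun r =>
  (mul_mem_cancel_left h.x_Nm).1 (le_Nm Q r)

theorem ct_z (hg : g ∈ Nm Q) : g ∈ Ct (zpowers (W zz)) := by
  obtain ⟨γ, a⟩ := h.exAc hg
  refine le_Ct_comm.1 (zpowers_le.2 ?_) (mem_zpowers g)
  refine le_Ct_comm.1 (zpowers_le.2 (mem_Ct.2 fun y hy => ?_)) (mem_zpowers _)
  obtain ⟨n, rfl⟩ := mem_zpowers_iff.1 hy
  rw [← conj_zpow, a, map_zz]

theorem gd {E : FusionSystem S} (hE : SatA 2 E) (a : Ac W x ξ) : Gd ξ (Im W (Aut E Q)) := by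
  have := Fact.mk Nat.prime_two
  have hx : ∀ u, ξ u = xi u := fun u => h.inj ((a u).symm.trans (h.act u))
  refine ⟨hx, ⟨x, Nm_le_Aut E Q ⟨h.xS, h.x_Nm⟩, a⟩, fun q => ⟨_, le_Aut E h.QS (h.mem q), ac_conj q⟩, ?_⟩
  rintro γ ⟨g, hg, b⟩ p
  have k := H92.SatA.le_of_pMod hE (K := Aut E Q ⊓ St Q [zpowers (W zz)]) (fn_of_le_Nm E h.QS h.S_Nm)
    inf_le_left (fun y hy => mem_Nm_inf (le_Nm _ hy) (mem_Nm_St hy.1 (by
      simpa using Ct_le_Nm _ (h.ct_z hy.1))))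
    ((pMod_St (by simpa using hE.pgl (zpowers_le.2 (h.QS (h.mem zz))))).mono inf_le_right le_rfl)
    ⟨hg, ⟨Ct_le_Nm _ (h.ct_z hg.1), fun y hy => by
      obtain ⟨u, rfl⟩ := (h.rg y).1 hy
      rw [b, ← map_inv, ← map_mul]
      rcases p.one.1 u with r | r <;> simp [r]⟩, h.ct_z hg.1⟩
  obtain ⟨s, hs, c, hc, rfl⟩ := (mem_sup_Ct inf_le_right).1 k
  have b' : Ac W s γ := fun u => by
    rw [← b, mul_inv_rev, show s * c * W u * (c⁻¹ * s⁻¹) = s * (c * W u * c⁻¹) * s⁻¹ by group,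
      conj_eq_of_Ct hc (h.mem u)]
  rcases h.idx s hs.1 with r | r <;> obtain ⟨q, hq⟩ := (h.rg _).1 r
  · rw [h.uniq b' (hq ▸ ac_conj q)]; exact (d9 q).2
  · have p1 := (P_xi hx).mul p
    rw [h.uniq (a.mul b') (hq ▸ ac_conj q)] at p1
    exact absurd (p1.uniq (d9 q).1) (by decide)

theorem le {E F : FusionSystem S} (hE : SatA 2 E) (hF : SatA 2 F) {u : E4} (hg : g ∈ Aut F Q)
    (h1 : u.2.2.2 ≠ 0) (h2 : ∀ v, g * W u * g⁻¹ = W v → v.1 = 0 ∧ v.2.2.2 = 0) :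
    Aut E Q ≤ Aut F Q := fun y hy => by
  obtain ⟨ξ, a⟩ := h.exAc h.x_Nm
  obtain ⟨δ, b⟩ := h.exAc hg.1
  obtain ⟨γ, c⟩ := h.exAc hy.1
  obtain ⟨r, p⟩ := exP δ
  obtain ⟨f, hf, d⟩ := (h.gd hE a).le (h.gd hF a) ⟨g, hg, b⟩ p (p.mv h1 (h2 _ (b u)).1 (h2 _ (b u)).2)
    (show γ ∈ Im W (Aut E Q) from ⟨y, hy, c⟩)
  refine (mul_mem_cancel_left (inv_mem hf)).1 (Ct_le_Aut F Q (mem_Ct.2 fun w hw => ?_))
  obtain ⟨v, rfl⟩ := (h.rg w).1 hw
  simpa using (d.inv.mul c) v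

end Sit
end amb

section co
variable {K : Type} [Field K] [Finite K] [CharP K 2] {Ω : Type u} [Group Ω] [Finite Ω]
  {S B : Subgroup Ω} {m : K → K → K → K → Ω} {t : Ω} {σ : RingAut K}

theorem two_cases (hK : Nat.card K = 2) (x : K) : x = 0 ∨ x = 1 := by
  have := Fintype.ofFinite K
  have p : x ^ 2 = x := by simpa [← Nat.card_eq_fintype_card, hK] using FiniteField.pow_card x
  exact eq_zero_or_one_of_sq_eq_self p

theorem z2 (x : ZMod 2) : x = 0 ∨ x = 1 := by revert x; decide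

def ph (K : Type) [Field K] [CharP K 2] : ZMod 2 →+* K := ZMod.castHom (dvd_refl 2) K

variable (h : T4 S B m t σ) (hK : Nat.card K = 2)
include h hK

theorem act' (c y w a : K) : t * m c y w a * t⁻¹ = m a (w + c * a) (y + c * a) c := by
  have s : ∀ x, σ x = x := fun x => by rcases two_cases hK x with rfl | rfl <;> simp
  have q : ∀ x : K, x ^ 2 = x := fun x => by rcases two_cases hK x with rfl | rfl <;> simp
  simp only [h.act, s, q]

theorem mul' (c y w a c' y' w' a' : K) : m c y w a * m c' y' w' a' =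
    m (c + c') (y + y' + a * c') (w + w' + a * c') (a + a') := by
  have q : ∀ x : K, x ^ 2 = x := fun x => by rcases two_cases hK x with rfl | rfl <;> simp
  simp only [h.co.mul, q, CharTwo.two_eq_zero, zero_mul, add_zero]

theorem sit : ∃ W : E4 →* Ω, Sit S (Qx S (h.co.Q 0 ⊓ h.co.V) t) W (m 0 0 0 1) ∧
    (∀ u, W u ∈ B ↔ u.2.2.2 = 0) ∧ ∀ u, W u ∈ h.co.Q 0 ⊓ h.co.V → u.1 = 0 := by
  have := Fact.mk Nat.prime_two
  have k := h.co
  have tw := h.tw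
  have ta : ∀ c y w a, t * m c y w a = m a (w + c * a) (y + c * a) c * t := fun c y w a => by
    rw [← act' h hK, inv_mul_cancel_right]
  have q : ∀ x : K, x * x = x := fun x => by rcases two_cases hK x with rfl | rfl <;> simp
  have v1 : (1 : ZMod 2).val = 1 := rfl
  have o2 : (1 : ZMod 2) + 1 = 0 := rfl
  have o2' : (1 : K) + 1 = 0 := CharTwo.add_self_eq_zero 1
  let f : E4 → Ω := fun u => m (ph K u.1) (ph K u.2.1) (ph K u.2.2.1) (ph K u.1) * t ^ u.2.2.2.val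
  have f0 : ∀ a y w, f (mk a y w 0) = m (ph K a) (ph K y) (ph K w) (ph K a) := fun a y w => by
    simp [f, mk]
  have f1 : ∀ a y w, f (mk a y w 1) = m (ph K a) (ph K y) (ph K w) (ph K a) * t := fun a y w => by
    simp [f, mk, v1]
  have fm : ∀ u v, f (u * v) = f u * f v := by
    rintro ⟨a, y, w, e⟩ ⟨a', y', w', e'⟩
    change f (mk (a + a') (y + ((1 + e) * y' + e * (w' + a')) + a * a')
      (w + ((1 + e) * w' + e * (y' + a')) + a * a') (e + e')) = f (mk a y w e) * f (mk a' y' w' e')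
    rcases z2 e with rfl | rfl <;> rcases z2 e' with rfl | rfl <;>
      simp only [add_zero, zero_add, o2, f0, f1, one_mul, zero_mul, map_add, map_mul]
    · rw [mul' h hK]
    · rw [← mul_assoc, mul' h hK]
    · rw [mul_assoc, ta, ← mul_assoc, mul' h hK, q]
    · rw [mul_assoc, ← mul_assoc t, ta, mul_assoc, h.t2, mul_one, mul' h hK, q]
  let W : E4 →* Ω := MonoidHom.mk' f fm
  have WB : ∀ u, W u ∈ B ↔ u.2.2.2 = 0 := by
    rintro ⟨a, y, w, e⟩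
    change f (mk a y w e) ∈ B ↔ e = 0
    rcases z2 e with rfl | rfl
    · simp [f0, k.mem]
    · simp [f1, mul_mem_cancel_left (k.mem ..), tw.t_not]
  have inj : ∀ x, ph K x = 0 → x = 0 := fun x => (map_eq_zero_iff _ (ph K).injective).1
  have sur : ∀ x : K, ∃ z, ph K z = x := fun x => by
    rcases two_cases hK x with rfl | rfl
    exacts [⟨0, map_zero _⟩, ⟨1, map_one _⟩]
  have ti : t⁻¹ = t := inv_of_sq h.t2
  have tQ : t ∈ Qx S (h.co.Q 0 ⊓ h.co.V) t := ⟨h.tS, tw.S_NmZ h.tS, by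
    rintro _ ⟨n, rfl⟩
    simp only [show (t ^ n)⁻¹ * (t * t ^ n * t⁻¹) = 1 by group, one_mem]⟩
  have mQ : ∀ c y w a, m c y w a ∈ Qx S (h.co.Q 0 ⊓ h.co.V) t ↔ c = a := fun c y w a => by
    have e1 : t⁻¹ * (m c y w a * t * (m c y w a)⁻¹) ∈ h.co.Q 0 ⊓ h.co.V ↔ c = a := by
      rw [show t⁻¹ * (m c y w a * t * (m c y w a)⁻¹) = t⁻¹ * m c y w a * t⁻¹⁻¹ * (m c y w a)⁻¹ by group,
        ti, act' h hK, k.inv, k.mul, h.inf_eq, k.mem_Y, add_neg_eq_zero, add_neg_eq_zero, eq_comm, and_self]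
    refine ⟨fun r => e1.1 (r.2.2 t (mem_zpowers t)), fun r => ⟨h.BS (k.mem ..), tw.S_NmZ (h.BS (k.mem ..)), ?_⟩⟩
    intro z hz
    have : z = 1 ∨ z = t := by
      obtain ⟨n, rfl⟩ := mem_zpowers_iff.1 hz
      rcases Int.even_or_odd' n with ⟨j, rfl | rfl⟩ <;> simp [zpow_add, zpow_mul, zpow_ofNat, sq, h.t2]
    rcases this with rfl | rfl
    · simp [one_mem]
    · exact e1.2 r
  have rB : ∀ s ∈ B, s ∈ Qx S (h.co.Q 0 ⊓ h.co.V) t → ∃ a y w, f (mk a y w 0) = s := fun s hs r => by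
    obtain ⟨c, y, w, a, rfl⟩ := k.surj s hs
    obtain rfl := (mQ ..).1 r
    obtain ⟨c, rfl⟩ := sur c
    obtain ⟨y, rfl⟩ := sur y
    obtain ⟨w, rfl⟩ := sur w
    exact ⟨c, y, w, f0 ..⟩
  have iB : ∀ s ∈ B, s ∈ Qx S (h.co.Q 0 ⊓ h.co.V) t ∨ m 0 0 0 1 * s ∈ Qx S (h.co.Q 0 ⊓ h.co.V) t :=
    fun s hs => by
      obtain ⟨c, y, w, a, rfl⟩ := k.surj s hs
      rw [k.mul, mQ, mQ]
      rcases two_cases hK c with rfl | rfl <;> rcases two_cases hK a with rfl | rfl <;> simp [o2']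
  have xi' : (m 0 0 0 1)⁻¹ = m 0 0 0 1 := inv_of_sq (by simp [mul' h hK, o2', k.one])
  refine ⟨W, ⟨(injective_iff_map_eq_one W).2 ?_, fun s => ⟨fun r => ?_, ?_⟩, inf_le_left, h.BS (k.mem ..),
    ?_, fun s hs => ?_⟩, WB, ?_⟩
  · rintro ⟨a, y, w, e⟩ r
    obtain rfl : e = 0 := (WB (a, y, w, e)).1 (r ▸ one_mem B)
    obtain ⟨r1, r2, r3, -⟩ := k.eq_one.1 ((f0 a y w).symm.trans r)
    rw [inj a r1, inj y r2, inj w r3]; rfl
  · by_cases s1 : s ∈ B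
    · obtain ⟨a, y, w, e⟩ := rB s s1 r
      exact ⟨_, e⟩
    obtain ⟨c, hc, rfl⟩ := tw.out r.1 s1
    obtain ⟨a, y, w, e⟩ := rB c hc ((mul_mem_cancel_right tQ).1 r)
    exact ⟨mk a y w 1, (f1 ..).trans (by rw [← e, f0])⟩
  · rintro ⟨⟨a, y, w, e⟩, rfl⟩
    exact mul_mem ((mQ ..).2 rfl) (pow_mem tQ _)
  · rintro ⟨a, y, w, e⟩
    change _ * f (mk a y w e) * _ = f (mk (a + e) (y + a + e + a * e) (w + a + e + a * e) e)
    rcases z2 e with rfl | rfl <;>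
      simp only [xi', add_zero, f0, f1, mul_one, mul_zero, map_add, map_one]
    · simp [mul' h hK, add_comm (1 : K), add_assoc, o2']
    · rw [mul_assoc, mul_assoc, ta, ← mul_assoc, ← mul_assoc, mul' h hK, mul' h hK]
      congr 2 <;> ring
  · by_cases s1 : s ∈ B
    · exact iB s s1
    obtain ⟨c, hc, rfl⟩ := tw.out hs s1
    exact (iB c hc).imp (mul_mem · tQ) fun r => mul_assoc (m 0 0 0 1) c t ▸ mul_mem r tQ
  · rintro ⟨a, y, w, e⟩ r
    obtain rfl : e = 0 := (WB (a, y, w, e)).1 (tw.ZB r)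
    rw [h.inf_eq] at r
    exact inj a (k.mem_Y.1 ((f0 a y w) ▸ (show f (mk a y w 0) ∈ _ from r))).1

end co

theorem jobQ3 : JobQ3.{u} := fun hEn K _ _ _ Ω _ _ S B F E m t σ h hK hF hE i => by
  obtain ⟨P, r⟩ := not_forall.1 i
  obtain ⟨-, rfl, y, hy, y1, g, hg, y2⟩ := (hEn Ω S B _ _ F t hF h.tw h.t2 h.ng P
    (Classical.not_imp.1 r).1).resolve_left (Classical.not_imp.1 r).2
  obtain ⟨W, s, WB, WY⟩ := sit h hK
  obtain ⟨u, rfl⟩ := (s.rg y).1 hy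
  exact s.le hE hF hg (fun e => y1 ((WB u).2 e)) fun v e =>
    ⟨WY v (e ▸ y2), (WB v).1 (h.tw.ZB (e ▸ y2))⟩

end H72.Q3
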