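import Cfsg.Agent.H72.JNorm2
import Cfsg.Agent.H7.ThompsonA
import Cfsg.Agent.H5.FrobCompl

/-! For `p ≥ 5` the abelian Thompson subgroup is normal in a Thompson-minimal group. -/

set_option autoImplicit false

namespace H72.JN

open scoped commutatorElement

universe u

variable {Γ : Type u} [Group Γ]

theorem mem_of_coprime {K : Subgroup Γ} {x : Γ} {a b : ℕ} (h : Nat.Coprime a b) (ha : x ^ a ∈ K)
    (hb : x ^ b ∈ K) : x ∈ K := by
  obtain ⟨u, v, huv⟩ := Nat.isCoprime_iff_coprime.2 h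
  have : x = (x ^ a) ^ u * (x ^ b) ^ v := by
    rw [← zpow_natCast, ← zpow_natCast x b, ← zpow_mul, ← zpow_mul, ← zpow_add, mul_comm _ u,
      mul_comm _ v, huv, zpow_one]
  rw [this]
  exact K.mul_mem (K.zpow_mem ha u) (K.zpow_mem hb v)

theorem pow_eq_one_of_mem {p : ℕ} {R : Subgroup Γ} (hR : IsPGroup p R) {x : Γ} (hx : x ∈ R) :
    ∃ j, x ^ p ^ j = 1 := by
  obtain ⟨j, hj⟩ := hR ⟨x, hx⟩
  exact ⟨j, congrArg Subtype.val hj⟩

theorem core1 [Finite Γ] {p : ℕ} [hp : Fact p.Prime] (hp5 : 5 ≤ p) {R M A : Subgroup Γ}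
    [hR : R.Normal] [hM : M.Normal] (hRp : IsPGroup p R)
    (hc : ¬ p ∣ Nat.card (M.map (QuotientGroup.mk' R))) (hAp : IsPGroup p A)
    (hA : ∀ a ∈ A, ∀ b ∈ A, a * b = b * a)
    (hmax : ∀ B ≤ R, IsMulCommutative B → Nat.card B ≤ Nat.card A)
    (hf : ∀ u ∈ A, u ∉ R → ∀ y ∈ M, ⁅u, y⁆ ∈ R → y ∈ R) (hAR : ¬ A ≤ R) {g : Γ} (hg : g ∈ M)
    (hgc : (orderOf g).Coprime p) (hgR : g ∉ Subgroup.centralizer (R : Set Γ)) : False := by
  set π := QuotientGroup.mk' R with hπ
  have hπ1 : ∀ x, π x = 1 ↔ x ∈ R := fun x => QuotientGroup.eq_one_iff x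
  haveI : (M.map π).Normal := hM.map π (QuotientGroup.mk'_surjective R)
  have hfq : ∀ u ∈ A, π u ≠ 1 → ∀ y ∈ M.map π, π u * y = y * π u → y = 1 := by
    rintro u hu h1 _ ⟨y, hy, rfl⟩ h2
    rw [hπ1]
    refine hf u hu (fun h => h1 ((hπ1 u).2 h)) y hy ?_
    rw [← hπ1, map_commutatorElement, commutatorElement_eq_one_iff_mul_comm]
    exact h2
  have hgR' : g ∉ R := fun h => hgR (by
    obtain ⟨j, hj⟩ := pow_eq_one_of_mem hRp h
    have : g ∈ (⊥ : Subgroup Γ) :=
      mem_of_coprime (hgc.pow_right j) (by rw [pow_orderOf_eq_one]; exact one_mem _) hj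
    rw [Subgroup.mem_bot.1 this]
    exact one_mem _)
  haveI : IsMulCommutative A := ⟨⟨fun a b => Subtype.ext (hA a a.2 b b.2)⟩⟩
  have hcyc : IsCyclic (A.map π) := H5.isCyclic_of_fpf_of_comm (K := M.map π)
    (fun h => hgR' ((hπ1 g).1 (Subgroup.mem_bot.1 (h ▸ Subgroup.mem_map_of_mem π hg))))
    Subgroup.le_normalizer_of_normal (by
      rintro _ ⟨u, hu, rfl⟩ h1
      exact eq_bot_iff.2 fun y hy => Subgroup.mem_bot.2 (hfq u hu h1 y hy.1
        (Subgroup.mem_centralizer_singleton_iff.1 hy.2).symm))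
  obtain ⟨⟨_, a, ha, rfl⟩, hgen⟩ := hcyc.exists_monoid_generator
  obtain ⟨k, hk⟩ := (hAp.map π).exists_card_eq
  have hord : orderOf (π a) = p ^ k := by
    rw [← hk, ← orderOf_eq_card_of_forall_mem_powers hgen]
    exact (Subgroup.orderOf_mk _ _).symm
  have hk1 : 1 ≤ k := by
    by_contra h
    obtain rfl : k = 0 := by omega
    rw [pow_zero, Subgroup.card_eq_one, Subgroup.map_eq_bot_iff, hπ, QuotientGroup.ker_mk'] at hk
    exact hAR hk
  have hcardA : Nat.card A = p ^ k * Nat.card (A ⊓ R : Subgroup Γ) := by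
    rw [← H12.card_inf_mul_relIndex R A, inf_comm, mul_comm, ← hk, ← Subgroup.relIndex_ker, hπ,
      QuotientGroup.ker_mk']
  -- the minimal normal subgroup not centralised by the `p'`-elements of `M`
  set N := Subgroup.closure {g | g ∈ M ∧ (orderOf g).Coprime p} with hN
  have hNM : N ≤ M := (Subgroup.closure_le _).2 fun x hx => hx.1
  haveI hNn : N.Normal := ⟨fun n hn g => by
    have : N ≤ N.comap (MulAut.conj g).toMonoidHom := (Subgroup.closure_le _).2 fun x hx =>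
      Subgroup.subset_closure ⟨hM.conj_mem x hx.1 g, by
        rw [MulEquiv.coe_toMonoidHom, MulEquiv.orderOf_eq]; exact hx.2⟩
    exact this hn⟩
  obtain ⟨U, ⟨hUn, hUR, hUN⟩, hmin⟩ := wellFounded_lt.has_min
    {U : Subgroup Γ | U.Normal ∧ U ≤ R ∧ ¬ U ≤ Subgroup.centralizer (N : Set Γ)}
    ⟨R, hR, le_rfl, fun h => hgR (Subgroup.le_centralizer_iff.1 h
      (Subgroup.subset_closure ⟨hg, hgc⟩))⟩
  set V := U ⊓ Subgroup.centralizer (N : Set Γ) with hV
  have hUV : ¬ U ≤ V := fun h => hUN (h.trans inf_le_right)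
  have hmin' : ∀ P : Subgroup Γ, P.Normal → P ≤ U → U ≤ P ∨ P ≤ V := by
    intro P hP hPU
    by_cases h : U ≤ P
    · exact Or.inl h
    · refine Or.inr (le_inf hPU ?_)
      by_contra h1
      exact hmin P ⟨hP, hPU.trans hUR, h1⟩ (lt_of_le_of_ne hPU fun e => h e.ge)
  have hF1 : ∀ x ∈ U, (∀ g ∈ N, τ g x ∈ V) → x ∈ V := by
    let ν := QuotientGroup.mk' V
    haveI : (N.map ν).Normal := hNn.map ν (QuotientGroup.mk'_surjective V)
    have hiff : ∀ x, x ∈ (Subgroup.centralizer (N.map ν : Set (Γ ⧸ V))).comap ν ↔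
        ∀ g ∈ N, τ g x ∈ V := by
      intro x
      have : ∀ g, τ g x ∈ V ↔ ν g * ν x = ν x * ν g := fun g => by
        rw [← QuotientGroup.eq_one_iff, τ]
        change ν _ = 1 ↔ _
        rw [map_mul, map_mul, map_mul, map_inv, map_inv, inv_mul_eq_one, eq_mul_inv_iff_mul_eq,
          eq_comm]
      simp only [this]
      exact ⟨fun h g hg => h _ ⟨g, hg, rfl⟩, fun h => by rintro _ ⟨g, hg, rfl⟩; exact h g hg⟩
    rcases hmin' (U ⊓ (Subgroup.centralizer (N.map ν : Set (Γ ⧸ V))).comap ν) inferInstance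
      inf_le_left with h | h
    · refine absurd ?_ hUN
      rw [Subgroup.le_centralizer_iff, hN, Subgroup.closure_le]
      intro g hg x hx
      have hgN : g ∈ N := Subgroup.subset_closure hg
      have hv := (hiff x).1 (h hx).2 g hgN
      have h1 : ∀ m : ℕ, g ^ m * x * (g ^ m)⁻¹ = x * τ g x ^ m := by
        intro m
        induction m with
        | zero => simp
        | succ m ih =>
          have e : g * τ g x ^ m * g⁻¹ = τ g x ^ m := by
            rw [(Commute.pow_right (hv.2 g hgN) m).eq, mul_inv_cancel_right]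
          calc g ^ (m + 1) * x * (g ^ (m + 1))⁻¹ = g * (g ^ m * x * (g ^ m)⁻¹) * g⁻¹ := by
                rw [pow_succ']; group
            _ = x * τ g x * (g * τ g x ^ m * g⁻¹) := by rw [ih, τ]; group
            _ = _ := by rw [e, pow_succ', mul_assoc]
      have h2 := h1 (orderOf g)
      rw [pow_orderOf_eq_one, one_mul, inv_one, mul_one, left_eq_mul] at h2
      obtain ⟨j, hj⟩ := pow_eq_one_of_mem hRp (hUR hv.1)
      have h3 : τ g x ∈ (⊥ : Subgroup Γ) := mem_of_coprime (hg.2.pow_right j) h2 hj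
      rw [Subgroup.mem_bot, τ, inv_mul_eq_one, eq_mul_inv_iff_mul_eq] at h3
      exact h3
    · exact fun x hx h1 => h ⟨hx, (hiff x).2 h1⟩
  have hF2 : ∀ v ∈ V, ∀ x ∈ U, x * v = v * x := by
    rcases hmin' (U ⊓ Subgroup.centralizer (V : Set Γ)) inferInstance inf_le_left with h | h
    · exact fun v hv x hx => ((h hx).2 v hv).symm
    · refine absurd (fun x hx => hF1 x hx fun g hg => h ⟨?_, fun v hv => ?_⟩) hUV
      · exact τ_mem (fun z hz => hUn.conj_mem z hz g) hx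
      · refine (hv.2 _ ?_).symm
        rw [τ, ← mul_assoc, ← mul_assoc]
        exact N.mul_mem (hNn.conj_mem' g hg x) (N.inv_mem hg)
  have hF3 : ∀ r ∈ R, ∀ x ∈ U, τ r x ∈ V := by
    rcases hmin' ⁅U, R⁆ inferInstance (Subgroup.commutator_le_left U R) with h | h
    · exact absurd (by rw [H7.eq_bot_of_le_commutator_of_isNilpotent hRp.isNilpotent hUR h]
                       exact bot_le) hUV
    · intro r hr x hx
      refine h ?_
      have := Subgroup.commutator_mem_commutator (U.inv_mem hx) hr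
      simpa [τ, commutatorElement_def, mul_assoc] using this
  obtain ⟨W, _, ⟨s⟩⟩ := exists_sec U V fun x hx y hy => by
    have := hF3 y (hUR hy) x⁻¹ (U.inv_mem hx)
    simpa [τ, commutatorElement_def, mul_assoc] using this
  have hF4 : ∀ x ∈ U, x ^ p ∈ V := by
    let P : Subgroup Γ :=
      { carrier := {z | z ∈ U ∧ p • s.cl z = 0}
        one_mem' := ⟨U.one_mem, by rw [s.cl_one, smul_zero]⟩
        mul_mem' := fun {x y} hx hy => ⟨U.mul_mem hx.1 hy.1, by
          rw [s.add _ hx.1 _ hy.1, smul_add, hx.2, hy.2, add_zero]⟩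
        inv_mem' := fun {x} hx => ⟨U.inv_mem hx.1, by rw [s.cl_inv hx.1, smul_neg, hx.2, neg_zero]⟩ }
    rcases hmin' P ⟨fun x hx g => ⟨hUn.conj_mem x hx.1 g, by
      rw [s.conj g x hx.1, ← map_nsmul, hx.2, map_zero]⟩⟩ (fun x hx => hx.1) with h | h
    · intro x hx
      rw [← s.zero _ (U.pow_mem hx p), s.cl_pow hx]
      exact (h hx).2
    · refine absurd (fun x hx => ?_) hUV
      obtain ⟨j, hj⟩ := pow_eq_one_of_mem hRp (hUR hx)
      have h1 : x ^ p ^ j ∈ V := hj ▸ V.one_mem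
      clear hj
      induction j with
      | zero => simpa using h1
      | succ j ih =>
        refine ih (h ⟨U.pow_mem hx _, ?_⟩)
        rw [← s.cl_pow (U.pow_mem hx _), ← pow_mul, ← pow_succ, s.zero _ (U.pow_mem hx _)]
        exact h1
  let ρ' : Γ ⧸ R →* AddMonoid.End W := QuotientGroup.lift R s.ρ fun r hr => s.ρ_eq_one (hF3 r hr)
  have hρ : ∀ g, ρ' (π g) = s.ρ g := fun g => rfl
  refine hUV fun x hx => (s.zero x hx).1 (hh ρ' (s.natCast_eq_zero hF4) (M.map π) hc ?_ (π a) k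
    ?_ ?_ _)
  · intro w hw
    obtain ⟨x, hx, rfl⟩ := s.surj w
    refine (s.zero x hx).2 (hF1 x hx fun g hg => ?_)
    rw [← s.zero _ (τ_mem (fun z hz => hUn.conj_mem z hz g) hx), s.cl_τ g hx]
    exact sub_eq_zero.2 (hw _ ⟨g, hNM hg, rfl⟩)
  · intro i hi hi' y hy h
    rw [← map_pow] at h
    refine hfq _ (A.pow_mem ha i) ?_ y hy h
    rw [map_pow]
    exact pow_ne_one_of_lt_orderOf hi.ne' (hord ▸ hi')
  · ext w
    obtain ⟨x, hx, rfl⟩ := s.surj w
    rw [hρ, ← s.cl_iter a hx]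
    refine (s.zero _ (iter_mem (fun z hz => hUn.conj_mem z hz a) hx _)).2
      (core2 hp5 hRp inf_le_left hUR hF2 hF3 hF4 hA hk1 (fun B h1 h2 => hcardA ▸ hmax B h1 h2) ha
        ?_ ?_ hx)
    · rw [← hπ1, map_pow, ← hord, pow_orderOf_eq_one]
    · intro u hu
      obtain ⟨i, hi⟩ := hgen ⟨π u, u, hu, rfl⟩
      have hi' : π a ^ i = π u := congrArg Subtype.val hi
      exact ⟨i, (a ^ i)⁻¹ * u, by rw [← hπ1, map_mul, map_inv, map_pow, hi', inv_mul_cancel],
        by group⟩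

theorem main {p q : ℕ} [hp : Fact p.Prime] (hp5 : 5 ≤ p) (hq : q.Coprime p) (n : ℕ) :
    ∀ (G : Type u) [Group G] [Finite G], Nat.card G = n → ∀ R₀ M A : Subgroup G, R₀.Normal →
      M.Normal → IsPGroup p R₀ → R₀ ≤ M → (∀ x ∈ M, ∀ y ∈ M, ⁅x, y⁆ ∈ R₀) →
      (∀ x ∈ M, x ^ q ∈ R₀) →
      (∀ g : G, (orderOf g).Coprime p → g ∈ Subgroup.centralizer (R₀ : Set G) → g = 1) →
      IsPGroup p A → (∀ a ∈ A, ∀ b ∈ A, a * b = b * a) →
      (∀ B : Subgroup G, IsPGroup p B → IsMulCommutative B → Nat.card B ≤ Nat.card A) →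
      ∀ u ∈ A, ∀ y ∈ M, τ u y ∈ R₀ := by
  induction n using Nat.strong_induction_on with
  | _ n ih =>
  intro G _ _ hn R₀ M A hR₀ hM hRp hRM hc hq' hC hAp hA hmax
  by_contra hne
  have hpM : ∀ z ∈ M, (∃ j, z ^ p ^ j = 1) → z ∈ R₀ := fun z hz ⟨j, hj⟩ =>
    mem_of_coprime (hq.pow_right j) (hq' z hz) (hj ▸ R₀.one_mem)
  have hmin : ∀ Y : Subgroup G, R₀ ≤ Y → Y ≤ M → (∀ u ∈ A, ∀ y ∈ Y, u * y * u⁻¹ ∈ Y) →
      Y ⊔ A ≠ ⊤ → ∀ u ∈ A, ∀ y ∈ Y, τ u y ∈ R₀ := by
    intro Y h1 h2 h3 h4 u hu y hy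
    set H := Y ⊔ A with hH
    have hlt : Nat.card H < n := by
      rw [← hn]
      exact Finite.card_subtype_lt (Classical.choose_spec (by
        by_contra hc
        push Not at hc
        exact h4 (eq_top_iff.2 fun x _ => hc x) : ∃ x, ¬ x ∈ H))
    have hYn : (Y.subgroupOf H).Normal :=
      (Subgroup.normal_subgroupOf_iff_le_normalizer le_sup_left).2
        (sup_le Subgroup.le_normalizer fun u hu => H7.mem_normalizer_of_forall (h3 u hu))
    exact ih _ hlt H rfl (R₀.subgroupOf H) (Y.subgroupOf H) (A.subgroupOf H) inferInstance hYn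
      (hRp.comap_subtype) (Subgroup.comap_mono h1) (fun x hx y hy => hc _ (h2 hx) _ (h2 hy))
      (fun x hx => hq' _ (h2 hx))
      (fun g hg hg' => Subtype.ext (hC g (by rwa [Subgroup.orderOf_coe]) fun r hr =>
        congrArg Subtype.val (hg' ⟨r, Subgroup.mem_sup_left (h1 hr)⟩ hr)))
      hAp.comap_subtype (fun a ha b hb => Subtype.ext (hA _ ha _ hb))
      (fun B hB hB' => by
        rw [Nat.card_congr (Subgroup.subgroupOfEquivOfLe (le_sup_right : A ≤ H)).toEquiv,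
          ← Subgroup.card_map_of_injective H.subtype_injective]
        exact hmax _ (hB.map _) inferInstance)
      ⟨u, Subgroup.mem_sup_right hu⟩ hu ⟨y, Subgroup.mem_sup_left hy⟩ hy
  have htop : M ⊔ A = ⊤ := by
    by_contra h
    exact hne (hmin M hRM le_rfl (fun u _ y hy => hM.conj_mem y hy u) h)
  obtain ⟨W, _, ⟨s⟩⟩ := exists_sec M R₀ hc
  haveI : Finite W := Finite.of_surjective (fun x : M => s.cl x) fun w => by
    obtain ⟨x, hx, rfl⟩ := s.surj w
    exact ⟨⟨x, hx⟩, rfl⟩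
  have hτ : ∀ u, ∀ y ∈ M, τ u y ∈ M := fun u y hy => τ_mem (fun z hz => hM.conj_mem z hz u) hy
  have hinj : ∀ u ∈ A, s.ρ u ≠ 1 → ∀ w, (s.ρ u - 1) w = 0 → w = 0 := by
    intro u hu h1
    set t := s.ρ u - 1 with ht
    let D : Subgroup G :=
      { carrier := {y | y ∈ M ∧ ∃ w, t w = s.cl y}
        one_mem' := ⟨M.one_mem, 0, by rw [s.cl_one, map_zero]⟩
        mul_mem' := fun {x y} ⟨hx, v, hv⟩ ⟨hy, w, hw⟩ => ⟨M.mul_mem hx hy, v + w, by
          rw [s.add _ hx _ hy, map_add, hv, hw]⟩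
        inv_mem' := fun {x} ⟨hx, v, hv⟩ => ⟨M.inv_mem hx, -v, by rw [s.cl_inv hx, map_neg, hv]⟩ }
    have hD1 : R₀ ≤ D := fun x hx => ⟨hRM hx, 0, by rw [map_zero, (s.zero x (hRM hx)).2 hx]⟩
    have hD2 : ∀ v ∈ A, ∀ y ∈ D, v * y * v⁻¹ ∈ D := by
      rintro v hv y ⟨hy, w, hw⟩
      refine ⟨hM.conj_mem y hy v, s.ρ v w, ?_⟩
      rw [s.conj v y hy, ← hw]
      have : t * s.ρ v = s.ρ v * t := by
        rw [ht, sub_mul, mul_sub, ← map_mul, ← map_mul, hA u hu v hv, one_mul, mul_one]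
      exact congrArg (fun f : AddMonoid.End W => f w) this
    by_cases hD : D ⊔ A = ⊤
    · have hs : Function.Surjective t := by
        intro w
        obtain ⟨x, hx, rfl⟩ := s.surj w
        obtain ⟨d, hd, v, hv, rfl⟩ := (H7.mem_sup_iff_of_le_normalizer
          fun v hv => H7.mem_normalizer_of_forall (hD2 v hv)).1 (hD ▸ Subgroup.mem_top x)
        exact (D.mul_mem hd (hD1 (hpM v ((M.mul_mem_cancel_left hd.1).1 hx)
          (pow_eq_one_of_mem hAp hv)))).2
      exact fun w hw => (Finite.injective_iff_surjective.2 hs) (hw.trans (map_zero t).symm)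
    · exfalso
      have h2 : t * t = 0 := by
        ext w
        obtain ⟨x, hx, rfl⟩ := s.surj w
        have := hmin D hD1 (fun x hx => hx.1) hD2 hD u hu (τ u x) ⟨hτ u x hx, _, (s.cl_τ u hx).symm⟩
        rw [← s.zero _ (hτ u _ (hτ u x hx)), s.cl_τ u (hτ u x hx), s.cl_τ u hx] at this
        exact this
      have h3 : ∀ m : ℕ, s.ρ u ^ m = 1 + m * t := by
        intro m
        induction m with
        | zero => simp
        | succ m ih =>
          rw [pow_succ, ih, show s.ρ u = 1 + t by rw [ht]; abel, mul_add, add_mul, add_mul,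
            mul_assoc, mul_assoc, h2]
          push_cast
          noncomm_ring
      obtain ⟨j, hj⟩ := pow_eq_one_of_mem hAp hu
      have h4 := h3 (p ^ j)
      rw [← map_pow, hj, map_one, left_eq_add] at h4
      obtain ⟨a, b, hab⟩ := Nat.isCoprime_iff_coprime.2 (hq.pow_right j)
      have h5 := congrArg (fun z : ℤ => (z : AddMonoid.End W) * t) hab
      simp only [Int.cast_add, Int.cast_mul, Int.cast_natCast, Int.cast_one, one_mul] at h5
      rw [s.natCast_eq_zero hq', mul_zero, zero_add, mul_assoc, h4, mul_zero] at h5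
      exact h1 (sub_eq_zero.1 h5.symm)
  set R := (R₀ ⊔ A) ⊓ s.ρ.ker with hR
  have hRp' : IsPGroup p R := (hRp.to_sup_of_normal_left hAp).to_inf_left
  have hR0 : R₀ ≤ R := le_inf le_sup_left fun r hr => s.ρ_eq_one fun x hx => by
    rw [τ, ← mul_assoc, ← mul_assoc]
    exact R₀.mul_mem (hR₀.conj_mem' r hr x) (R₀.inv_mem hr)
  haveI hRn : R.Normal := by
    rw [← Subgroup.normalizer_eq_top_iff, eq_top_iff, ← htop]
    refine sup_le (fun m hm => H7.mem_normalizer_of_forall fun r hr => ?_)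
      fun v hv => H7.mem_normalizer_of_forall fun r hr => ⟨?_, ?_⟩
    · have h1 : τ r m⁻¹ ∈ R₀ := by
        rw [← s.zero _ (hτ r _ (M.inv_mem hm)), s.cl_τ r (M.inv_mem hm), hr.2, sub_self]
        rfl
      have := R.mul_mem (hR0 h1) hr
      simpa [τ, mul_assoc] using this
    · exact (R₀ ⊔ A).mul_mem ((R₀ ⊔ A).mul_mem (Subgroup.mem_sup_right hv) hr.1)
        ((R₀ ⊔ A).inv_mem (Subgroup.mem_sup_right hv))
    · exact (MonoidHom.normal_ker s.ρ).conj_mem r hr.2 v
  obtain ⟨y, hy, hyR⟩ : ∃ y ∈ M, y ∉ R₀ := by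
    by_contra h
    push Not at h
    exact hne fun u _ y hy => h _ (hτ u y hy)
  obtain ⟨j, hj⟩ := H7.exists_pow_coprime (p := p) y
  refine core1 hp5 (M := M) hRp' (fun h => ?_) hAp hA (fun B h1 h2 => hmax B (hRp'.to_le h1) h2)
    (fun u hu h1 y hy h2 => hR0 ?_) (fun h => hne fun u hu y hy => ?_) (M.pow_mem hy _) hj
    fun h => hyR ?_
  · obtain ⟨⟨_, z, hz, rfl⟩, h1⟩ := exists_prime_orderOf_dvd_card' p h
    have h2 : p ∣ q := by
      rw [← h1]
      refine orderOf_dvd_of_pow_eq_one (Subtype.ext ?_)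
      change QuotientGroup.mk' R z ^ q = 1
      rw [← map_pow]
      exact (QuotientGroup.eq_one_iff _).2 (hR0 (hq' z hz))
    exact hp.out.one_lt.ne' (Nat.eq_one_of_dvd_coprimes hq h2 dvd_rfl)
  · have h3 : ⁅u, y⁆ ∈ M := M.mul_mem (hM.conj_mem y hy u) (M.inv_mem hy)
    have h4 := (s.zero _ h3).2 (hpM _ h3 (pow_eq_one_of_mem hRp' h2))
    rw [commutatorElement_def, s.add _ (hM.conj_mem y hy u) _ (M.inv_mem hy), s.cl_inv hy,
      s.conj u y hy, ← sub_eq_add_neg] at h4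
    exact (s.zero y hy).1 (hinj u hu (fun h => h1 ⟨Subgroup.mem_sup_right hu, h⟩) _ h4)
  · rw [← s.zero _ (hτ u y hy), s.cl_τ u hy, (h hu).2, sub_self]
    rfl
  · refine mem_of_coprime (hq.pow_right j) (hq' y hy) ?_
    rw [hC _ hj (Subgroup.centralizer_le hR0 h)]
    exact R₀.one_mem

theorem card_le_of_maxAb {p : ℕ} [Fact p.Prime] {G : Type*} [Group G] [Finite G] (S : Sylow p G)
    {A : Subgroup G} (hA : A ∈ H13.maxAb 0 (S : Subgroup G)) (B : Subgroup G) (hB : IsPGroup p B)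
    (hB' : IsMulCommutative B) : Nat.card B ≤ Nat.card A := by
  obtain ⟨P, hP⟩ := hB.exists_le_sylow
  obtain ⟨g, rfl⟩ := MulAction.exists_smul_eq G S P
  have := hA.2.2 (B.map (MulAut.conj g⁻¹).toMonoidHom) (by
    rintro _ ⟨b, hb, rfl⟩
    obtain ⟨c, hc, rfl⟩ := hP hb
    change g⁻¹ * (g * c * g⁻¹) * g⁻¹⁻¹ ∈ (S : Subgroup G)
    rw [show g⁻¹ * (g * c * g⁻¹) * g⁻¹⁻¹ = c by group]
    exact hc) (H13.isEA_zero_iff.2 inferInstance)
  rwa [Subgroup.card_map_of_injective (MulAut.conj g⁻¹).injective] at this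

/-- In a Thompson-minimal group with `p ≥ 5` the abelian Thompson subgroup is normal. -/
theorem normal_J {p : ℕ} [hp : Fact p.Prime] (hp5 : 5 ≤ p) {G : Type u} [Group G] [Finite G]
    (S : Sylow p G) (h : H10.ThompsonMinimal p (S : Subgroup G)) :
    (Cfsg.thompsonSubgroupAOf (S : Subgroup G)).Normal := by
  have hc : Subgroup.centralizer (Cfsg.pCore p G : Set G) ≤ Cfsg.pCore p G := h.charP
  set U := Cfsg.pCore p G with hU
  have hUp : IsPGroup p U := H2.pCore_isPGroup p G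
  have hUP : U ≤ S := H2.pCore_le_sylow S
  suffices hall : ∀ A ∈ H13.maxAb 0 (S : Subgroup G), A ≤ U by
    rw [H13.thompsonSubgroupAOf_eq, ← H13.maxAb_eq_of_forall_le hUP hall,
      ← Subgroup.normalizer_eq_top_iff, eq_top_iff]
    exact (Subgroup.le_normalizer_of_normal (H := U)).trans
      (H13.normalizer_le_normalizer_sSup_maxAb 0 U)
  intro A hA
  obtain ⟨q, Q, hq, hqp, hQ, -, hMn, hsup⟩ := h.exists_complement
  set π := QuotientGroup.mk' U with hπ
  have hπ1 : ∀ x, π x = 1 ↔ x ∈ U := fun x => QuotientGroup.eq_one_iff x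
  have hF : (U ⊔ Q).map π = Q.map π := by
    rw [Subgroup.map_sup, hπ, QuotientGroup.map_mk'_self, bot_sup_eq]
  have hFe : Cfsg.IsElementaryAbelian q (Q.map π) := H12.ea_map hQ π
  have hm : ∀ x ∈ U ⊔ Q, π x ∈ Q.map π := fun x hx => hF ▸ Subgroup.mem_map_of_mem π hx
  have key := main hp5 ((Nat.coprime_primes hq hp.out).2 hqp) _ G rfl U (U ⊔ Q) A inferInstance hMn
    hUp le_sup_left
    (fun x hx y hy => by
      rw [← hπ1, map_commutatorElement, commutatorElement_eq_one_iff_mul_comm]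
      exact congrArg Subtype.val (hFe.1.is_comm.comm ⟨_, hm x hx⟩ ⟨_, hm y hy⟩))
    (fun x hx => by rw [← hπ1, map_pow]; exact hFe.2 _ (hm x hx))
    (fun g hg hg' => by
      obtain ⟨j, hj⟩ := pow_eq_one_of_mem hUp (hc hg')
      exact Subgroup.mem_bot.1 (mem_of_coprime (hg.pow_right j)
        (by rw [pow_orderOf_eq_one]; exact one_mem _) hj))
    (S.isPGroup'.to_le hA.1)
    (fun a ha b hb => congrArg Subtype.val (hA.2.1.1.is_comm.comm ⟨a, ha⟩ ⟨b, hb⟩))
    (card_le_of_maxAb S hA)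
  set C := (S : Subgroup G) ⊓ (Subgroup.centralizer ((U ⊔ Q).map π : Set (G ⧸ U))).comap π with hC
  haveI : ((U ⊔ Q).map π).Normal := hMn.map π (QuotientGroup.mk'_surjective U)
  have hUC : U ≤ C := le_inf hUP fun x hx => by
    rw [Subgroup.mem_comap, (hπ1 x).2 hx]; exact one_mem _
  have hCn : C.Normal := by
    rw [← Subgroup.normalizer_eq_top_iff, eq_top_iff, ← hsup]
    refine sup_le (fun m hm => H7.mem_normalizer_of_forall fun r hr => ?_)
      fun v hv => H7.mem_normalizer_of_forall fun r hr => ⟨?_, ?_⟩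
    · have h1 : m * r * m⁻¹ * r⁻¹ ∈ U := by
        rw [← hπ1, map_mul, map_mul, map_mul, map_inv, map_inv,
          hr.2 _ ⟨m, Subgroup.mem_sup_right hm, rfl⟩]
        group
      simpa using C.mul_mem (hUC h1) hr
    · exact (S : Subgroup G).mul_mem ((S : Subgroup G).mul_mem hv hr.1) ((S : Subgroup G).inv_mem hv)
    · exact Subgroup.Normal.conj_mem inferInstance r hr.2 v
  refine le_trans (fun u hu => ?_) (H2.le_pCore (N := C) S.isPGroup'.to_inf_left)
  refine ⟨hA.1 hu, ?_⟩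
  rintro _ ⟨y, hy, rfl⟩
  have := (hπ1 _).2 (key u hu y hy)
  rw [τ, map_mul, map_mul, map_mul, map_inv, map_inv, inv_mul_eq_one,
    eq_mul_inv_iff_mul_eq] at this
  exact this

end H72.JN
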