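import Cfsg.Agent.H45.MK

/-! `M₂₄` by its order: the search for `|C(f)| = 960`. -/

set_option autoImplicit false
set_option maxRecDepth 100000

namespace H72.L192
open H45.MN

/-- the values allowed by the local structure -/
def locp (e v : ℕ) (u : ℤ) : Bool :=
  (List.range 14).any fun m => v % m == 0 && Nat.ble (m * m) v && (e * m) % u.natAbs == 0

/-- conditions on the signed value `u` at a rational element of order `q` -/
def okp (q e v : ℕ) (d u : ℤ) : Bool :=
  (d - u).natAbs % q == 0 && (244823040 / (q * v) * u.natAbs) % d.natAbs == 0 &&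
    if d.natAbs % q = 0 then u == 0 else locp e v u

/-- evaluate a list of lists first -/
def fLL {β : Type} : List (List ℤ) → (List (List ℤ) → β) → β
  | [], k => k []
  | C :: T, k => fL C fun C' => fLL T fun T' => k (C' :: T')

theorem fLL_eq {β : Type} (T : List (List ℤ)) (k : List (List ℤ) → β) : fLL T k = k T := by
  induction T generalizing k with
  | nil => rfl
  | cons C T ih => rw [fLL, fL_eq, ih]

/-- the candidates -/
def cw (ok : ℤ → Bool) : List ℤ := ((List.range 73).map fun k : ℕ => (k : ℤ) - 36).filter ok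

theorem mem_cw {ok : ℤ → Bool} {u : ℤ} (h : ok u = true) (hu : s2 u ≤ 1344) : u ∈ cw ok := by
  have h1 : u.natAbs ≤ 36 := by
    have : u.natAbs * u.natAbs ≤ 1344 := hu
    nlinarith
  simp only [cw, List.mem_filter, List.mem_map, List.mem_range]
  exact ⟨⟨(u + 36).toNat, by omega, by omega⟩, h⟩

/-- `P` holds for all columns -/
noncomputable def colg (ok okE : ℤ → ℤ → Bool) (c res : ℕ) (D : List ℤ) (P : List ℤ → Bool) : Bool :=
  fZ (1 + D.sum) fun dE => fLL (D.map fun d => cw (ok d)) fun T =>
    fN (res + (T.map mn).sum) fun m => Nat.blt c m ||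
    colR (fun r uE A => Bool.rec true (Nat.blt r (2 * s2 uE) || fL A.reverse P) (okE dE uE)) T (c - m) 1 []

theorem colg_spec {ok okE : ℤ → ℤ → Bool} {c res : ℕ} {D U : List ℤ} {P : List ℤ → Bool} (hc : c ≤ 1344)
    (h1 : List.Forall₂ (fun u d => ok d u = true) U D)
    (h2 : okE (1 + D.sum) (1 + U.sum) = true) (hs : res + ss U + 2 * s2 (1 + U.sum) ≤ c)
    (h : colg ok okE c res D P = true) : P U = true := by
  simp only [colg, fZ_eq, fL_eq, fN_eq, fLL_eq] at h
  have k1 : List.Forall₂ (fun u C => u ∈ C) U (D.map fun d => cw (ok d)) := by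
    rw [List.forall₂_map_right_iff]
    refine List.forall₂_of_length_eq_of_get h1.length_eq fun i a b => mem_cw (h1.get a b) ?_
    have := s2_le_ss (List.get_mem U ⟨i, a⟩)
    omega
  have h0 := fun P => colR_spec (P := P) k1
  have h5 := (h0 fun _ _ _ => true).1
  have := rec_imp ((h0 _).2 _ _ _ (by omega) (((Bool.or_eq_true _ _).mp h).resolve_left
    (by simp only [Nat.blt_eq]; omega))) h2
  simp only [List.append_nil, List.reverse_reverse, Bool.or_eq_true, Nat.blt_eq] at this
  exact this.resolve_left (by omega)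

/-- the character sum of the class multiplication formula for two classes -/
def fm2 (N : ℕ) (D U W : List ℤ) : ℤ :=
  N + (List.zipWith (fun (u : ℤ × ℤ) (d : ℤ) => u.1 * u.2 * (N / d)) (U.zip W) D).sum -
    (1 + U.sum) * (1 + W.sum) * (N / (1 + D.sum))

/-- `F` is not a natural multiple of `M` -/
def nd (F : ℤ) (M : ℕ) : Bool := fZ F fun F => decide (F < 0) || F.natAbs % M != 0

theorem nd_false {F : ℤ} {p k c : ℕ} (h : ((p * k * c : ℕ) : ℤ) = F) : nd F (p * c) = false := by
  subst h
  simp only [nd, fZ_eq, Int.natAbs_natCast, Bool.or_eq_false_iff, decide_eq_false_iff_not, not_lt,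
    bne_eq_false_iff_eq]
  exact ⟨Int.natCast_nonneg _, Nat.mod_eq_zero_of_dvd ⟨k, by ring⟩⟩

/-- the conditions at the element of order five -/
def okf (D : List ℤ) (d u : ℤ) : Bool := okp 5 4 192 d u && (d != -22 || u == -2) &&
  (d != -252 || Nat.blt 1 (D.count d) || u == -2) && (d != 5544 || Nat.blt 1 (D.count d) || u == -1)

/-- the admissible degrees -/
def flt (d : ℕ) : Bool := Nat.blt 20 d && r11 d && r23 d

/-- no column at the element of order seven -/
noncomputable def no7 (D U : List ℤ) (v : ℕ) : Bool :=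
  colg (okp 7 6 v) (okp 7 6 v) (7 * v) 2 D fun W =>
    nd (fm2 244823040 D W W) (23 * (7 * v * (7 * v))) || nd (fm2 244823040 D U W) (23 * (960 * (7 * v)))

theorem search : degs 203996407 23 967680 11 flt (fun D => !D.contains (-252) || !D.contains 5544 ||
    !D.contains (-22) || colg (okf D) (okp 5 4 192) 960 4 D fun U =>
      !(D.zip U).contains (-252, -2) || !(D.zip U).contains (5544, -1) ||
      nd (fm2 244823040 D U U) (23 * (960 * 960)) ||
      (!D.contains 990 && (D.count (-45) == 2 || [3, 24, 192].all (no7 D U)))) = true := by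
  decide +kernel

/-- the admissible degrees in a `3`-block of defect one -/
def fl3 (d : ℕ) : Bool := Nat.blt 20 d && 244823040 % d == 0 && r11 d && r23 d && d != 990 &&
  d % 9 == 0 && d % 27 != 0

theorem no_sum : ((List.range 1739).all fun y =>
    !fl3 (9 * y) || (!fl3 (9 * y + 45) && !fl3 (45 - 9 * y))) = true := by
  decide +kernel

end H72.L192
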