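import Cfsg.Agent.H45.MSpec5
import Cfsg.Agent.H77.M24P4
import Cfsg.Agent.H72.M24LN

/-! `M₂₄` by its order: no degree `22` if `|C(f)| = 960`. -/

set_option autoImplicit false
set_option linter.unusedSectionVars false

namespace H72.L192
open Cfsg H28 H29 H39 H87 Subgroup H45.MO H45.MN H45.M24
open H77.P4 (mem_L mem_D two_le_count n23 sq_eq')
open scoped ComplexConjugate

universe u

variable {G : Type u} [Group G] [Fintype G] {p n e v n1 : ℕ} {L E L1 E1 : List (IrrCharacter G)}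
  {s s1 : IrrCharacter G → ℤ}

/-- Class multiplication for two classes at a self-centralizing element of order `p`. -/
theorem cm2 (A : Bk p n e 1 L E s) {a b : G} (hi : IC a) (hj : IC b) (h1 : a ≠ 1) (ha : ¬ p ∣ orderOf a)
    (hb : ¬ p ∣ orderOf b) : ∃ k : ℕ, ((p * k * (cc a * cc b) : ℕ) : ℤ) =
      fm2 (Nat.card G) (cl s L 1) (cl s L a) (cl s L b) := by
  classical
  have := Fact.mk A.hp
  obtain ⟨x, hx⟩ := A.exists_ord
  obtain ⟨θ, hθ⟩ := A.exists_mem_E
  let f : Function.End {z : G × G // IsConj a z.1 ∧ IsConj b z.2 ∧ z.1 * z.2 = x} := fun z =>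
    ⟨(x * z.1.1 * x⁻¹, x * z.1.2 * x⁻¹), z.2.1.trans (isConj_iff.2 ⟨x, rfl⟩),
      z.2.2.1.trans (isConj_iff.2 ⟨x, rfl⟩), by simp [mul_assoc, ← mul_assoc z.1.1, z.2.2.2]⟩
  have hf : ∀ m z, ((f ^ m) z).1 = (x ^ m * z.1.1 * (x ^ m)⁻¹, x ^ m * z.1.2 * (x ^ m)⁻¹) :=
    fun m z => by
      induction m with
      | zero => simp [Function.End.one_def]
      | succ m ih =>
        rw [pow_succ']
        change (x * ((f ^ m) z).1.1 * x⁻¹, x * ((f ^ m) z).1.2 * x⁻¹) = _
        simp only [ih, pow_succ', mul_inv_rev, mul_assoc]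
  have h2 := Equiv.Perm.card_fixedPoints_modEq (f := f) (p := p) (n := 1) (by
    funext z
    refine Subtype.ext ?_
    rw [hf, pow_one, ← hx, pow_orderOf_eq_one]
    simp [Function.End.one_def])
  rw [Fintype.card_eq_zero_iff (α := f.fixedPoints).2 ⟨fun ⟨z, hz⟩ => by
    have h3 := orderOf_dvd_natCard (⟨z.1.1, mem_centralizer_singleton.2
      (mul_inv_eq_iff_eq_mul.1 (congrArg (·.1.1) hz)).symm⟩ : centralizer {x})
    rw [orderOf_mk, show Nat.card _ = _ from A.ccp x hx, mul_one, Nat.dvd_prime A.hp] at h3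
    have h4 : orderOf a = orderOf z.1.1 := by_contra fun e => H43.not_isConj_of_orderOf e z.2.1
    rcases h3 with h3 | h3
    exacts [h1 (orderOf_eq_one_iff.1 (h4.trans h3)), ha (h4.trans h3).symm.dvd]⟩,
    ← Nat.card_eq_fintype_card] at h2
  obtain ⟨k, hk⟩ := Nat.modEq_zero_iff_dvd.1 h2
  refine ⟨k, Int.cast_injective (α := ℂ) ?_⟩
  have h3 := H43.prodCount_eq a b x
  have o : ¬ p ∣ orderOf (1 : G) := by simpa using A.hp.one_lt.ne'
  rw [H43.prodCount, hk, sum_list A.nd, Finset.sum_eq_zero fun χ hχ => by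
      simp only [Finset.mem_compl, List.mem_toFinset, List.mem_cons, not_or] at hχ
      rw [A.zero (by_contra fun h => hχ.2 (A.out rfl χ hχ.1 h)) hx.symm.dvd, map_zero, mul_zero],
    List.map_cons, List.sum_cons, List.map_append, List.sum_append,
    List.map_congr_left (l := E) (g := fun η => θ.1 a * θ.1 b / θ.1 1 * conj (η.1 x))
      fun η hη => by rw [A.uni η hη θ hθ a ha, A.uni η hη θ hθ b hb, A.uni η hη θ hθ 1 o],
    List.sum_map_mul_left, show (E.map fun η => conj (η.1 x)).sum = conj (E.map fun η => η.1 x).sum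
      by rw [map_list_sum, List.map_map]; rfl, A.singE hθ hx.symm.dvd, add_zero, mul_add, mul_add,
    ← List.sum_map_mul_left,
    List.map_congr_left (l := L) (g := fun χ => ((s χ * iv χ a * (s χ * iv χ b) *
      (Nat.card G / (s χ * iv χ 1)) : ℤ) : ℂ)) fun χ hχ => by
        rw [iv_one, ← term_cast χ (A.sg χ) (hi χ) (hj χ), A.sing hχ hx.symm.dvd, map_intCast,
          mul_comm (s χ : ℂ)]] at h3
  rw [fm2, A.regZ hθ ha fun χ _ => hi χ, A.regZ hθ hb fun χ _ => hj χ, A.regZ hθ o fun χ _ => ic_one χ,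
    cl, cl, cl, List.zip_map', List.zipWith_map,
    List.zipWith_self, iv_one, Int.cast_sub, ← term_cast θ (A.sg θ) (hi θ) (hj θ), Int.cast_add,
    Int.cast_list_sum, List.map_map]
  simp only [map_neg, map_intCast, div_one, mul_one, map_one] at h3
  push_cast at h3 ⊢
  simp only [Function.comp_def]
  push_cast
  linear_combination h3

variable (hG : Nat.card G = 244823040)
include hG

theorem okp_of (C : Bk p n e v L E s) (he : e + 1 = p) (hv : v ≤ 192) {w : G} (hw : orderOf w = p)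
    (χ : IrrCharacter G) {σ : ℤ} (hσ : σ = 1 ∨ σ = -1) :
    okp p e v (σ * iv χ 1) (σ * iv χ w) = true := by
  have iw := C.ic he hw
  have k1 := iv_cong (χ := χ) (x := w) (y := 1) C.hp
    (hw ▸ pow_orderOf_eq_one w) (Commute.one_right w) (by rw [mul_one]; exact iw χ) (ic_one χ)
  have k2 := iv_dvd (iw χ)
  have k4 : σ.natAbs = 1 := by omega
  rw [index_eq] at k2
  rw [mul_one, dvd_sub_comm] at k1
  simp only [okp, Bool.and_eq_true, beq_iff_eq, ← mul_sub, Int.natAbs_mul, k4, one_mul]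
  refine ⟨⟨Nat.mod_eq_zero_of_dvd (Int.natCast_dvd.1 k1), Nat.mod_eq_zero_of_dvd ?_⟩, ?_⟩
  · have := Int.natCast_dvd.1 k2
    rwa [← Int.natCast_div, Int.natAbs_mul, Int.natAbs_natCast, hG, C.ccp w hw,
      ← Int.natAbs_natCast (dg χ), ← iv_one] at this
  · rw [iv_one, Int.natAbs_natCast]
    split_ifs with h
    · have h1 : χ.1 w = (0 : ℤ) := by
        rw [Int.cast_zero]
        exact C.zero (Nat.dvd_of_mod_eq_zero h) hw.symm.dvd
      simp [iv_eq h1]
    · obtain ⟨m, h1, h2, h3⟩ := C.loc he hw (χ := χ) fun h1 => h (Nat.mod_eq_zero_of_dvd h1)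
      simp only [locp, List.any_eq_true, List.mem_range, Bool.and_eq_true, beq_iff_eq, Nat.ble_eq,
        Int.natAbs_mul, k4, one_mul]
      exact ⟨m, by nlinarith, ⟨Nat.mod_eq_zero_of_dvd h1, h2⟩,
        Nat.mod_eq_zero_of_dvd (by simpa [Int.natAbs_mul] using Int.natAbs_dvd_natAbs.2 h3)⟩

/-- two characters of degree `45` and none of degree `990` -/
theorem not45 [IsSimpleGroup G] (A : Bk 23 n 11 1 L E s) (B : Bk 11 n1 10 1 L1 E1 s1) (T : Tri G)
    (h1 : (cl s L 1).count (-45) = 2) (h2 : 990 ∉ cl s L 1) : False := by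
  obtain ⟨θ, -, h⟩ := List.mem_map.1 (List.count_pos_iff.1 (show 0 < (cl s L 1).count (-45) by omega))
  have dθ : dg θ = 45 := by
    rw [iv_one] at h
    rcases A.sg θ with e | e <;> rw [e] at h <;> omega
  obtain ⟨x, y, z, h3, R⟩ := T θ (by omega) (by omega)
  have key : ∀ χ ∈ [x, y, z], fl3 (dg χ) = true ∧ ∃ k < 1739, dg χ = 9 * k := fun χ h => by
    obtain ⟨⟨k, hk⟩, k2⟩ := R.dv χ h
    have k3 := dg_sq_le χ
    have k4 := dg21 hG (χ := χ) fun e => by rw [e, dg_one] at hk; omega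
    have k8 : dg χ ≠ 990 := fun h => h2 (mem_D A (d := 990) h (by decide) (by decide))
    rw [hG] at k3
    refine ⟨?_, k, by nlinarith, hk⟩
    simp only [fl3, Bool.and_eq_true, Nat.blt_eq, beq_iff_eq, bne_iff_ne, B.r11 χ, r23, A.r23 χ, and_true]
    exact ⟨⟨⟨⟨k4, Nat.mod_eq_zero_of_dvd (hG ▸ dg_dvd χ)⟩, k8⟩, by omega⟩, by omega⟩
  have no : ∀ χ ∈ [x, y, z], ∀ ψ ∈ [x, y, z], dg ψ ≠ dg χ + 45 ∧ dg ψ ≠ 45 - dg χ :=
    fun χ h ψ h' => by
      obtain ⟨k1, k, k2, k3⟩ := key χ h
      have := or_not (List.all_eq_true.1 no_sum k (List.mem_range.2 k2)) (k3 ▸ k1)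
      rw [← k3, Bool.and_eq_true] at this
      have k4 := (key ψ h').1
      exact ⟨fun e => by simp [← e, k4] at this, fun e => by simp [← e, k4] at this⟩
  rcases R.alt with ⟨h4, -⟩ | ⟨h4, -⟩
  · have h5 := h4 1 (by simp)
    rw [← coe_dg, ← coe_dg, ← coe_dg] at h5
    have h6 : dg x + dg y = dg z := by exact_mod_cast h5
    have a1 := (no y (by simp) z (by simp)).1
    have a2 := (no x (by simp) z (by simp)).1
    have a3 := (no x (by simp) y (by simp)).2
    simp only [List.mem_cons, List.not_mem_nil, or_false] at h3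
    rcases h3 with rfl | rfl | rfl <;> omega
  · obtain ⟨h5, h6⟩ := h4 1 (by simp)
    rw [← coe_dg, ← coe_dg] at h5 h6
    have h5 : dg y = dg x := by exact_mod_cast h5
    have h6 : dg z = dg x := by exact_mod_cast h6
    have h7 : dg x = 45 := by
      simp only [List.mem_cons, List.not_mem_nil, or_false] at h3
      rcases h3 with rfl | rfl | rfl <;> omega
    rw [cl, List.count, List.countP_map, List.countP_eq_length_filter] at h1
    have := (List.subperm_of_subset R.nd (l₂ := L.filter ((· == -45) ∘ fun χ => s χ * iv χ 1)) fun χ h => by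
      rw [List.mem_filter, Function.comp, beq_iff_eq]
      refine mem_L A (d := -45) ?_ (by decide) (by decide)
      simp only [List.mem_cons, List.not_mem_nil, or_false] at h
      rcases h with rfl | rfl | rfl <;> omega).length_le
    simp [h1] at this

omit hG in
theorem jobL192 : JobL192.{u} := by
  rintro G _ _ _ hG ⟨n, L, E, s, A⟩ ⟨n1, L1, E1, s1, B⟩ T ⟨n5, L5, E5, s5, F⟩ a b c d ρ S dρ hρ h22 alt χ hχ
  obtain rfl : n = 967680 :=
    beq_iff_eq.1 (or_res (List.all_eq_true.1 n23 _ (hG ▸ A.mem)) (by simp))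
  have db := S.db
  have dc := S.dc
  have dd := S.dd
  have ne : ∀ {χ ψ : IrrCharacter G}, dg χ ≠ dg ψ → χ ≠ ψ := fun h e => h (e ▸ rfl)
  have o := dg_one (G := G)
  have hW : (one G :: [b, c, d]).Nodup := by
    simp only [List.nodup_cons, List.mem_cons, List.not_mem_nil, or_false, not_or, not_false_iff,
      List.nodup_nil, and_true]
    exact ⟨⟨ne (by omega), ne (by omega), ne (by omega)⟩, ⟨ne (by omega), ne (by omega)⟩, ne (by omega)⟩
  have h23 : ∀ ψ ∈ [b, c, d], 23 ∣ dg ψ := by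
    simp only [List.forall_mem_cons, db, dc, dd]; simp
  have H := A.degR (by norm_num) hW h23 flt fun ψ h => by
    simp only [flt, Bool.and_eq_true, Nat.blt_eq, B.r11 ψ, r23, A.r23 ψ, and_true]
    exact dg21 hG (A.ne_one h)
  have e0 : Nat.card G - H45.MN.sq (pr [b, c, d] 1) = 203996407 := by
    simp only [hG, H45.MN.sq, pr, List.map_cons, List.map_nil, List.sum_cons, List.sum_nil, iv_one, db, dc, dd]
    decide
  rw [e0] at H
  have h0 := degs_spec (by norm_num) (by norm_num) H search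
  have m1 := mem_L A (d := -252) dρ (by decide) (by decide)
  have m2 := mem_L A (d := 5544) S.da (by decide) (by decide)
  have m3 := mem_D A (d := -22) hχ (by decide) (by decide)
  simp only [List.contains_eq_mem, mem_D A (d := -252) dρ (by decide) (by decide),
    mem_D A (d := 5544) S.da (by decide) (by decide), m3, decide_true, Bool.not_true, Bool.false_or] at h0
  obtain ⟨f, hf⟩ := F.exists_ord
  have jf := F.ic rfl hf
  have f23 : ¬ 23 ∣ orderOf f := by rw [hf]; norm_num
  have f1 : f ≠ 1 := fun e => by rw [e, orderOf_one] at hf; omega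
  have cf : cc f = 960 := F.ccp f hf
  have vρ : s ρ * iv ρ f = -2 := by
    have := m1.2
    rw [iv_one, dρ] at this
    rw [iv_eq (n := 2) (by rw [hρ f hf]; simp)]
    omega
  have va : s a * iv a f = -1 := by
    have := m2.2
    rw [iv_one, S.da] at this
    rw [iv_eq (n := -1) (by rw [(S.sing f hf.symm.dvd).1]; simp)]
    omega
  have zp : ∀ ψ ∈ L, (s ψ * iv ψ 1, s ψ * iv ψ f) ∈ (cl s L 1).zip (cl s L f) := fun ψ h => by
    rw [cl, cl, List.zip_map']; exact List.mem_map_of_mem (f := fun ψ => (s ψ * iv ψ 1, s ψ * iv ψ f)) h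
  have dgs : ∀ ψ : IrrCharacter G, dg ψ = (s ψ * iv ψ 1).natAbs := fun ψ => by
    rw [iv_one]; rcases A.sg ψ with e | e <;> rw [e] <;> omega
  have s1 := sq_le (nodup_out A hW h23) jf
  rw [pr_append, sq_append, sq_eq' A f23 jf, cf] at s1
  obtain ⟨-, vb, vc, vd⟩ := S.sing f hf.symm.dvd
  simp only [H45.MN.sq, pr, List.map_cons, List.map_nil, List.sum_cons, List.sum_nil,
    iv_eq (n := 1) (by rw [vb]; simp), iv_eq (n := -1) (by rw [vc]; simp),
    iv_eq (n := 1) (by rw [vd]; simp)] at s1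
  have e1 : s2 1 = 1 := rfl
  have e2 : s2 (-1) = 1 := rfl
  obtain ⟨θ, -, σ, k1, k2, k3⟩ := A.exists_E f23 jf
  have h1 := colg_spec (U := cl s L f) (by norm_num) ?_ (k2 ▸ k3 ▸ okp_of hG F rfl le_rfl hf θ k1)
    (by omega) h0
  swap
  · simp only [cl, List.forall₂_map_left_iff, List.forall₂_map_right_iff, List.forall₂_same]
    intro ψ _
    simp only [okf, Bool.and_eq_true, Bool.or_eq_true, bne_iff_ne, beq_iff_eq, Nat.blt_eq,
      okp_of hG F rfl le_rfl hf ψ (A.sg ψ), true_and, or_assoc]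
    refine ⟨⟨or_iff_not_imp_left.2 fun h => ?_, or_iff_not_imp_left.2 fun h => ?_⟩,
      or_iff_not_imp_left.2 fun h => ?_⟩ <;> rw [not_not] at h
    · have k := dgs ψ
      rw [h] at k
      rw [iv_eq (n := 2) (by rw [h22 ψ k f hf]; simp)]
      rw [iv_one, k] at h
      rcases A.sg ψ with e | e <;> rw [e] at h ⊢ <;> simp at h ⊢
    · by_cases k : ψ = ρ
      · exact Or.inr (k ▸ vρ)
      · exact Or.inl (h ▸ two_le_count A k (d := -252) dρ (h ▸ dgs ψ) (by decide) (by decide))
    · by_cases k : ψ = a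
      · exact Or.inr (k ▸ va)
      · exact Or.inl (h ▸ two_le_count A k (d := 5544) S.da (h ▸ dgs ψ) (by decide) (by decide))
  have z1 := zp ρ m1.1
  have z2 := zp a m2.1
  rw [m1.2, vρ] at z1
  rw [m2.2, va] at z2
  obtain ⟨k, hk⟩ := cm2 A jf jf f1 f23 f23
  rw [hG, cf] at hk
  simp only [z1, z2, decide_true, Bool.not_true, Bool.false_or, nd_false hk, Bool.and_eq_true,
    Bool.not_eq_true', decide_eq_false_iff_not, Bool.or_eq_true, beq_iff_eq] at h1
  obtain ⟨h2, h3⟩ := h1
  rcases alt with ⟨η, hη⟩ | ⟨v, hv, n7, L7, E7, s7, C⟩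
  · exact h2 (mem_D A (d := 990) hη (by decide) (by decide))
  rcases h3 with h3 | h3
  · exact not45 hG A B T h3 h2
  have hv' : v ≤ 192 := by
    simp only [List.mem_cons, List.not_mem_nil, or_false] at hv; omega
  obtain ⟨w, hw⟩ := C.exists_ord
  have jw := C.ic rfl hw
  have w23 : ¬ 23 ∣ orderOf w := by rw [hw]; norm_num
  have w1 : w ≠ 1 := fun e => by rw [e, orderOf_one] at hw; omega
  have cw' : cc w = 7 * v := C.ccp w hw
  have s2' := sq_le (nodup_out A (W := [c]) (by simpa using ne (by omega)) (by simp [dc])) jw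
  rw [pr_append, sq_append, sq_eq' A w23 jw, cw'] at s2'
  simp only [H45.MN.sq, pr, List.map_cons, List.map_nil, List.sum_cons, List.sum_nil,
    iv_eq (n := 1) (by rw [S.c7 w hw.symm.dvd]; simp)] at s2'
  obtain ⟨θ', -, σ', l1, l2, l3⟩ := A.exists_E w23 jw
  have h4 := colg_spec (U := cl s L w) (by omega) (by
    simp only [cl, List.forall₂_map_left_iff, List.forall₂_map_right_iff, List.forall₂_same]
    exact fun ψ _ => okp_of hG C rfl hv' hw ψ (A.sg ψ)) (l2 ▸ l3 ▸ okp_of hG C rfl hv' hw θ' l1)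
    (by omega) (List.all_eq_true.1 h3 v hv)
  obtain ⟨k1, hk1⟩ := cm2 A jw jw w1 w23 w23
  obtain ⟨k2, hk2⟩ := cm2 A jf jw f1 f23 w23
  rw [hG, cw'] at hk1
  rw [hG, cw', cf] at hk2
  simp [nd_false hk1, nd_false hk2] at h4

end H72.L192
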