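/- O7, chapter B: `L₂(8)` in the Weyl group of type `E₇` (slot `L28`). -/
import Cfsg.Agent.H72.O7W4

set_option autoImplicit false
set_option linter.unusedSectionVars false
set_option maxRecDepth 100000

namespace H72.L28

open H56 QuadraticMap Module Cfsg Subgroup H31.O7 H72.W4
open H20.LD (cp)

universe u

/-- the normalised sign sequence -/
def T (m : ℕ) : Bool := (f3^[m] (true, false, false)).1

def sz (b : Bool) : ℤ := cond b (-1) 1

abbrev Z7 : Type := Fin 7 → ℤ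

def sh (z : Z7) : Z7 := fun k => z (k - 1)
def sig (k : ℕ) : Z7 := fun j => sz (T (7 + k - j.val))
def SS (s : Bool × Bool × Bool) : Z7 :=
  cond s.1 (sig 0) 1 * cond s.2.1 (sig 1) 1 * cond s.2.2 (sig 2) 1
def W : Option (Bool × Bool × Bool) → Fin 7 → Z7
  | none, l => Pi.single l 2
  | some s, l => SS s * sh^[7 - l.val] ![1, 0, 0, -1, 0, -1, -1]
def B : Fin 8 → Z7 := ![0, ![2, 0, 0, 0, 0, 0, 0], ![1, 1, 1, 0, 0, 1, 0], ![1, 1, 1, 0, 0, -1, 0],
  ![1, 1, 0, 0, 1, 0, 1], ![1, 1, 0, 0, 1, 0, -1], ![1, 0, 1, 1, 1, 0, 0], ![1, 0, 1, -1, 1, 0, 0]]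
def ST (t : Finset (Fin 8)) : Z7 := ∑ i, if i ∈ t then B i else -B i

theorem d1 : ∀ i j, i ≠ j → ∃ o l b, B i - B j = sz b • W o l := by decide +kernel
theorem d2 : ∀ t : Finset (Fin 8), t.card = 4 → ∃ o l b, ST t = 2 • sz b • W o l := by decide +kernel
theorem d3' : ∀ o l, (∃ i j, i ≠ j ∧ B i - B j = W o l) ∨
    ∃ t : Finset (Fin 8), t.card = 4 ∧ ST t = 2 • W o l := by decide +kernel
theorem d4' : ∀ s s', ∃ s'', SS s * SS s' = SS s'' := by decide +kernel
theorem d5 : ∀ s, SS s * SS s = 1 := by decide +kernel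
theorem d6 : ∀ y z : Bool, ∃ m < 7, f3^[m] (true, y, z) = (true, false, false) := by decide +kernel
theorem d7 : ∀ j l : Fin 7, j ≠ l → ∃ k : Fin 3, T (7 + k - j) ≠ T (7 + k - l) := by decide +kernel
theorem d8 : ∀ s l, ∃ b, SS s * Pi.single l 1 = sz b • Pi.single l 1 := by decide +kernel

variable {K : Type u} [Field K] {V : Type u} [AddCommGroup V] [Module K V] [FiniteDimensional K V]
  {Q : QuadraticForm K V} {Γ : Type} [Group Γ] {p : ℕ} {ρ : Γ →* O Q}

/-- integral combinations -/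
def L (e : Fin 7 → V) : Z7 →ₗ[ℤ] V := Fintype.linearCombination ℤ e

theorem L_apply (e : Fin 7 → V) (z : Z7) : L e z = ∑ k, z k • e k := rfl

theorem sz_smul (b : Bool) (x : V) : sz b • x = sg K b • x := by cases b <;> simp [sz, sg]

variable (h : Rp p ρ)
include h

theorem ext7 {e : Fin 7 → V} (q : ∀ k, Q (e k) ≠ 0) (o : ∀ k l, k ≠ l → polar Q (e k) (e l) = 0) {x : V}
    (hx : ∀ k, polar Q x (e k) = 0) : x = 0 :=
  eq_zero_of_polar h.nd fun y => LinearMap.congr_fun (LinearMap.ext_on_range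
    (f := Q.polarBilin x) (g := 0) (eq_zero7 h q o) hx) y

theorem core {a g n : O Q} (e : E7 a g) (g7 : g ^ 7 = 1) (nn : n * n = 1) (ng : n * g * n⁻¹ = g⁻¹)
    (na : (n * a) ^ 3 = 1) (r : (n * a).rk = 6) : ∃ v, Q v ≠ 0 ∧
      (∀ k (j : Fin 7), (g ^ j.val) v ∈ Ei (cp g k a) (T (7 + k - j.val))) ∧
      (2 : K) • n v = v - (g ^ 3) v - (g ^ 5) v - (g ^ 6) v := by
  have h2 := h.two
  have c7 : ∀ k, cp g (7 + k) a = cp g k a := fun k => by rw [cp, pow_add, g7, one_mul, cp]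
  obtain ⟨v, q, hv⟩ : ∃ v, Q v ≠ 0 ∧ ∀ k, v ∈ Ei (cp g k a) (T k) := by
    obtain ⟨v, t, a1, a2, a3, a4, -⟩ := e7_vec h e
    obtain ⟨m, m7, hm⟩ := d6 (t 1) (t 2)
    refine ⟨(g ^ (7 - m)) v, by simpa using a1, fun k => ?_⟩
    have := ei_shift (a4 (k + m)) (7 - m)
    rwa [show 7 - m + (k + m) = 7 + k by omega, c7, show t (k + m) = T k by
      rw [T, ← hm, ← Function.iterate_add_apply, ← a2, seq3 a3]] at this
  have hv' : ∀ k (j : Fin 7), (g ^ j.val) v ∈ Ei (cp g k a) (T (7 + k - j.val)) := fun k j => by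
    have := ei_shift (hv (7 + k - j.val)) j.val
    rwa [show j.val + (7 + k - j.val) = 7 + k by omega, c7] at this
  refine ⟨v, q, hv', ?_⟩
  have o : ∀ j l : Fin 7, j ≠ l → polar Q ((g ^ j.val) v) ((g ^ l.val) v) = 0 := fun j l r =>
    let ⟨k, hk⟩ := d7 j l r; polar_ei h2 (hv' k j) (hv' k l) hk
  have q' : ∀ j : ℕ, Q ((g ^ j) v) = Q v := fun j => O.map_Q _ _
  have gn : ∀ j : ℕ, g ^ j * n * g ^ j = n := fun j => by
    rw [← mul_inv_eq_one, mul_assoc, mul_assoc, ← mul_assoc n, ← conj_pow, ng, inv_pow, mul_inv_cancel]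
  have P : ∀ j k : ℕ, polar Q (n ((g ^ j) v)) ((g ^ k) v) = polar Q (n v) ((g ^ ((j + k) % 7)) v) :=
    fun j k => by
      rw [← (g ^ j).map_polar, ← O.mul_apply, ← O.mul_apply, gn, ← O.mul_apply, ← pow_add,
        pow_eq_pow_mod _ g7]
  have ea : ∀ j : Fin 7, (g ^ j.val) v ∈ Ei a (T (7 - j.val)) := fun j => by
    simpa only [cp_zero] using hv' 0 j
  have M1 : ∀ x, x + n (a x) + a (n x) ∈ (n * a).fix := fun x => by
    have e1 : n * a * (n * a) = a * n := by
      rw [← mul_inv_eq_one, mul_inv_rev, inv_eq_of_mul_eq_one_right nn, inv_eq_of_mul_eq_one_right e.sq,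
        ← na, pow_three']
    have e2 : n * a * (a * n) = 1 := by rw [mul_assoc, ← mul_assoc a, e.sq, one_mul, nn]
    rw [O.mem_fix, map_add, map_add, ← O.mul_apply n a x, ← O.mul_apply a n x, ← O.mul_apply (n * a),
      ← O.mul_apply (n * a), e1, e2, O.one_apply]
    abel
  have M2 : ∀ x b, x ∈ Ei a b → x + n (a x) + a (n x) ∈ Ei a b := fun x b hx => by
    have := proj_mem e.sq (sg K b • n x) b
    rw [map_smul, smul_smul, sg_sq, one_smul] at this
    rw [mem_Ei.1 hx, map_smul, add_assoc]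
    exact Submodule.add_mem _ hx this
  have M3 : ∀ x y b, x ∈ Ei a b → y ∈ Ei a b →
      polar Q (x + n (a x) + a (n x)) y = polar Q x y + 2 * sg K b * polar Q (n x) y := fun x y b hx hy => by
    rw [polar_add_left, polar_add_left, mem_Ei.1 hx, map_smul, polar_smul_left, O.polar_apply_left a,
      inv_eq_of_mul_eq_one_right e.sq, mem_Ei.1 hy, polar_smul_right, smul_eq_mul]
    ring
  have M4 : ∀ y ∈ Ei a false, y + n (a y) + a (n y) = 0 := fun y hy => by
    have d : finrank K (n * a).fix = 1 := by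
      have := (n * a).rk_add_finrank_fix
      rw [r, h.dim] at this; omega
    obtain ⟨x, hx, x0⟩ : ∃ x ∈ Ei a true, x + n (a x) + a (n x) ≠ 0 := by
      by_contra c
      push Not at c
      have k1 := M3 _ _ _ (ea 0) (ea 1)
      have k2 := M3 _ _ _ (ea 4) (ea 4)
      rw [c _ (ea 0), o 0 1 (by decide), P] at k1
      rw [c _ (ea 4), polar_self', q', P] at k2
      simp only [polar_zero_left, show T (7 - (0 : Fin 7).val) = true from rfl,
        show T (7 - (4 : Fin 7).val) = true from rfl, sg, cond_true] at k1 k2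
      exact mul_ne_zero h2 q (by
        have e : ((0 : Fin 7).val + (1 : Fin 7).val) % 7 = ((4 : Fin 7).val + (4 : Fin 7).val) % 7 := rfl
        rw [e] at k1
        linear_combination k1 - k2)
    obtain ⟨μ, hμ⟩ := (finrank_eq_one_iff_of_nonzero' (⟨_, M1 x⟩ : (n * a).fix)
      (fun e => x0 (congrArg Subtype.val e))).1 d ⟨_, M1 y⟩
    by_contra c
    exact Bool.false_ne_true (ei_uniq h2 c (M2 y _ hy)
      ((show μ • (x + n (a x) + a (n x)) = y + n (a y) + a (n y) from congrArg Subtype.val hμ) ▸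
        Submodule.smul_mem _ μ (M2 x _ hx)))
  have k : ∀ j l : Fin 7, T (7 - j.val) = false → T (7 - l.val) = false →
      polar Q ((g ^ j.val) v) ((g ^ l.val) v) + 2 * polar Q (n v) ((g ^ ((j.val + l.val) % 7)) v) = 0 :=
    fun j l a1 a2 => by
      have := M3 _ _ _ (a1 ▸ ea j) (a2 ▸ ea l)
      rw [M4 _ (a1 ▸ ea j), P] at this
      simpa [sg] using this.symm
  have k6 := k 3 3 rfl rfl
  have k3 := k 5 5 rfl rfl
  have k5 := k 6 6 rfl rfl
  have k1 := k 3 5 rfl rfl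
  have k2 := k 3 6 rfl rfl
  have k4 := k 5 6 rfl rfl
  rw [polar_self', q'] at k3 k5 k6
  rw [o _ _ (by decide)] at k1 k2 k4
  obtain ⟨μ, hμ⟩ : ∃ μ : K, μ * (2 * Q v) = 2 * polar Q (n v) v := ⟨_, div_mul_cancel₀ _ (mul_ne_zero h2 q)⟩
  have o' : ∀ j l : ℕ, j < 7 → l < 7 → j ≠ l → polar Q ((g ^ j) v) ((g ^ l) v) = 0 := fun j l a b c =>
    o ⟨j, a⟩ ⟨l, b⟩ fun e => c (congrArg Fin.val e)
  have f : (2 : K) • n v = μ • (g ^ 0) v - (g ^ 3) v - (g ^ 5) v - (g ^ 6) v := sub_eq_zero.1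
    (ext7 h (e := fun j => (g ^ j.val) v) (fun j => (q' _).symm ▸ q) o fun l => by
      simp only [polar_sub_left, polar_smul_left, smul_eq_mul]
      fin_cases l <;> simp (disch := decide) only [o', polar_self', q', mul_zero, sub_zero, zero_sub]
      · simpa [sub_eq_zero] using hμ.symm
      · simpa using k1
      · simpa using k2
      · simpa [add_comm] using k3
      · simpa using k4
      · simpa [add_comm] using k5
      · simpa [add_comm] using k6)
  have f4 : (2 : K) • n ((g ^ 3) v) = μ • (g ^ 4) v - (g ^ 0) v - (g ^ 2) v - (g ^ 3) v := by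
    have e1 : n * g ^ 3 = g ^ 4 * n := by
      rw [← gn 3, ← mul_assoc, ← mul_assoc, ← pow_add, g7, one_mul, gn]
    have e2 : ∀ j, (g ^ 4) ((g ^ j) v) = (g ^ ((4 + j) % 7)) v := fun j => by
      rw [← O.mul_apply, ← pow_add, pow_eq_pow_mod _ g7]
    rw [← O.mul_apply, e1, O.mul_apply, ← map_smul, f]
    simp only [map_sub, map_smul, e2]
  have f5 : polar Q ((2 : K) • n v) ((2 : K) • n ((g ^ 3) v)) = 0 := by
    have := o' 0 3 (by decide) (by decide) (by decide)
    rw [pow_zero, O.one_apply] at this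
    rw [polar_smul_left, polar_smul_right, O.map_polar, this, smul_zero, smul_zero]
  rw [f, f4] at f5
  simp (disch := decide) only [polar_sub_left, polar_sub_right, polar_smul_left, polar_smul_right, o',
    polar_self', q', smul_eq_mul] at f5
  rw [f, show μ = 1 from mul_right_cancel₀ (mul_ne_zero h2 q) (by linear_combination -f5)]
  simp

omit h in
theorem jobL28 : JobL28.{u} := by
  intro p K _ V _ _ _ Q Γ _ _ ρ h a g n x y c _ r
  have h2 := h.two
  have g7 : ρ g ^ 7 = 1 := by rw [← map_pow, c.g7, map_one]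
  have ng : ρ n * ρ g * (ρ n)⁻¹ = (ρ g)⁻¹ := by rw [← map_inv, ← map_mul, ← map_mul, c.ng, map_inv]
  obtain ⟨v, q, hv, hn⟩ := core h (E7.map c.toE7 h.inj) g7 (sq_map h c.nn) ng
    (by rw [← map_mul, ← map_pow, c.na, map_one]) (by rw [← map_mul, Rp.rk_conj c.cy, r])
  obtain ⟨e, he⟩ : ∃ e : Fin 7 → V, ∀ j, e j = (ρ g ^ j.val) v := ⟨_, fun _ => rfl⟩
  simp only [← he, ← map_cp] at hv
  have q' : ∀ j, Q (e j) = Q v := fun j => by rw [he, O.map_Q]
  have o : ∀ j l, j ≠ l → polar Q (e j) (e l) = 0 := fun j l r =>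
    let ⟨k, hk⟩ := d7 j l r; polar_ei h2 (hv k j) (hv k l) hk
  have La : ∀ k z, ρ (cp g k a) (L e z) = L e (sig k * z) := fun k z => by
    simp only [L_apply, map_sum, map_zsmul, mem_Ei.1 (hv k _), ← sz_smul, smul_smul, Pi.mul_apply, sig,
      mul_comm]
  have Lg : ∀ z, ρ g (L e z) = L e (sh z) := fun z => by
    rw [L_apply, L_apply, map_sum, ← Equiv.sum_comp (Equiv.addRight 1) fun k => sh z k • e k]
    refine Finset.sum_congr rfl fun k _ => ?_
    rw [map_zsmul, Equiv.coe_addRight, sh, add_sub_cancel_right, he, he, ← O.mul_apply, ← pow_succ',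
      pow_eq_pow_mod _ g7, Fin.val_add]
    rfl
  have Lg' : ∀ m z, (ρ g ^ m) (L e z) = L e (sh^[m] z) := fun m z => by
    induction m with
    | zero => rfl
    | succ m ih => rw [pow_succ', O.mul_apply, ih, Lg, Function.iterate_succ_apply']
  have Ln : ∀ l, (2 : K) • ρ n (e l) = L e (sh^[7 - l.val] ![1, 0, 0, -1, 0, -1, -1]) := fun l => by
    have e1 : ρ n * ρ g ^ l.val = ρ g ^ (7 - l.val) * ρ n := by
      rw [← mul_inv_eq_iff_eq_mul, ← conj_pow, ng, inv_pow, inv_eq_iff_mul_eq_one, ← pow_add,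
        show l.val + (7 - l.val) = 7 by omega, g7]
    rw [he, ← O.mul_apply, e1, O.mul_apply, ← map_smul, hn, ← Lg']
    simp [L_apply, Fin.sum_univ_succ, he, sub_eq_add_neg, add_assoc]
  have LE : ∀ d ∈ closure {a, cp g 1 a, cp g 2 a}, ∃ s, ∀ z, ρ d (L e z) = L e (SS s * z) := fun d hd => by
    induction hd using closure_induction with
    | mem d hd =>
      rcases hd with rfl | rfl | rfl
      · exact ⟨(true, false, false), fun z => by simpa [SS, cp_zero] using La 0 z⟩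
      · exact ⟨(false, true, false), fun z => by simpa [SS] using La 1 z⟩
      · exact ⟨(false, false, true), fun z => by simpa [SS] using La 2 z⟩
    | one => exact ⟨(false, false, false), fun z => by simp [SS]⟩
    | mul d d' _ _ a1 a2 =>
      obtain ⟨s, a1⟩ := a1
      obtain ⟨s', a2⟩ := a2
      obtain ⟨s'', a3⟩ := d4' s s'
      exact ⟨s'', fun z => by rw [map_mul, O.mul_apply, a2, a1, ← mul_assoc, a3]⟩
    | inv d _ a1 =>
      obtain ⟨s, a1⟩ := a1
      exact ⟨s, fun z => by rw [map_inv, O.inv_apply_eq, a1, ← mul_assoc, d5, one_mul]⟩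
  have L1 : ∀ l (m : ℤ), L e (Pi.single l m) = m • e l := fun l m => by simp [L]
  have LW : ∀ o l, ∃ d : Γ, L e (W o l) = (2 : K) • ρ d (e l) := by
    rintro (_ | ⟨i, j, k⟩) l
    · exact ⟨1, by simp [W, L1, two_smul]⟩
    · refine ⟨cond i (cp g 0 a) 1 * cond j (cp g 1 a) 1 * cond k (cp g 2 a) 1 * n, ?_⟩
      rw [map_mul, O.mul_apply, ← map_smul, Ln, W, SS]
      cases i <;> cases j <;> cases k <;> simp [La, mul_assoc]
  have ev : ∀ (d : Γ) l b, sg K b • ρ d (e l) ∈ EV ρ := fun d l b => by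
    refine ⟨smul_ne_zero (sg_ne b) fun r => q (by rw [← q' l, ← (ρ d).map_Q, r, map_zero]),
      (closure {a, cp g 1 a, cp g 2 a}).map (MulAut.conj d).toMonoidHom,
      by rw [card_map_of_injective (MulAut.conj d).injective, c.card], ?_⟩
    rintro _ ⟨d', hd, rfl⟩
    obtain ⟨s, hs⟩ := LE d' hd
    obtain ⟨b', hb⟩ := d8 s l
    have := hs (Pi.single l 1)
    rw [hb, map_zsmul, L1, one_smul, sz_smul (K := K)] at this
    exact ⟨sg K b', by simp [this, smul_comm (sg K b)]⟩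
  have eig : ∀ w, w ≠ 0 → (∀ d ∈ closure {a, cp g 1 a, cp g 2 a}, ∃ c : K, ρ d w = c • w) →
      ∃ l, ∃ μ : K, w = μ • e l := fun w w0 hw => by
    have k : ∀ k : Fin 3, ∃ b, w ∈ Ei (ρ (cp g k a)) b := fun k => by
      obtain ⟨μ, hμ⟩ := hw (cp g k a) (subset_closure (by fin_cases k <;> simp [cp_zero]))
      have : (μ * μ) • w = (1 : K) • w := by
        rw [← smul_smul, ← hμ, ← map_smul, ← hμ, ← O.mul_apply, ← map_mul, ← cp_mul, c.sq]; simp [cp]
      rcases mul_self_eq_one_iff.1 (smul_left_injective K w0 this) with rfl | rfl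
      exacts [⟨false, hμ⟩, ⟨true, hμ⟩]
    choose b hb using k
    obtain ⟨l, hl⟩ : ∃ l, polar Q w (e l) ≠ 0 := by
      by_contra r
      push Not at r
      exact w0 (ext7 h (fun j => (q' j).symm ▸ q) o r)
    refine ⟨l, polar Q w (e l) / (2 * Q v), sub_eq_zero.1 (ext7 h (fun j => (q' j).symm ▸ q) o fun m => ?_)⟩
    rw [polar_sub_left, polar_smul_left]
    by_cases r : l = m
    · rw [← r, polar_self', q', smul_eq_mul, div_mul_cancel₀ _ (mul_ne_zero h2 q), sub_self]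
    · obtain ⟨k, hk⟩ := d7 l m r
      rw [o l m r, smul_zero, sub_zero]
      exact polar_ei h2 (hb k) (hv k m) fun e' => hl (polar_ei h2 (hb k) (hv k l) (e' ▸ hk.symm))
  have hb : ∀ i j, (2 : K)⁻¹ • L e (B i) - (2 : K)⁻¹ • L e (B j) = (2 : K)⁻¹ • L e (B i - B j) :=
    fun i j => by rw [map_sub, smul_sub]
  have hs : ∀ t : Finset (Fin 8), (∑ i, if i ∈ t then (2 : K)⁻¹ • L e (B i) else -((2 : K)⁻¹ • L e (B i))) =
      (2 : K)⁻¹ • L e (ST t) := fun t => by
    rw [ST, map_sum, Finset.smul_sum]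
    exact Finset.sum_congr rfl fun i _ => by split_ifs <;> simp
  have hd : ∀ i j, i ≠ j → ∃ d l b, (2 : K)⁻¹ • L e (B i - B j) = sg K b • ρ d (e l) := fun i j r => by
    obtain ⟨o, l, b, r⟩ := d1 i j r
    obtain ⟨d, hd⟩ := LW o l
    exact ⟨d, l, b, by rw [r, map_zsmul, hd, sz_smul (K := K), smul_comm, inv_smul_smul₀ h2]⟩
  have t2 : ∀ w : V, (2 : K)⁻¹ • (2 • w) = w := fun w => by
    rw [two_smul, ← two_smul K, inv_smul_smul₀ h2]
  have mem : ∀ o l, (2 : K)⁻¹ • L e (W o l) ∈ RE (K := K) fun i => (2 : K)⁻¹ • L e (B i) := fun o l => by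
    rcases d3' o l with ⟨i, j, r, r'⟩ | ⟨t, r, r'⟩
    · exact Or.inl ⟨i, j, r, by rw [hb, r']⟩
    · exact Or.inr ⟨t, r, by rw [hs, r', map_nsmul, t2, smul_inv_smul₀ h2]⟩
  refine ⟨fun i => (2 : K)⁻¹ • L e (B i), Q v, q, fun i j r => ?_, ?_, ?_⟩
  · obtain ⟨d, l, b, r⟩ := hd i j r
    rw [hb, r, Q_smul, sg_sq, O.map_Q, q', one_mul]
  · rintro w (⟨i, j, r, rfl⟩ | ⟨t, r, r'⟩)
    · obtain ⟨d, l, b, r⟩ := hd i j r
      rw [hb, r]; exact ev d l b
    · obtain ⟨o, l, b, r⟩ := d2 t r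
      obtain ⟨d, hd⟩ := LW o l
      rw [hs, r, map_nsmul, t2, map_zsmul, hd, sz_smul (K := K), smul_comm, smul_right_inj h2] at r'
      exact r' ▸ ev d l b
  · rintro w ⟨w0, A, a1, a2⟩
    rcases c.syl A a1 with rfl | ⟨d, hd, rfl⟩
    · obtain ⟨l, μ, rfl⟩ := eig w w0 a2
      exact ⟨_, mem none l, μ, by rw [W, L1, two_zsmul, ← two_smul K, inv_smul_smul₀ h2]⟩
    · obtain ⟨l, μ, r⟩ := eig ((ρ (d * n))⁻¹ w) (fun r => w0 (by simpa using O.inv_apply_eq _ |>.1 r))
        fun d' hd' => by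
          obtain ⟨μ, r⟩ := a2 _ ⟨d', hd', rfl⟩
          exact ⟨μ, by rw [← map_smul, ← r]; simp⟩
      obtain ⟨s, hs⟩ := LE d hd
      refine ⟨_, mem (some s) l, μ, ?_⟩
      rw [W, ← hs, ← Ln, map_smul, inv_smul_smul₀ h2, (O.inv_apply_eq _).1 r, map_smul, map_mul, O.mul_apply]

end H72.L28
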