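import Cfsg.Agent.H90.RFKit2

/-! RF tower: jobs A8 (automorphisms of `Q`) and Cj (transport of the automizers). -/

set_option autoImplicit false
set_option linter.unusedSectionVars false
set_option linter.unusedSimpArgs false

open Subgroup H63.Oc H90.RF

universe v

namespace H72.RF

section A8
variable {K : Type*} [Field K] [CharP K 2] {T : TF K}

theorem Z_le_Q : sZ T ≤ sQ T := fun _ h => ⟨h.2.2.2.2.2.2.2.2.2.1, h.2.2.2.2.2.2.2.2.2.2⟩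
theorem V_le_Q : sV T ≤ sQ T := fun _ h => ⟨h.2.2.2.2.2.1, h.2.2.2.2.2.2⟩
theorem R_le_Q : sR T ≤ sQ T := fun _ h => ⟨h.2.2.2.2.1, h.2.2.2.2.2⟩
theorem F0_le_Q : sF0 T ≤ sQ T := fun _ h => ⟨h.2.2.2.1, h.2.2.2.2⟩
theorem F1_le_Q : sF1 T ≤ sQ T := fun _ h => ⟨h.2.2.2.1, h.2.2.2.2⟩

theorem cmR {r c : Co T} (hr : r ∈ sR T) (hc : c ∈ sQ T) : ∃ x, cm c r =
    ⟨0, 0, r.b4 * c.a1, r.b4 * c.b2, 0, x, r.b4 * c.b6, 0, r.b4 * c.a7, 0, 0, 0⟩ := by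
  obtain ⟨h1, h2⟩ := hc
  obtain ⟨g1, g2, g3, g4, g5, g6⟩ := hr
  refine ⟨(cm c r).a4, ?_⟩
  ext <;> first | rfl | (simp [*, cm, T.sq] <;> grind)

variable [Finite K] {β : Co T → Co T}

theorem pr_bot {X : Subgroup (Co T)} (h : Au X β) : Pr β ⊥ := fun c hc => by
  rw [mem_bot.1 hc, h.one]; exact one_mem _

theorem pr_Z (h : Au (sQ T) β) : Pr β (sZ T) := fun c hc =>
  H14.Oc.mem_Z (h.mem c (Z_le_Q hc)) fun q hq => by
    obtain ⟨d, hd, rfl⟩ := h.sur q hq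
    rw [← h.mul _ (Z_le_Q hc) _ hd, ← h.mul _ hd _ (Z_le_Q hc), H14.Oc.eq_x4 hc, H14.Oc.x4_comm]

theorem pr_V (h : Au (sQ T) β) : Pr β (sV T) := fun c hc =>
  H14.Oc.mem_V (h.mem c (V_le_Q hc)) fun q hq => by
    obtain ⟨d, hd, rfl⟩ := h.sur q hq
    have hc' := V_le_Q hc
    rw [← h.conj hd hc', ← h.inv hc', ← h.mul _ (mul_mem (mul_mem hd hc') (inv_mem hd)) _ (inv_mem hc')]
    exact pr_Z h _ (H14.Oc.cm_VQ hc hd)

theorem pr_R (h : Au (sQ T) β) : Pr β (sR T) := fun c hc =>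
  H14.Oc.mem_R (h.mem c (R_le_Q hc)) fun q hq => by
    obtain ⟨d, hd, rfl⟩ := h.sur_of V_le_Q (pr_V h) q hq
    rw [← h.mul _ (R_le_Q hc) _ (V_le_Q hd), ← h.mul _ (V_le_Q hd) _ (R_le_Q hc), H14.Oc.cm_RV hc hd]

theorem pr_z8 (h : Au (sQ T) β) (i : ℕ) : Pr β (z8 T i) := by
  unfold z8
  split
  exacts [pr_bot h, pr_Z h, pr_V h, pr_R h, h.mem]

theorem x7_mem (t : K) : x7 T t ∈ sF0 T := ⟨rfl, rfl, rfl, rfl, rfl⟩

/-- the images of the elements of `F₀` are proportional modulo `R` -/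
theorem prop (h : Au (sQ T) β) {c : Co T} (hc : c ∈ sF0 T) : ∃ s : K,
    (β c).a1 = s * (β (x7 T 1)).a1 ∧ (β c).b2 = s * (β (x7 T 1)).b2 ∧
    (β c).b6 = s * (β (x7 T 1)).b6 ∧ (β c).a7 = s * (β (x7 T 1)).a7 := by
  have y4R : ∀ t, y4 T t ∈ sR T := fun t => ⟨rfl, rfl, rfl, rfl, rfl, rfl⟩
  have hQ := F0_le_Q hc
  have h7 := F0_le_Q (T := T) (x7_mem 1)
  obtain ⟨r, hr, er⟩ := h.sur_of R_le_Q (pr_R h) _ (y4R 1)
  obtain ⟨x, e1⟩ := cmR hr hQ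
  obtain ⟨x', e2⟩ := cmR (y4R (r.b4 * c.a7)) h7
  have hz : (cm (x7 T 1) (y4 T (r.b4 * c.a7)))⁻¹ * cm c r ∈ sZ T := by
    rw [e1, e2]
    exact H55.Oc.memZ rfl rfl (by simp [hc.1, x7]) (by simp [hc.2.1, x7]) rfl (by simp) rfl rfl rfl
      (by simp [hc.2.2.1, x7]) (by simp [x7, y4])
  have m1 : cm c r ∈ sQ T := by rw [e1]; exact ⟨rfl, rfl⟩
  have m2 : cm (x7 T 1) (y4 T (r.b4 * c.a7)) ∈ sQ T := by rw [e2]; exact ⟨rfl, rfl⟩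
  have hz' := pr_Z h _ hz
  rw [h.mul _ (inv_mem m2) _ m1, h.inv m2, h.cm hQ (R_le_Q hr), h.cm h7 (R_le_Q (y4R _)), er] at hz'
  obtain ⟨x1, e3⟩ := cmR (y4R 1) (h.mem c hQ)
  obtain ⟨x2, e4⟩ := cmR (pr_R h _ (y4R (r.b4 * c.a7))) (h.mem _ h7)
  rw [e3, e4] at hz'
  refine ⟨(β (y4 T (r.b4 * c.a7))).b4, ?_⟩
  generalize β (y4 T (r.b4 * c.a7)) = p at *
  generalize β (x7 T 1) = m at *
  generalize β c = d at *
  obtain ⟨-, -, k1, k2, -, k3, -, k4, -⟩ := hz'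
  simp [y4] at k1 k2 k3 k4
  refine ⟨?_, ?_, ?_, ?_⟩ <;> grind

theorem dich (h : Au (sQ T) β) :
    Pr β (sF0 T) ∨ ∃ u ∈ sU8 T, ∀ c ∈ sF0 T, u⁻¹ * β c * u ∈ sF1 T := by
  have h7 := F0_le_Q (T := T) (x7_mem 1)
  have hm : β (x7 T 1) * β (x7 T 1) = 1 := by
    rw [← h.mul _ h7 _ h7, show x7 T 1 * x7 T 1 = 1 by ext <;> simp [x7] <;> grind, h.one]
  by_cases h1 : (β (x7 T 1)).a1 = 0
  · refine Or.inl fun c hc => ?_
    obtain ⟨s, e1, e2, e3, -⟩ := prop h hc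
    have hq := h.mem c (F0_le_Q hc)
    rcases inv_VA hm h1 (h.mem _ h7).2 with k | k
    · exact ⟨by rw [e1, h1, mul_zero], by rw [e2, k.2.1, mul_zero], by rw [e3, k.2.2.2.1, mul_zero], hq⟩
    · exact ⟨by rw [e1, h1, mul_zero], by rw [e2, k.2.1, mul_zero], by rw [e3, k.2.2.2.2.1, mul_zero], hq⟩
  · obtain ⟨u, hu, k, -⟩ := inv_F1 hm h1
    refine Or.inr ⟨u⁻¹, inv_mem hu, fun c hc => ?_⟩
    have h' : Au (sQ T) fun c => u * β c * u⁻¹ :=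
      (au_conj (s := u) (by rw [normalizer_eq_top]; trivial)).comp h
    obtain ⟨s, -, e2, e3, e4⟩ := prop h' hc
    have hq := h'.mem c (F0_le_Q hc)
    rw [inv_inv]
    exact ⟨by rw [e2, k.1, mul_zero], by rw [e3, k.2.1, mul_zero], by rw [e4, k.2.2.1, mul_zero], hq⟩

theorem a8 : A8 T := fun β h => by
  refine ⟨pr_z8 h, dich h, fun p => ?_⟩
  rcases dich (h.comp au_nu8) with k | ⟨u, hu, k⟩
  · have h1 : (x7 T 1).nu8 ∈ sF0 T := h.mem_of F0_le_Q p ⟨rfl, rfl⟩ (k _ (x7_mem 1))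
    exact absurd h1.1 (by simp [Co.nu8, x7])
  · refine ⟨u, hu, fun c hc => ?_⟩
    have := k _ (nu8_F1 hc)
    rwa [nu8_nu8 (F1_le_Q hc)] at this

end A8

theorem jobA8 : JobA8.{v} := fun _ _ _ _ _ => a8

section Cj
variable {P : Type*} [Group P] [Finite P] {θ : MulAut P} {X U : Subgroup P}
  {Y Y' : Subgroup (Equiv.Perm P)} {y α : Equiv.Perm P}

theorem mem_iff (p : Pr θ X) (c : P) : θ c ∈ X ↔ c ∈ X :=
  ⟨(au_aut θ).mem_of le_top p trivial, p c⟩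

theorem sur (p : Pr θ X) {c : P} (hc : c ∈ X) : ∃ d ∈ X, θ d = c := (au_aut θ).sur_of le_top p c hc

theorem lg_cj (p : Pr θ X) (h : Lg X Y) : Lg X (cjY θ Y) := by
  refine ⟨fun y hy => ?_, fun y hy c hc => ?_⟩ <;> obtain ⟨α, hα, e⟩ := mem_cjY.1 hy
  · have a := h.au α hα
    refine Au.of_inj (fun c hc => (mem_iff p _).1 (e c ▸ a.mem _ (p c hc))) (fun c hc d hd => ?_)
      fun c _ d _ k => y.injective k
    apply θ.injective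
    rw [← e, map_mul, a.mul _ (p c hc) _ (p d hd), e, e, map_mul]
  · exact θ.injective ((e c).symm.trans (h.out α hα _ fun k => hc ((mem_iff p c).1 k)))

theorem inner_cj (p : Pr θ X) (q : Pr θ U) (e : ∀ c, α (θ c) = θ (y c))
    (h : ∃ s ∈ U, ∀ c ∈ X, α c = s * c * s⁻¹) : ∃ s ∈ U, ∀ c ∈ X, y c = s * c * s⁻¹ := by
  obtain ⟨s, hs, k⟩ := h
  obtain ⟨t, ht, rfl⟩ := sur q hs
  exact ⟨t, ht, fun c hc => θ.injective (by rw [← e, k _ (p c hc), map_mul, map_mul, map_inv])⟩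

theorem cg_cj {z : ℕ → Subgroup P} {n : ℕ} (p : ∀ i, Pr θ (z i)) (e : ∀ c, α (θ c) = θ (y c))
    (h : Cg z n y id) : Cg z n α id := fun i hi c hc => by
  obtain ⟨d, hd, rfl⟩ := sur (p _) hc
  have := p i _ (h i hi d hd)
  rwa [map_mul, map_inv, ← e] at this

theorem pr_cj (p : Pr θ X) (e : ∀ c, α (θ c) = θ (y c)) (h : Pr y X) : Pr α X := fun c hc => by
  obtain ⟨d, hd, rfl⟩ := sur p hc
  rw [e]; exact p _ (h d hd)

theorem agree_cj (p : Pr θ X) (e : ∀ c, α (θ c) = θ (y c)) (h : ∃ α' ∈ Y', ∀ c ∈ X, α' c = α c) :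
    ∃ y' ∈ cjY θ Y', ∀ c ∈ X, y' c = y c := by
  obtain ⟨α', h1, h2⟩ := h
  obtain ⟨y', k1, k2⟩ := exists_cjY θ h1
  exact ⟨y', k1, fun c hc => θ.injective (by rw [← k2, h2 _ (p c hc), e])⟩

theorem agree_cj' (p : Pr θ X) (e : ∀ c, α (θ c) = θ (y c)) (h : ∃ α' ∈ Y', ∀ c ∈ X, α c = α' c) :
    ∃ y' ∈ cjY θ Y', ∀ c ∈ X, y c = y' c :=
  (agree_cj p e (h.imp fun _ k => ⟨k.1, fun c hc => (k.2 c hc).symm⟩)).imp
    fun _ k => ⟨k.1, fun c hc => (k.2 c hc).symm⟩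

end Cj

theorem jobCj : JobCj.{v} := by
  intro K _ _ _ T hS θ Y0 Y8 Y1 h
  obtain ⟨p0, p1, -⟩ := hS θ (au_aut θ)
  have pT : Pr θ ⊤ := fun _ _ => trivial
  have pQ : Pr θ (sQ T) := p1 _ (by simp)
  have pQ1 : Pr θ (sQ1 T) := p0 11
  have p8 : ∀ i, Pr θ (z8 T i) := fun i => by
    unfold z8
    split
    exacts [p0 0, p0 1, p0 5, p1 _ (by simp), pQ]
  refine ⟨lg_cj pT h.l0, lg_cj pQ h.l8, lg_cj pQ1 h.l1, fun s => ?_, fun y hy k => ?_, fun y hy => ?_,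
    fun y hy k => ?_, fun y hy k => ?_, fun y hy => ?_, fun y hy k => ?_, fun y hy k => ?_⟩
  · obtain ⟨α, h1, h2⟩ := h.inn (θ s)
    obtain ⟨y, k1, k2⟩ := exists_cjY θ h1
    exact ⟨y, k1, fun c => θ.injective (by rw [← k2, h2, map_mul, map_mul, map_inv])⟩
  all_goals obtain ⟨α, hα, e⟩ := mem_cjY.1 hy
  · obtain ⟨s, hs⟩ := h.rad0 α hα (cg_cj p0 e k)
    obtain ⟨t, -, ht⟩ := inner_cj pT pT e ⟨s, trivial, fun c _ => hs c⟩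
    exact ⟨t, fun c => ht c trivial⟩
  · exact agree_cj pQ e (h.res8 α hα)
  · exact agree_cj' pQ e (h.ext8 α hα (pr_cj (p0 7) e k))
  · exact inner_cj pQ pQ e (h.rad8 α hα (cg_cj p8 e k))
  · exact agree_cj pQ1 e (h.res1 α hα)
  · exact agree_cj' pQ1 e (h.ext1 α hα (pr_cj (p0 1) e k))
  · refine inner_cj pQ1 pQ1 e (h.rad1 α hα fun c hc => ?_)
    obtain ⟨d, hd, rfl⟩ := sur (p0 2) hc
    rw [e, k d hd]

end H72.RF
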