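/- Collection with symbolic tails in an extension of a polycyclic group of order 128 by an
11-dimensional module over the field of two elements, and checked linear algebra. -/
import Cfsg.Agent.H81.Words
import Cfsg.Agent.H72.Golay

set_option autoImplicit false

namespace H72.TE

open H81 (frc band band_iff brec_true allN of_allN)
open Finset

noncomputable section

/-- a binary digit. -/
def bt (y b : ℕ) : ZMod 2 := if y.testBit b then 1 else 0

theorem bt_xor (x y b : ℕ) : bt (Nat.xor x y) b = bt x b + bt y b := by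
  show bt (x ^^^ y) b = _
  simp only [bt, Nat.testBit_xor]
  cases x.testBit b <;> cases y.testBit b <;> decide

/-- value of a linear form. -/
def ev (a : ℕ → ZMod 2) (y : ℕ) : ZMod 2 := ∑ b ∈ range 847, bt y b * a b

theorem ev_xor (a : ℕ → ZMod 2) (x y : ℕ) : ev a (Nat.xor x y) = ev a x + ev a y := by
  simp only [ev, bt_xor, add_mul, sum_add_distrib]

theorem ev_zero (a : ℕ → ZMod 2) : ev a 0 = 0 := by simp [ev, bt]

theorem ev_shl (a : ℕ → ZMod 2) {r s n : ℕ} (hr : r < 2 ^ n) (hs : s + n ≤ 847) :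
    ev a (Nat.shiftLeft r s) = ∑ k ∈ range n, bt r k * a (s + k) := by
  obtain ⟨m, hm⟩ := Nat.exists_eq_add_of_le hs
  have e : ∀ b, bt (Nat.shiftLeft r s) b = if s ≤ b then bt r (b - s) else 0 := by
    intro b
    show bt (r <<< s) b = _
    by_cases h : s ≤ b <;> simp [bt, Nat.testBit_shiftLeft, h]
  rw [ev, hm, sum_range_add, sum_range_add, sum_eq_zero, zero_add, sum_eq_zero (s := range m),
    add_zero]
  · exact sum_congr rfl fun k _ => by rw [e, if_pos (by omega), Nat.add_sub_cancel_left]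
  · intro k _
    rw [e, if_pos (by omega), bt, Nat.testBit_lt_two_pow
      (hr.trans_le (Nat.pow_le_pow_right (by decide) (by omega)))]
    simp
  · intro k hk
    rw [e, if_neg (by have := mem_range.1 hk; omega), zero_mul]

theorem ev_congr {a a' : ℕ → ZMod 2} {y n : ℕ} (hy : y < 2 ^ n) (h : ∀ b < n, a b = a' b) :
    ev a y = ev a' y := by
  refine sum_congr rfl fun b _ => ?_
  by_cases hb : b < n
  · rw [h b hb]
  · rw [bt, Nat.testBit_lt_two_pow (hy.trans_le (Nat.pow_le_pow_right (by decide) (by omega)))]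
    simp

/-- position of the leading digit. -/
def lg (r : ℕ) (k : ℕ → Bool) (l : List ℕ) : ℕ → Bool :=
  List.rec (motive := fun _ => ℕ → Bool) k (fun s _ ih a => frc (Nat.add a s) fun a' =>
    Bool.rec (motive := fun _ => Bool) (ih a') (ih a) (Nat.beq (Nat.shiftRight r a') 0)) l

theorem lg_sound {r : ℕ} {k : ℕ → Bool} (l : List ℕ) : ∀ {a : ℕ}, lg r k l a = true →
    ∃ p, k p = true := by
  induction l with
  | nil => intro a h; exact ⟨a, h⟩
  | cons s l ih =>
    intro a h
    rcases brec_true h with ⟨-, h⟩ | ⟨-, h⟩ <;> exact ih h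

/-- steps of the binary search. -/
def lgL : List ℕ := [512, 256, 128, 64, 32, 16, 8, 4, 2, 1]

/-- insert a row into an echelon basis. -/
def ins (bs : List (ℕ × ℕ)) : ℕ → (List (ℕ × ℕ) → Bool) → Bool :=
  List.rec (motive := fun _ => ℕ → (List (ℕ × ℕ) → Bool) → Bool)
    (fun r k => Bool.rec (motive := fun _ => Bool)
      (lg r (fun p => k [(p, r)]) lgL 0) (k []) (Nat.beq r 0))
    (fun b bs ih r k => Prod.rec (motive := fun _ => Bool) (fun q c =>
      Nat.rec (motive := fun _ => Bool) (ih r fun l => k ((q, c) :: l))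
        (fun n _ => Bool.rec (motive := fun _ => Bool)
          (lg r (fun p => k ((p, r) :: (q, c) :: bs)) lgL 0)
          (frc (Nat.xor r c) fun r' => Bool.rec (motive := fun _ => Bool)
            (ih r' fun l => k ((q, c) :: l)) (k ((q, c) :: bs)) (Nat.beq r' 0))
          (Nat.beq n 0)) (Nat.shiftRight r q)) b) bs

/-- insert the rows `g 0, …, g (n-1)`. -/
def insN (g : ℕ → ℕ) (n : ℕ) : List (ℕ × ℕ) → (List (ℕ × ℕ) → Bool) → Bool :=
  Nat.rec (motive := fun _ => List (ℕ × ℕ) → (List (ℕ × ℕ) → Bool) → Bool) (fun bs k => k bs)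
    (fun l ih bs k => frc (g l) fun r => Bool.rec (motive := fun _ => Bool)
      (ins bs r fun bs' => ih bs' k) (ih bs k) (Nat.beq r 0)) n

/-- reduce a row to zero. -/
def red (bs : List (ℕ × ℕ)) : ℕ → Bool :=
  List.rec (motive := fun _ => ℕ → Bool) (fun r => Nat.beq r 0)
    (fun b _ ih r => Prod.rec (motive := fun _ => Bool) (fun q c =>
      Bool.rec (motive := fun _ => Bool) (frc (Nat.xor r c) fun r' =>
        Bool.rec (motive := fun _ => Bool) (ih r') true (Nat.beq r' 0)) (ih r)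
      (Nat.beq (Nat.shiftRight r q) 0)) b) bs

/-- all rows vanish. -/
def Z (a : ℕ → ZMod 2) (bs : List (ℕ × ℕ)) : Prop := ∀ b ∈ bs, ev a b.2 = 0

variable {a : ℕ → ZMod 2}

theorem ins_sound (bs : List (ℕ × ℕ)) : ∀ {r : ℕ} {k : List (ℕ × ℕ) → Bool}, Z a bs →
    ev a r = 0 → ins bs r k = true → ∃ bs', Z a bs' ∧ k bs' = true := by
  induction bs with
  | nil =>
    intro r k h hr H
    rcases brec_true H with ⟨-, H⟩ | ⟨-, H⟩
    · obtain ⟨p, H⟩ := lg_sound (r := r) lgL (a := 0) H
      exact ⟨_, by simpa [Z] using hr, H⟩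
    · exact ⟨_, h, H⟩
  | cons b bs ih =>
    intro r k h hr H
    obtain ⟨q, c⟩ := b
    have hb := h _ List.mem_cons_self
    have h' : Z a bs := fun c hc => h c (List.mem_cons_of_mem _ hc)
    change Nat.rec (motive := fun _ => Bool) _ _ (Nat.shiftRight r q) = true at H
    generalize Nat.shiftRight r q = n at H
    cases n with
    | zero =>
      obtain ⟨l, h1, h2⟩ := ih h' hr H
      exact ⟨_, List.forall_mem_cons.2 ⟨hb, h1⟩, h2⟩
    | succ n =>
      rcases brec_true H with ⟨-, H⟩ | ⟨-, H⟩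
      · obtain ⟨p, H⟩ := lg_sound (r := r) lgL (a := 0) H
        exact ⟨(p, r) :: (q, c) :: bs, List.forall_mem_cons.2 ⟨hr, h⟩, H⟩
      · rcases brec_true H with ⟨-, H⟩ | ⟨-, H⟩
        · obtain ⟨l, h1, h2⟩ := ih (r := Nat.xor r c) h' (by rw [ev_xor, hr, hb, add_zero]) H
          exact ⟨_, List.forall_mem_cons.2 ⟨hb, h1⟩, h2⟩
        · exact ⟨_, h, H⟩

theorem insN_sound {g : ℕ → ℕ} {k : List (ℕ × ℕ) → Bool} (n : ℕ) : ∀ {bs : List (ℕ × ℕ)}, Z a bs →
    (∀ l < n, ev a (g l) = 0) → insN g n bs k = true → ∃ bs', Z a bs' ∧ k bs' = true := by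
  induction n with
  | zero => intro bs h _ H; exact ⟨bs, h, H⟩
  | succ n ih =>
    intro bs h hg H
    rcases brec_true H with ⟨-, H⟩ | ⟨-, H⟩
    · obtain ⟨l, h1, h2⟩ := ins_sound bs (r := g n) h (hg n (by omega)) H
      exact ih h1 (fun l hl => hg l (by omega)) h2
    · exact ih h (fun l hl => hg l (by omega)) H

theorem red_sound (bs : List (ℕ × ℕ)) : ∀ {r : ℕ}, Z a bs → red bs r = true → ev a r = 0 := by
  induction bs with
  | nil => intro r _ H; rw [Nat.eq_of_beq_eq_true H, ev_zero]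
  | cons b bs ih =>
    intro r h H
    obtain ⟨q, c⟩ := b
    have h' : Z a bs := fun c hc => h c (List.mem_cons_of_mem _ hc)
    have key : ev a (Nat.xor r c) = ev a r := by
      rw [ev_xor, show ev a c = 0 from h (q, c) List.mem_cons_self, add_zero]
    rcases brec_true H with ⟨-, H⟩ | ⟨-, H⟩
    · rcases brec_true H with ⟨-, H⟩ | ⟨H, -⟩
      · exact key ▸ ih (r := Nat.xor r c) h' H
      · rw [← key, Nat.eq_of_beq_eq_true H, ev_zero]
    · exact ih h' H

/-- the normal word with exponent vector `e`. -/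
def nfL (e : ℕ) : List ℕ := [0, 1, 2, 3, 4, 5, 6].filter (tb e)

theorem nfL_lt {e c : ℕ} (h : c ∈ nfL e) : c < 7 := by
  have := (List.mem_filter.1 h).1
  simp only [List.mem_cons, List.not_mem_nil, or_false] at this
  omega

theorem nfL_step : ∀ e < 128, ∀ c < 7,
    (Nat.ble (Nat.pow 2 c) e = false → Nat.add e (Nat.pow 2 c) < 128 ∧
      nfL (Nat.add e (Nat.pow 2 c)) = nfL e ++ [c]) ∧
    (Nat.ble (Nat.pow 2 c) e = true → Nat.log2 e < 7 ∧ Nat.sub e (Nat.pow 2 (Nat.log2 e)) < 128 ∧
      nfL e = nfL (Nat.sub e (Nat.pow 2 (Nat.log2 e))) ++ [Nat.log2 e]) := by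
  decide +kernel

/-- collection from the left; `acc` lists the conjugated tails met so far. -/
def col (R : ℕ → List ℕ) (fuel : ℕ) : ℕ → List ℕ → List ℕ → (ℕ → List ℕ → Bool) → Bool :=
  Nat.rec (motive := fun _ => ℕ → List ℕ → List ℕ → (ℕ → List ℕ → Bool) → Bool)
    (fun _ _ _ _ => false)
    (fun _ ih e st acc k => List.rec (motive := fun _ => Bool) (k e acc) (fun c st' _ =>
      Bool.rec (motive := fun _ => Bool)
        (Bool.rec (motive := fun _ => Bool)
          (frc (Nat.add e (Nat.pow 2 c)) fun e' => ih e' st' acc k)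
          (frc (Nat.add (Nat.mul 7 (Nat.log2 e)) c) fun j =>
            frc (Nat.sub e (Nat.pow 2 (Nat.log2 e))) fun e' =>
            frc (Nat.add (Nat.mul e' 128) j) fun t => ih e' (R j ++ st') (t :: acc) k)
          (Nat.ble (Nat.pow 2 c) e))
        (band (Nat.ble c 83) (frc (Nat.add (Nat.mul e 128) (Nat.sub c 7)) fun t =>
          ih e st' (t :: acc) k)) (Nat.ble 7 c)) st) fuel

/-- collect two words to the same normal word. -/
def eqn (R : ℕ → List ℕ) (L L' acc : List ℕ) (k : List ℕ → Bool) : Bool :=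
  col R 1000 0 L acc fun e1 acc1 => col R 1000 0 L' acc1 fun e2 acc2 =>
    band (Nat.beq e1 e2) (k acc2)

/-- the `l`-th coordinate of the sum of the conjugated tails. -/
def form (row : ℕ → ℕ → ℕ) (acc : List ℕ) (l : ℕ) : ℕ :=
  List.rec (motive := fun _ => ℕ) 0 (fun t _ ih =>
    Nat.xor (Nat.shiftLeft (row (Nat.div t 128) l) (Nat.mul 11 (Nat.mod t 128))) ih) acc

variable {D : Type*} [Group D]

/-- value of a word. -/
def wv (x : ℕ → D) (l : List ℕ) : D := (l.map x).prod

@[simp] theorem wv_nil (x : ℕ → D) : wv x [] = 1 := rfl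
@[simp] theorem wv_cons (x : ℕ → D) (c : ℕ) (l : List ℕ) : wv x (c :: l) = x c * wv x l := rfl
theorem wv_append (x : ℕ → D) (l l' : List ℕ) : wv x (l ++ l') = wv x l * wv x l' := by
  simp [wv]
theorem wv_congr {x y : ℕ → D} {l : List ℕ} (h : ∀ c ∈ l, x c = y c) : wv x l = wv y l :=
  congrArg List.prod (List.map_congr_left h)
theorem wv_flatMap (x : ℕ → D) (s : ℕ → List ℕ) (l : List ℕ) :
    wv x (l.flatMap s) = wv (fun c => wv x (s c)) l := by
  induction l with
  | nil => rfl
  | cons c l ih => rw [List.flatMap_cons, wv_append, ih, wv_cons]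
theorem map_wv {D' : Type*} [Group D'] (φ : D →* D') (x : ℕ → D) (l : List ℕ) :
    φ (wv x l) = wv (fun c => φ (x c)) l := by
  induction l with
  | nil => simp
  | cons c l ih => rw [wv_cons, map_mul, ih, wv_cons]
theorem wv_conj (g : D) (x : ℕ → D) (l : List ℕ) :
    wv (fun c => g * x c * g⁻¹) l = g * wv x l * g⁻¹ :=
  (map_wv (MulAut.conj g).toMonoidHom x l).symm
theorem wv_mem {H : Subgroup D} {x : ℕ → D} {l : List ℕ} (h : ∀ c ∈ l, x c ∈ H) : wv x l ∈ H := by
  induction l with
  | nil => exact H.one_mem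
  | cons c l ih =>
    exact H.mul_mem (h c List.mem_cons_self) (ih fun d hd => h d (List.mem_cons_of_mem _ hd))

/-- generators and tails `x`, acting elements `X`, coordinates `lam`. -/
structure Ctx (N : Subgroup D) (lam : ℕ → D → ZMod 2) (x X : ℕ → D) (R : ℕ → List ℕ)
    (row : ℕ → ℕ → ℕ) : Prop where
  nrm : N.Normal
  add : ∀ l < 11, ∀ m ∈ N, ∀ n ∈ N, lam l (m * n) = lam l m + lam l n
  tail : ∀ j, x (7 + j) ∈ N
  nf : ∀ e < 128, X e = wv x (nfL e)
  rel : ∀ j < 7, ∀ i < 7, x j * x i = x (7 + (7 * j + i)) * wv x (R (7 * j + i))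
  act : ∀ u < 131, ∀ l < 11, ∀ n ∈ N,
    lam l (X u * n * (X u)⁻¹) = ∑ k ∈ range 11, bt (row u l) k * lam k n
  rlt : ∀ u l, row u l < 2 ^ 11

/-- the coordinates of the tails. -/
def av (lam : ℕ → D → ZMod 2) (x : ℕ → D) (b : ℕ) : ZMod 2 := lam (b % 11) (x (7 + b / 11))

variable {N : Subgroup D} {lam : ℕ → D → ZMod 2} {x X : ℕ → D} {R : ℕ → List ℕ}
  {row : ℕ → ℕ → ℕ}

theorem Ctx.form_cons (C : Ctx N lam x X R row) {u j l : ℕ} (hu : u < 131) (hj : j < 77)
    (hl : l < 11) (acc : List ℕ) : ev (av lam x) (form row ((u * 128 + j) :: acc) l) =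
      lam l (X u * x (7 + j) * (X u)⁻¹) + ev (av lam x) (form row acc l) := by
  have e1 : Nat.div (u * 128 + j) 128 = u := by show (u * 128 + j) / 128 = u; omega
  have e2 : Nat.mul 11 (Nat.mod (u * 128 + j) 128) = 11 * j := by
    show 11 * ((u * 128 + j) % 128) = _; omega
  rw [show form row ((u * 128 + j) :: acc) l = Nat.xor _ (form row acc l) from rfl, ev_xor, e1, e2,
    ev_shl _ (C.rlt u l) (by omega), C.act u hu l hl _ (C.tail j)]
  congr 1
  refine sum_congr rfl fun k hk => ?_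
  have := mem_range.1 hk
  rw [av, show (11 * j + k) % 11 = k by omega, show (11 * j + k) / 11 = j by omega]

theorem Ctx.one (C : Ctx N lam x X R row) {l : ℕ} (hl : l < 11) : lam l 1 = 0 := by
  simpa using C.add l hl 1 N.one_mem 1 N.one_mem

theorem Ctx.inv (C : Ctx N lam x X R row) {l : ℕ} (hl : l < 11) {n : D} (hn : n ∈ N) :
    lam l n⁻¹ = lam l n := by
  have := C.add l hl n hn _ (N.inv_mem hn)
  rw [mul_inv_cancel, C.one hl] at this
  rw [eq_neg_of_add_eq_zero_right this.symm, ZMod.neg_eq_self_mod_two]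

theorem Ctx.col_sound (C : Ctx N lam x X R row) {k : ℕ → List ℕ → Bool} (f : ℕ) :
    ∀ {e : ℕ} {st acc : List ℕ}, e < 128 → col R f e st acc k = true →
      ∃ e' acc', ∃ n ∈ N, k e' acc' = true ∧ X e * wv x st = n * X e' ∧
        ∀ l < 11, ev (av lam x) (form row acc' l) = lam l n + ev (av lam x) (form row acc l) := by
  induction f with
  | zero => intro e st acc _ h; exact absurd h Bool.false_ne_true
  | succ f ih =>
    intro e st acc he h
    cases st with
    | nil => exact ⟨e, acc, 1, N.one_mem, h, by simp, fun l hl => by rw [C.one hl, zero_add]⟩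
    | cons c st =>
      rcases brec_true h with ⟨h7, h⟩ | ⟨h7, h⟩
      · have hc : c < 7 := by
          rw [← Nat.not_le, ← Nat.ble_eq, h7]; exact Bool.false_ne_true
        rcases brec_true h with ⟨h1, h⟩ | ⟨h1, h⟩
        · obtain ⟨h2, h3⟩ := (nfL_step e he c hc).1 h1
          obtain ⟨e', acc', n, hn, h4, h5, h6⟩ := ih h2 h
          refine ⟨e', acc', n, hn, h4, ?_, h6⟩
          rw [← h5, C.nf _ h2, h3, wv_append, ← C.nf e he]
          simp [mul_assoc]
        · obtain ⟨h2, h3, h4⟩ := (nfL_step e he c hc).2 h1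
          obtain ⟨e', acc', n, hn, h5, h6, h7⟩ := ih h3 h
          set u := Nat.sub e (Nat.pow 2 (Nat.log2 e))
          have hm := C.nrm.conj_mem _ (C.tail (7 * e.log2 + c)) (X u)
          refine ⟨e', acc', _, N.mul_mem hm hn, h5, ?_, fun l hl => ?_⟩
          · rw [mul_assoc _ n, ← h6, C.nf e he, h4, wv_append, ← C.nf u h3, wv_append, wv_cons,
              wv_cons, wv_nil, mul_one, mul_assoc, ← mul_assoc (x _), C.rel _ h2 c hc]
            simp only [mul_assoc, inv_mul_cancel_left]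
            rfl
          · rw [h7 l hl, C.add l hl _ hm _ hn, add_assoc, add_left_comm]
            exact congrArg _ (C.form_cons (j := 7 * e.log2 + c) (by omega) (by omega) hl acc)
      · obtain ⟨h1, h⟩ := band_iff.1 h
        rw [Nat.ble_eq] at h1 h7
        obtain ⟨e', acc', n, hn, h5, h6, h8⟩ := ih he h
        obtain ⟨j, rfl⟩ := Nat.exists_eq_add_of_le h7
        have hm := C.nrm.conj_mem _ (C.tail j) (X e)
        refine ⟨e', acc', _, N.mul_mem hm hn, h5, ?_, fun l hl => ?_⟩
        · rw [mul_assoc _ n, ← h6, wv_cons]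
          simp only [mul_assoc, inv_mul_cancel_left]
        · rw [h8 l hl, C.add l hl _ hm _ hn, add_assoc, add_left_comm,
            show Nat.sub (7 + j) 7 = j from Nat.add_sub_cancel_left ..]
          exact congrArg _ (C.form_cons (by omega) (by omega) hl acc)

theorem Ctx.eqn_sound (C : Ctx N lam x X R row) {L L' acc : List ℕ} {k : List ℕ → Bool}
    (h : eqn R L L' acc k = true) : ∃ acc', k acc' = true ∧ wv x L * (wv x L')⁻¹ ∈ N ∧
      ∀ l < 11, ev (av lam x) (form row acc' l) =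
        lam l (wv x L * (wv x L')⁻¹) + ev (av lam x) (form row acc l) := by
  obtain ⟨e1, acc1, n1, hn1, h, h1, h2⟩ := C.col_sound _ (by decide) h
  obtain ⟨e2, acc2, n2, hn2, h, h3, h4⟩ := C.col_sound _ (by decide) h
  obtain ⟨h5, h6⟩ := band_iff.1 h
  obtain rfl := Nat.eq_of_beq_eq_true h5
  have h0 : X 0 = 1 := C.nf 0 (by decide)
  rw [h0, one_mul] at h1 h3
  have e : wv x L * (wv x L')⁻¹ = n1 * n2⁻¹ := by rw [h1, h3]; group
  refine ⟨acc2, h6, e ▸ N.mul_mem hn1 (N.inv_mem hn2), fun l hl => ?_⟩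
  rw [e, h4 l hl, h2 l hl, C.add l hl _ hn1 _ (N.inv_mem hn2), C.inv hl hn2]
  ring

end

end H72.TE
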