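import Cfsg.Agent.H86.TP.Spec
import Cfsg.Agent.H14.FEKit

/-! # S1308, slot TP-CL: collinear points give a non-full edge -/

set_option autoImplicit false

namespace H72.TpCL

open Cfsg Subgroup MulAction H14 H98 H1.Gold H31.S2 H14.GC H14.FE H14.NF H86.TP
open scoped commutatorElement

universe u

variable {G : Type u} [Group G] [Finite G]

theorem inv_syl {U Y : Subgroup G} (hU : IsPGroup 2 U) (hn : U ≤ nor Y) :
    ∃ R, IsSyl 2 R Y ∧ U ≤ nor R ∧ ∀ x ∈ U, x ∈ Y → x ∈ R := by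
  obtain ⟨P, -, hl, hs⟩ := exists_inv_syl hU hn
  exact ⟨P ⊓ Y, hs, le_normalizer_inf (hl.trans le_normalizer) hn, fun x h1 h2 => ⟨hl h1, h2⟩⟩

theorem so_facts {Q E : Subgroup G} (gq : GQ Q) (h : So Q E) :
    E ≤ Q ∧ IsPGroup 2 E ∧ El E ∧ E ≠ ⊥ ∧ E ≤ cen E ∧ cen E ≤ nor Q := by
  obtain ⟨R, hR, rfl⟩ := h
  have hle : OZ R ≤ R := fun z hz => hz.1
  obtain ⟨d, hd, d2⟩ := four_exists_inv (gq.four R hR)
  refine ⟨hle.trans hR.le, hR.isPGroup.to_le hle, fun z hz => hz.2.1,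
    fun e => d2.1 (mem_bot.1 (e ▸ hd)), fun z hz => mem_centralizer_iff.2 fun x hx => hz.2.2 x hx.1,
    fun g hg => ?_⟩
  have hdQ : d ∈ Q := hR.le (hle hd)
  by_contra hc
  refine ni_of_odd (gq.tq.te.2 g hc) d ⟨hdQ, ?_⟩ d2
  have h1 := conj_mem_cj (g := g) hdQ
  rwa [← mem_centralizer_iff.1 hg d hd, mul_inv_cancel_right] at h1

theorem jCL : JobCL.{u} := by
  intro cj0 ld0 lp0 hk gq0 so G _ _ Q tq E hE Q₁ E₁ Q₂ E₂ c
  have : Fact (Nat.Prime 2) := ⟨Nat.prime_two⟩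
  have s0 := (so G Q (gq0 G Q tq) E hE).2.2
  obtain ⟨v1, s1, c1⟩ := s0 Q₁ E₁ c.p1
  obtain ⟨v2, s2, c2⟩ := s0 Q₂ E₂ c.p2
  have tq1 := cj0 G Q tq Q₁ v1
  have gq1 := gq0 G Q₁ tq1
  have gq2 := gq0 G Q₂ (cj0 G Q tq Q₂ v2)
  have so1 := (so G Q₁ gq1 E₁ s1).1
  have v12 : Vx Q₁ Q₂ := by
    obtain ⟨g, hg⟩ := v1.exists_cj v2
    exact ⟨g, hg.symm⟩
  obtain ⟨a1, a2, a3, -, a5, a6⟩ := so_facts gq1 s1
  obtain ⟨b1, b2, -, b4, -, b6⟩ := so_facts gq2 s2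
  have c12 : E₁ ≤ cen E₂ := le_centralizer_iff.1 c.comm
  have hU : IsPGroup 2 (E₂ ⊔ E₁ : Subgroup G) :=
    b2.to_sup_of_normal_right' a2 (c.comm.trans (centralizer_le_normalizer _))
  have hH : E₂ ≤ Q₂ ⊓ nor Q₁ := le_inf b1 (c.comm.trans a6)
  obtain ⟨T, hT, hTn, hTm⟩ := inv_syl (Y := Q₂ ⊓ nor Q₁) hU (sup_le (hH.trans le_normalizer)
    (le_normalizer_inf (c12.trans b6) ((a1.trans le_normalizer).trans le_normalizer)))
  have hET : E₂ ≤ T := fun x hx => hTm x (mem_sup_left hx) (hH hx)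
  obtain ⟨R, hR, hRn, hRm⟩ := inv_syl (Y := Q₁)
    (a2.to_sup_of_normal_right' hT.isPGroup (le_sup_right.trans hTn))
    (sup_le (a1.trans le_normalizer) (hT.le.trans inf_le_right))
  have hER : E₁ = OZ R := so1 R hR fun x hx => hRm x (mem_sup_left hx) (a1 hx)
  have L := ld0 G Q₁ tq1 Q₂ T R v12 c.ne.symm hT (fun e => b4 (le_bot_iff.1 (e ▸ hET))) hR
    (le_sup_right.trans hRn)
  have nf : ¬ IsSyl 2 T Q₂ := by
    intro hf
    have hRT := L.1 hf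
    obtain ⟨y, hy, -, hy2, hy3⟩ := c.mv
    have hRc : R ≤ cen E₁ := fun r hr => mem_centralizer_iff.2 fun x hx =>
      ((hER.le hx).2.2 r hr).symm
    have hRt : ∀ r ∈ R, ∀ t ∈ E₂, t * r = r * t := fun r hr t ht =>
      mem_centralizer_iff.1 (hRT hr) t (hET ht)
    have hRD : R ≤ Q₁ ⊓ cen E₁ ⊓ stab E₂ E₁ := fun r hr =>
      ⟨⟨hR.le hr, hRc hr⟩, centralizer_le_normalizer _ (hRc hr), fun t ht => by
        rw [commutatorElement_eq_one_iff_mul_comm.2 (hRt r hr t ht)]; exact one_mem _⟩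
    refine hy3 (mem_centralizer_iff.2 fun t ht => ?_)
    have := hk G (Q₁ ⊓ cen E₁ ⊓ stab E₂ E₁) E₁ R t a3 (inf_le_left.trans inf_le_right)
      (fun d hd => hd.2.2 t ht) (hR.of_le hRD (inf_le_left.trans inf_le_left))
      (fun r hr => mem_centralizer_iff.2 fun x hx => by
        rw [Set.mem_singleton_iff.1 hx]; exact hRt r hr t ht)
    exact mem_centralizer_iff.1 (this ⟨hy, centralizer_le_normalizer _ hy.2, hy2⟩) t rfl
  have hLD := L.2 nf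
  have e1 := (gq1.ld _ _ _ _ _ (lp0 G Q₁ _ _ _ _ hLD)).1
  have e2 : E₂ = T := eq_of_le_of_card_ge hET (by rw [← hLD.card, e1, ← hER, c1, c2])
  subst e2
  refine ⟨hT, fun Y hY hYc hYm => ?_⟩
  have hYn : Y ≤ nor (E₂ ⊔ E₁) := by
    refine le_normalizer_iff_commutator_le_left.2 (commutator_sup_left_le
      (le_sup_left.trans le_normalizer) (le_sup_right.trans le_normalizer) ?_ ?_)
    · exact commutator_le.2 fun a ha b hb => mem_sup_right (hYm a ha b hb)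
    · exact commutator_le.2 fun a ha b hb =>
        mem_sup_right (comm_mem_left ha (centralizer_le_normalizer _ (hYc hb)))
  obtain ⟨R', hR', hn', hm'⟩ := inv_syl (Y := Q₁) (hY.to_sup_of_normal_right' hU hYn)
    ((sup_le hYc (sup_le c.comm a5)).trans a6)
  have hER' : E₁ = OZ R' := so1 R' hR' fun x hx => hm' x (mem_sup_right (mem_sup_right hx)) (a1 hx)
  have hLP := lp0 G Q₁ _ _ _ _ ((ld0 G Q₁ tq1 Q₂ E₂ R' v12 c.ne.symm hT b4 hR'
    ((le_sup_left.trans le_sup_right).trans hn')).2 nf)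
  have e3 := (gq1.ld _ _ _ _ _ hLP).1
  rw [e3, ← hER'] at hLP
  exact ⟨R', _, hLP, le_sup_left.trans hn'⟩

end H72.TpCL
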