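import Cfsg.Agent.H72.U5Mat

/-! U5 tower, job Real: the group `SU₅ . Γ`. -/

set_option autoImplicit false
set_option linter.unusedSectionVars false
set_option linter.unusedSimpArgs false

open Subgroup H90.U5 Matrix SemidirectProduct

universe v

namespace H72.U5

variable {K : Type*} [Field K] [Finite K] {T : BF K}

variable (K) in
/-- the field automorphisms on matrices -/
def ψ5 : RingAut K →* MulAut (GL (Fin 5) K) where
  toFun φ := Units.mapEquiv (RingEquiv.mapMatrix (m := Fin 5) φ).toMulEquiv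
  map_one' := rfl
  map_mul' _ _ := rfl

theorem ψ5_val (φ : RingAut K) (M : GL (Fin 5) K) : (ψ5 K φ M : M5 K) = (M : M5 K).map φ := rfl

variable (K) in
/-- the semilinear group -/
abbrev ΓL : Type _ := GL (Fin 5) K ⋊[ψ5 K] RingAut K

instance instFiniteΓL : Finite (ΓL K) :=
  haveI : Finite (RingAut K) := Finite.of_injective (fun φ : RingAut K => (φ : K → K)) DFunLike.coe_injective
  Finite.of_equiv _ SemidirectProduct.equivProd.symm

theorem ψ5_κ0 (φ : RingAut K) (x : Kˣ × Kˣ) : ψ5 K φ (κ0 T x) = κ0 T (ψ K φ x) := by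
  refine Units.ext ?_
  rw [ψ5_val, κ0_val, κ0_val, diagonal_map (map_zero _)]
  congr 1
  ext i
  fin_cases i <;> simp [ψ_fst, ψ_snd, T.comm]

theorem ψ5_ι0 (φ : RingAut K) (u : Co T) : ψ5 K φ (ι0 T u) = ι0 T (fa T φ u) := by
  refine Units.ext ?_
  rw [ψ5_val, ι0_val, ι0_val]
  ext i j
  fin_cases i <;> fin_cases j <;> simp [mat, fa, T.comm]

theorem ψ5_mem (φ : RingAut K) {M : GL (Fin 5) K} (h : M ∈ SU T) : ψ5 K φ M ∈ SU T := by
  obtain ⟨h1, h2⟩ := (mem_SU T).1 h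
  refine (mem_SU T).2 ⟨?_, ?_⟩
  · rw [mem_GU, ψ5_val]
    ext i j
    have := congrArg φ ((form T M i j).symm.trans (congrFun₂ h1 i j))
    rw [form]
    simp only [map_add, map_sub, map_mul, T.comm] at this
    refine this.trans ?_
    fin_cases i <;> fin_cases j <;> simp [JJ]
  · exact (φ.toRingHom.map_det (M : M5 K)).symm.trans (by rw [h2, map_one])

variable (T) in
/-- the diagonal and field automorphisms -/
def κ : DD K →* ΓL K :=
  SemidirectProduct.map (κ0 T) (MonoidHom.id _) fun φ => MonoidHom.ext fun x => (ψ5_κ0 φ x).symm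

theorem κ_inl (x : Kˣ × Kˣ) : κ T (inl x) = inl (κ0 T x) := map_inl _ _ _ _

theorem κ_conj (δ : DD K) (M : GL (Fin 5) K) :
    κ T δ * inl M * (κ T δ)⁻¹ = inl (κ0 T δ.left * ψ5 K δ.right M * (κ0 T δ.left)⁻¹) := by
  have : κ T δ = inl (κ0 T δ.left) * inr δ.right := (inl_left_mul_inr_right _).symm
  rw [this, map_mul, map_mul, inl_aut, map_inv, map_inv]
  group

theorem κ_ι (δ : DD K) (u : Co T) : κ T δ * inl (ι0 T u) * (κ T δ)⁻¹ = inl (ι0 T (sd T δ u)) := by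
  rw [κ_conj, ψ5_ι0, κ0_conj, mul_inv_cancel_right]; rfl

theorem SU_conj {D M : GL (Fin 5) K} (hD : D ∈ GU T) (h : M ∈ SU T) : D * M * D⁻¹ ∈ SU T :=
  mem_inf.2 ⟨(GU T).mul_mem ((GU T).mul_mem hD h.1) ((GU T).inv_mem hD),
    (MonoidHom.normal_ker _).conj_mem _ h.2 _⟩

variable (T) in
/-- the realizing group -/
def GG (Γ : Subgroup (DD K)) : Subgroup (ΓL K) := (SU T).map inl ⊔ Γ.map (κ T)

theorem mem_GG {Γ : Subgroup (DD K)} {g : ΓL K} (h : g ∈ GG T Γ) :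
    ∃ M ∈ SU T, ∃ δ ∈ Γ, g = inl M * κ T δ := by
  have hn : Γ.map (κ T) ≤ normalizer ((SU T).map (inl : _ →* ΓL K) : Set (ΓL K)) := by
    rintro _ ⟨δ, -, rfl⟩
    refine mem_normalizer_fintype ?_
    rintro _ ⟨M, hM, rfl⟩
    exact ⟨_, SU_conj (κ0_mem _) (ψ5_mem _ hM), (κ_conj δ M).symm⟩
  have : g ∈ (GG T Γ : Set (ΓL K)) := h
  rw [GG, coe_mul_of_right_le_normalizer_left _ _ hn] at this
  obtain ⟨_, ⟨M, hM, rfl⟩, _, ⟨δ, hδ, rfl⟩, rfl⟩ := this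
  exact ⟨M, hM, δ, hδ, rfl⟩

/-- the normalizer of `U` -/
theorem nor_dec {Γ : Subgroup (DD K)} (h1 : ∀ s, inl (t1 T s) ∈ Γ) (h2 : ∀ s, inl (t2 s) ∈ Γ) {g : ΓL K}
    (h : g ∈ GG T Γ) (hn : ∀ u, ∃ w, g⁻¹ * inl (ι0 T u) * g = inl (ι0 T w)) :
    ∃ u z, ∃ δ ∈ Γ, g = inl (ι0 T u * sc z) * κ T δ := by
  obtain ⟨M, hM, δ, hδ, rfl⟩ := mem_GG h
  obtain ⟨w, hw⟩ := hn (xa T 1 * xb T 1)
  have e : ι0 T (xa T 1 * xb T 1) * M = M * ι0 T (sd T δ w) := by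
    apply inl_injective (φ := ψ5 K)
    rw [map_mul, map_mul (inl : _ →* ΓL K), ← κ_ι, ← hw]
    group
  obtain ⟨u, z, r, s, rfl⟩ := dec hM (tri_of (congrArg Units.val e))
  refine ⟨u, z, inl (t2 r * t1 T s) * δ, mul_mem (by rw [map_mul]; exact mul_mem (h2 r) (h1 s)) hδ, ?_⟩
  rw [map_mul (κ T), κ_inl, map_mul, mul_assoc]

theorem act (u : Co T) (z : Kˣ) (δ : DD K) (w : Co T) :
    inl (ι0 T u * sc z) * κ T δ * inl (ι0 T w) * (inl (ι0 T u * sc z) * κ T δ)⁻¹ =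
      inl (ι0 T (u * sd T δ w * u⁻¹)) := by
  have : ι0 T (u * sd T δ w * u⁻¹) = ι0 T u * sc z * ι0 T (sd T δ w) * (ι0 T u * sc z)⁻¹ := by
    rw [mul_assoc _ (sc z), sc_comm, map_mul, map_mul, map_inv]; group
  rw [this]
  generalize ι0 T u * sc z = N
  rw [map_mul, map_mul, ← κ_ι, map_inv]
  group

theorem act_pow {G : Type*} [Group G] {ι : Co T →* G} {g : G} {u : Co T} {δ : DD K}
    (h : ∀ w, g * ι w * g⁻¹ = ι (u * sd T δ w * u⁻¹)) (n : ℕ) :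
    ∃ s, ∀ w, g ^ n * ι w * (g ^ n)⁻¹ = ι (s * sd T (δ ^ n) w * s⁻¹) := by
  induction n with
  | zero => exact ⟨1, fun w => by simp [sd_one]⟩
  | succ n ih =>
    obtain ⟨s, hs⟩ := ih
    refine ⟨u * sd T δ s, fun w => ?_⟩
    rw [pow_succ', pow_succ', ← sd_sd, show g * g ^ n * ι w * (g * g ^ n)⁻¹ = g * (g ^ n * ι w * (g ^ n)⁻¹) * g⁻¹ by
      group, hs, h, (au_sd δ).conj trivial trivial]
    congr 1
    group

theorem eq_one_of_inner {δ : DD K} {s : Co T} (h : ∀ w, w = s * sd T δ w * s⁻¹) : δ = 1 := by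
  have ha : ∀ t, t = δ.left.1 * δ.right t := fun t => by
    simpa [sd_a, xa] using congrArg Co.a (h (xa T t))
  have hb : (1 : K) = δ.left.2 := by
    simpa [sd_b, xb] using congrArg Co.b (h (xb T 1))
  have h1 : (1 : K) = δ.left.1 := by simpa using ha 1
  refine SemidirectProduct.ext (Prod.ext (Units.ext h1.symm) (Units.ext hb.symm)) (RingEquiv.ext fun t => ?_)
  have := ha t
  rw [← h1, one_mul] at this
  exact this.symm

theorem pel (p : ℕ) [Fact p.Prime] [CharP K p] {Γ : Subgroup (DD K)} (hΓ : (Nat.card Γ).Coprime p)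
    {u : Co T} {z : Kˣ} {δ : DD K} (hδ : δ ∈ Γ) {k : ℕ} (h : (inl (ι0 T u * sc z) * κ T δ) ^ p ^ k = 1) :
    inl (ι0 T u * sc z) * κ T δ = inl (ι0 T u) := by
  obtain ⟨s, hs⟩ := act_pow (ι := (inl : _ →* ΓL K).comp (ι0 T)) (act u z δ) (p ^ k)
  have h1 : δ ^ p ^ k = 1 := eq_one_of_inner (s := s) fun w => by
    have := hs w
    rw [h, one_mul, inv_one, mul_one] at this
    exact ι0_inj (inl_injective this)
  have h2 : δ = 1 := by
    have d1 := orderOf_dvd_of_pow_eq_one h1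
    have d2 := Γ.orderOf_dvd_natCard hδ
    exact orderOf_eq_one_iff.1 (Nat.eq_one_of_dvd_coprimes (hΓ.pow_right k) d2 d1)
  subst h2
  rw [map_one, mul_one] at h ⊢
  rw [← map_pow, (Commute.symm (sc_comm z _)).mul_pow, ← map_pow, sc, ← map_pow,
    map_eq_one_iff _ inl_injective] at h
  have h3 := congrArg (fun N : GL (Fin 5) K => (N : M5 K) 0 0) h
  simp only [Units.val_mul, dU_val, mul_diagonal, ι0_val] at h3
  have h4 : (z : K) ^ p ^ k = 1 := by simpa [mat] using h3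
  have h5 : ((z : K) - 1) ^ p ^ k = 0 := by rw [sub_pow_char_pow, h4, one_pow, sub_self]
  have h6 : z = 1 := Units.ext (sub_eq_zero.1 (pow_eq_zero_iff (NeZero.ne _) |>.1 h5))
  rw [h6, show sc (1 : Kˣ) = 1 from map_one dU, mul_one]

theorem real (p : ℕ) [Fact p.Prime] [CharP K p] (Γ : Subgroup (DD K)) (hΓ : (Nat.card Γ).Coprime p)
    (h1 : ∀ s, inl (t1 T s) ∈ Γ) (h2 : ∀ s, inl (t2 s) ∈ Γ) :
    ∃ ι : Co T →* GG T Γ, (∀ u, (ι u : ΓL K) = inl (ι0 T u)) ∧ Rl T p Γ ι := by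
  have hS : ∀ M ∈ SU T, (inl M : ΓL K) ∈ GG T Γ := fun M hM => mem_sup_left ⟨M, hM, rfl⟩
  let ι : Co T →* GG T Γ := ((inl : _ →* ΓL K).comp (ι0 T)).codRestrict _ fun u => hS _ (ι0_mem u)
  have hn : ∀ g ∈ normalizer (ι.range : Set (GG T Γ)),
      ∃ u z, ∃ δ ∈ Γ, (g : ΓL K) = inl (ι0 T u * sc z) * κ T δ := fun g hg =>
    nor_dec h1 h2 g.2 fun u => by
      obtain ⟨w, hw⟩ := (mem_normalizer_iff''.1 hg (ι u)).1 ⟨u, rfl⟩
      exact ⟨w, (congrArg Subtype.val hw).symm⟩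
  refine ⟨ι, fun _ => rfl, fun u w e => ι0_inj (inl_injective (congrArg Subtype.val e)), ?_, fun g hg => ?_,
    fun δ hδ => ⟨⟨κ T δ, mem_sup_right ⟨δ, hδ, rfl⟩⟩, fun u => Subtype.ext (κ_ι δ u)⟩,
    ⟨⟨_, hS _ n1_mem⟩, fun u hu => Subtype.ext ?_⟩, ⟨⟨_, hS _ n2_mem⟩, fun u hu => Subtype.ext ?_⟩⟩
  · refine ⟨⟨ι.range, (pgroup_Co p).of_surjective _ ι.rangeRestrict_surjective, fun {Q} hQ hle => ?_⟩, rfl⟩
    by_contra hne
    obtain ⟨x, hx, hxn, hx'⟩ := H92.exists_mem_normalizer_not_mem hQ (lt_of_le_of_ne hle (Ne.symm hne))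
    obtain ⟨u, z, δ, hδ, e⟩ := hn x hxn
    obtain ⟨k, hk⟩ := hQ ⟨x, hx⟩
    have h3 : (x : ΓL K) ^ p ^ k = 1 := congrArg (fun y : Q => ((y : GG T Γ) : ΓL K)) hk
    rw [e] at h3
    exact hx' ⟨u, Subtype.ext (e.trans (pel p hΓ hδ h3)).symm⟩
  · obtain ⟨u, z, δ, hδ, e⟩ := hn g hg
    exact ⟨u, δ, hδ, fun w => Subtype.ext ((by rw [← e]; rfl : _ = _).trans (act u z δ w))⟩
  · show (inl n1 * inl (ι0 T u) * (inl n1)⁻¹ : ΓL K) = inl (ι0 T u.nu1)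
    rw [← map_mul, n1_conj hu, map_mul, mul_inv_cancel_right]
  · show (inl n2 * inl (ι0 T u) * (inl n2)⁻¹ : ΓL K) = inl (ι0 T u.nu2)
    rw [← map_mul, n2_conj hu, map_mul, mul_inv_cancel_right]

theorem jobReal : JobReal.{v} := fun p _ _ _ _ _ T Γ hΓ h1 h2 =>
  let ⟨ι, _, h⟩ := real p Γ hΓ h1 h2
  ⟨GG T Γ, inferInstance, inferInstance, ι, h⟩

end H72.U5
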